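import Cfsg.Agent.L45.Aut

/-!
# Recognition of `L₄(q)`: Sylow 2-subgroups, transfer and odd cores
-/

set_option autoImplicit false

namespace Cfsg.Lib.L45

open Matrix Cfsg.Lib.Class Cfsg.Lib.Rank2.Lin Cfsg.Lib.Trans Subgroup
open scoped MatrixGroups commutatorElement

universe u v

variable {G : Type u} [Group G] {F : Type v} [Field F]

/-- A matrix of order four anticommuting with `mW`. -/
def slY {a b : F} (h : a ^ 2 + b ^ 2 = -1) : SL(2, F) :=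
  ⟨!![a, b; b, -a], by rw [det_fin_two_of]; linear_combination -h⟩

@[simp] theorem coe_slY {a b : F} (h : a ^ 2 + b ^ 2 = -1) : (slY h : M2 F) = !![a, b; b, -a] := rfl

theorem slY_sq {a b : F} (h : a ^ 2 + b ^ 2 = -1) : slY h * slY h = -1 := by
  ext i j
  fin_cases i <;> fin_cases j <;> simp [mul_apply, Fin.sum_univ_two] <;>
    first | linear_combination h | ring

theorem slY_N {a b : F} (h : a ^ 2 + b ^ 2 = -1) : slY h * slN 1 * (slY h)⁻¹ = (slN 1)⁻¹ := by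
  rw [inv_eq_of_mul_eq_one_right (slN_mul_neg (1 : Fˣ)), mul_inv_eq_iff_eq_mul]
  ext i j
  fin_cases i <;> fin_cases j <;> simp [mul_apply, Fin.sum_univ_two]

theorem scalar_of_comm (h2 : (2 : F) ≠ 0) {a b : F} (h : a ^ 2 + b ^ 2 = -1) {A : M2 F}
    (hW : A * (slN (1 : Fˣ) : M2 F) = (slN (1 : Fˣ) : M2 F) * A)
    (hY : A * (slY h : M2 F) = (slY h : M2 F) * A) : ∃ c, A = dg c c := by
  have h1 := congrFun (congrFun hW 0) 0
  have h3 := congrFun (congrFun hW 0) 1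
  have h4 := congrFun (congrFun hY 0) 0
  have h5 := congrFun (congrFun hY 0) 1
  simp [mul_apply, Fin.sum_univ_two] at h1 h3 h4 h5
  have h6 : A 0 1 = 0 := mul_left_cancel₀ h2 (by
    linear_combination 2 * A 0 1 * h - b * h4 + a * h5 + b * b * h1 - a * b * h3)
  refine ⟨A 0 0, ?_⟩
  ext i j
  fin_cases i <;> fin_cases j <;> simp [dg, h6, ← h1, h3]

theorem pgroup_zpowers {x : G} {k : ℕ} (h : x ^ 2 ^ k = 1) : IsPGroup 2 (zpowers x) := by
  rintro ⟨_, n, rfl⟩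
  exact ⟨k, Subtype.ext (by
    change (x ^ n) ^ 2 ^ k = 1
    rw [← _root_.zpow_natCast, ← _root_.zpow_mul, mul_comm, _root_.zpow_mul, _root_.zpow_natCast, h,
      _root_.one_zpow])⟩

theorem cs_eq_iff {A : M2 F} (h : A.det ≠ 0) {s : SL(2, F)} :
    cs A h s = s ↔ A * (s : M2 F) = s * A :=
  ⟨fun e => by rw [← inv_mul_cancel_right_m h (A * s), ← coe_cs h, e],
    fun e => Subtype.ext (by rw [coe_cs, e, mul_inv_cancel_right_m h])⟩

namespace LD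

variable (L : LD G F) {x : G}

include L in
theorem exists_sq_add_sq : ∃ a b : F, a ^ 2 + b ^ 2 = -1 := by
  have := L.finF
  have : NeZero (ringChar F) := ⟨CharP.ringChar_ne_zero_of_finite F⟩
  obtain ⟨a, b, h⟩ := CharP.sq_add_sq F (ringChar F) (-1)
  exact ⟨a, b, by simpa using h⟩

theorem scal_of_comm {a b : F} (h : a ^ 2 + b ^ 2 = -1)
    (h1 : x * L.φ1 (slN 1) = L.φ1 (slN 1) * x) (h2 : x * L.φ1 (slY h) = L.φ1 (slY h) * x)
    (h3 : x * L.φ3 (slN 1) = L.φ3 (slN 1) * x) (h4 : x * L.φ3 (slY h) = L.φ3 (slY h) * x) :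
    ∃ a b : F, a * a * (b * b) = 1 ∧ x = L.P (dg a a) (dg b b) := by
  have hC : x ∈ L.C := L.mem_C.2 (by rw [← L.n1_sq, n1, ← mul_assoc, h1, mul_assoc, h1, mul_assoc])
  rw [← mul_inv_eq_iff_eq_mul] at h1 h2 h3 h4
  obtain ⟨A, B, hAB, rfl | rfl⟩ := L.mem_C_iff.1 hC
  · rw [L.conj_φ1 hAB] at h1 h2
    rw [L.conj_φ3 hAB] at h3 h4
    obtain ⟨c, rfl⟩ := scalar_of_comm L.two_ne h ((cs_eq_iff _).1 (L.inj1 h1))
      ((cs_eq_iff _).1 (L.inj1 h2))
    obtain ⟨d, rfl⟩ := scalar_of_comm L.two_ne h ((cs_eq_iff _).1 (L.inj3 h3))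
      ((cs_eq_iff _).1 (L.inj3 h4))
    exact ⟨c, d, by simpa [Ok] using hAB, rfl⟩
  · have h5 : L.φ1 (slN 1) = L.φ3 (cs B hAB.ne₂ (slN 1)) := by
      rw [← L.conj_φ3 hAB, ← L.σ_φ1]; exact h1.symm.trans (by group)
    rcases L.eq_of_φ1_eq_φ3 h5 with e | e <;>
      simpa using congrArg (fun g : SL(2, F) => g 0 1) e.1

theorem eq_t_of_sq {a b : F} (h : a * a * (b * b) = 1)
    (h2 : L.P (dg a a) (dg b b) * L.P (dg a a) (dg b b) = 1) :
    L.P (dg a a) (dg b b) = 1 ∨ L.P (dg a a) (dg b b) = L.t := by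
  rw [L.mul (ok_dg h) (ok_dg h), L.eq_one ((ok_dg h).mul (ok_dg h))] at h2
  obtain ⟨c, h3, h4⟩ := h2
  rw [dg_mul, dg_self] at h3 h4
  rcases mul_self_eq_mul_self_iff.1 ((smul_one_inj h3).trans (smul_one_inj h4).symm) with rfl | rfl
  · exact .inl ((L.eq_one (ok_dg h)).2 ⟨a, dg_self a, dg_self a⟩)
  · exact .inr ((L.P_eq_iff (ok_dg h) ok_t).2 ⟨b, by simp [dg_self], dg_self b⟩)

/-- An element of order at most two centralizing both factors. -/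
theorem eq_t_of_comm (h1 : ∀ s, x * L.φ1 s = L.φ1 s * x) (h3 : ∀ s, x * L.φ3 s = L.φ3 s * x)
    (h2 : x * x = 1) : x = 1 ∨ x = L.t := by
  obtain ⟨a, b, h⟩ := L.exists_sq_add_sq
  obtain ⟨c, d, e, rfl⟩ := L.scal_of_comm h (h1 _) (h1 _) (h3 _) (h3 _)
  exact L.eq_t_of_sq e h2

end LD

section Syl

variable [Finite G]

theorem zstar_Rc {A : Subgroup G} {a g : G} (ha : a ∈ centralizer (A : Set G)) (h2 : orderOf a = 2)
    (iso : ∀ v ∈ centralizer (A : Set G), v * a = a * v → IsConj a v → v = a)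
    (hg : g ∈ centralizer (A : Set G)) : a * g * a⁻¹ * g⁻¹ ∈ FWR.Rc A :=
  ⟨_, Block.Princ.zstar (z := (⟨_, ha⟩ : centralizer (A : Set G))) ⟨by rwa [orderOf_mk],
    fun c hc => Subtype.ext (iso _ (c * ⟨_, ha⟩ * c⁻¹).2 (congrArg Subtype.val hc.eq).symm
      (isConj_iff.2 ⟨c, rfl⟩))⟩ ⟨g, hg⟩, rfl⟩

theorem mem_Rc {A : Subgroup G} {a y : G} (ha : a ∈ centralizer (A : Set G)) (h2 : orderOf a = 2)
    (iso : ∀ v ∈ centralizer (A : Set G), v * a = a * v → IsConj a v → v = a)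
    (hy : y ∈ centralizer (A : Set G)) (ho : Odd (orderOf y)) (h : a * y * a⁻¹ = y⁻¹) :
    y ∈ FWR.Rc A := by
  have h1 := zstar_Rc ha h2 iso hy
  rw [h, ← _root_.mul_inv_rev, inv_mem_iff] at h1
  exact FWR.mem_of_mul_self_mem ho h1

theorem exists_inv_of_not_le {A : Subgroup G} {a : G} (ha : a ∈ centralizer (A : Set G))
    (h2 : orderOf a = 2)
    (iso : ∀ v ∈ centralizer (A : Set G), v * a = a * v → IsConj a v → v = a)
    (h : ¬ centralizer (A : Set G) ≤ centralizer {a}) :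
    ∃ y ∈ FWR.Rc A, y ≠ 1 ∧ a * y * a⁻¹ = y⁻¹ := by
  obtain ⟨g, hg, hg'⟩ := SetLike.not_le_iff_exists.1 h
  have h3 : a * a = 1 := by rw [← sq, ← h2, pow_orderOf_eq_one]
  refine ⟨_, zstar_Rc ha h2 iso hg, fun e => hg' (mem_centralizer_singleton_iff.2
    (mul_inv_eq_iff_eq_mul.1 (mul_inv_eq_one.1 e)).symm), ?_⟩
  calc _ = a * a * (g * a⁻¹ * g⁻¹ * a⁻¹) := by group
    _ = g * (a * a) * a⁻¹ * g⁻¹ * a⁻¹ := by rw [h3, one_mul, mul_one]
    _ = _ := by group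

omit [Finite G] in
theorem Rc_le {A : Subgroup G} : FWR.Rc A ≤ centralizer (A : Set G) := map_subtype_le _

theorem Rc_odd {A : Subgroup G} : Odd (Nat.card (FWR.Rc A)) := by
  rw [FWR.Rc, card_map_of_injective (subtype_injective _)]
  exact Solv.odd_card_oddCore _

omit [Finite G] in
theorem N_Rc {A : Subgroup G} : normalizer (A : Set G) ≤ normalizer (FWR.Rc A : Set G) :=
  (normalizer_le_normalizer_centralizer _).trans (Solv.normalizer_le_normalizer_map_pPrimeCore 2 _)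

namespace LD

variable (L : LD G F) {v : G}

theorem exists_sylow : ∃ S, IsSylowIn 2 S ⊤ ∧ L.t ∈ S ∧ S ≤ L.C := by
  have := L.finF
  obtain ⟨a, b, h⟩ := L.exists_sq_add_sq
  have k {x : SL(2, F)} (hx : x * x = -1) : IsPGroup 2 (zpowers x) :=
    pgroup_zpowers (k := 2) (by rw [show 2 ^ 2 = 2 * 2 from rfl, pow_mul, sq, sq, hx]; simp)
  have hQ := IsPGroup.to_sup_of_normal_right' (k (slY_sq h)) (k (slN_mul_self 1))
    (zpowers_le.2 (mem_normalizer_of_cj_le (by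
      rw [cj_zpowers, zpowers_le, slY_N]; exact inv_mem (mem_zpowers _))))
  obtain ⟨S, hS, hle⟩ := exists_isSylowIn_ge (IsPGroup.to_sup_of_normal_right' (hQ.map L.φ1)
    (hQ.map L.φ3) (by
      rintro _ ⟨s, -, rfl⟩
      refine centralizer_le_normalizer _ ?_
      rintro _ ⟨r, -, rfl⟩
      exact (L.comm13 s r).symm)) le_top
  have m1 {s} (hs : s ∈ zpowers (slY h) ⊔ zpowers (slN 1)) : L.φ1 s ∈ S :=
    hle (mem_sup_left ⟨s, hs, rfl⟩)
  have m3 {s} (hs : s ∈ zpowers (slY h) ⊔ zpowers (slN 1)) : L.φ3 s ∈ S :=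
    hle (mem_sup_right ⟨s, hs, rfl⟩)
  have mN : slN 1 ∈ zpowers (slY h) ⊔ zpowers (slN 1) := mem_sup_right (mem_zpowers _)
  have mY : slY h ∈ zpowers (slY h) ⊔ zpowers (slN 1) := mem_sup_left (mem_zpowers _)
  have mt : L.t ∈ S := L.n1_sq ▸ mul_mem (m1 mN) (m1 mN)
  obtain ⟨z, -, hz2, hz⟩ := Fus.Grp.exists_central_invol hS.isPGroup le_rfl
    (fun e => L.t_ne_one (mem_bot.1 (e ▸ mt))) fun s hs x hx => mul_mem (mul_mem hs hx) (inv_mem hs)
  obtain ⟨c, d, e, rfl⟩ := L.scal_of_comm h (hz _ (m1 mN)).symm (hz _ (m1 mY)).symm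
    (hz _ (m3 mN)).symm (hz _ (m3 mY)).symm
  rcases L.eq_t_of_sq e (by rw [← sq, ← hz2, pow_orderOf_eq_one]) with e1 | e1
  · simp [e1] at hz2
  · exact ⟨S, hS, mt, fun s hs => L.mem_C.2 (e1 ▸ hz s hs)⟩

theorem odd_index : Odd L.C.index := by
  obtain ⟨S, hS, -, h⟩ := L.exists_sylow
  have := hS.not_dvd_relIndex_of_le h
  rwa [relIndex_top_right, ← even_iff_two_dvd, Nat.not_even_iff_odd] at this

theorem twoCentral : IsTwoCentralInvolution L.t := by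
  obtain ⟨S, hS, h1, h⟩ := L.exists_sylow
  obtain ⟨S, rfl⟩ := hS.exists_sylow_eq
  exact ⟨L.orderOf_t, S, h1, fun x hx => L.mem_C.1 (h hx)⟩

theorem conj_into {R : Subgroup G} (hR : IsPGroup 2 R) : ∃ g, cj g R ≤ L.C := by
  obtain ⟨S, hS, -, h⟩ := L.exists_sylow
  obtain ⟨g, -, hg⟩ := hS.exists_cj_le hR le_top
  exact ⟨g, hg.trans h⟩

theorem transfer (nix : Nix G) {M : Subgroup G}
    (hM : ∀ a ∈ L.C, ∀ b ∈ L.C, a ∉ M → b ∉ M → a * b ∈ M) (hv : v * v = 1) :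
    ∃ g, g * v * g⁻¹ ∈ M ∧ g * v * g⁻¹ ∈ L.C := by
  by_cases h1 : v = 1
  · exact ⟨1, by simp [h1], by simp [h1]⟩
  obtain ⟨S, hS, -, h⟩ := L.exists_sylow
  obtain ⟨S, rfl⟩ := hS.exists_sylow_eq
  obtain ⟨u, hu, h2, h3⟩ := Local.thompson_idx' nix S (M := M)
    (fun a ha b hb => hM a (h ha) b (h hb)) (orderOf_eq_prime (by rwa [sq]) h1)
  obtain ⟨g, rfl⟩ := isConj_iff.1 hu
  exact ⟨g, h3, h h2⟩

theorem exists_fused (nix : Nix G) : ∃ v ∈ L.C, v ≠ L.t ∧ IsConj L.t v := by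
  by_contra! h
  have h1 := Bender.oddCore_sup_centralizer_of_isolated (z := L.t) ⟨L.orderOf_t, fun g hg => by
    by_contra e
    exact h _ (L.mem_C.2 hg.eq.symm) e (isConj_iff.2 ⟨g, rfl⟩)⟩
  have hN : (oddCore G).Normal := inferInstanceAs (pPrimeCore 2 G).Normal
  refine nix (oddCore G ⊔ L.Γ) (index_eq_two_iff_exists_notMem_and.2 ⟨L.σ, fun hσ => ?_, fun b => ?_⟩)
  · obtain ⟨o, ho, γ, hγ, e⟩ := mem_sup_of_normal_left.1 hσ
    have h2 : o ∈ L.C := (mul_mem_cancel_right (L.Γ_le_C hγ)).1 (e ▸ L.σ_mem_C)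
    exact L.σ_not_mem (e ▸ mul_mem (L.mem_Γ_of_odd h2
      ((Solv.odd_card_oddCore G).of_dvd_nat (orderOf_dvd_natCard _ ho))) hγ)
  · obtain ⟨o, ho, c, hc, rfl⟩ := mem_sup_of_normal_left.1 (h1.ge (mem_top b))
    exact (L.mem_or hc).symm.imp (fun e => mul_assoc o c _ ▸ mul_mem_sup ho e) (mul_mem_sup ho)

omit [Finite G] in
theorem comm_of_odd {W : Subgroup G} (hW : Odd (Nat.card W)) {φ : SL(2, F) →* G} (hφ : φ (-1) = L.t)
    (hN : ∀ s, φ s ∈ normalizer (W : Set G)) {x : G} (hx : x ∈ W) {s s' : SL(2, F)}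
    (h : x * φ s * x⁻¹ = φ s') : x * φ s = φ s * x := by
  have := L.finF
  by_contra e
  have h1 := G2T.neg_one_mem L.odd (N := W.comap φ) ⟨fun n hn g => by
    simpa using mem_normalizer_conj (hN g) hn⟩ (t := s' * s⁻¹) (by
      rw [mem_comap, map_mul, map_inv, ← h]
      simpa [mul_assoc] using mul_mem hx (mem_normalizer_conj (hN s) (inv_mem hx)))
    fun e' => e (by rw [← mul_inv_eq_iff_eq_mul, h, mul_inv_eq_one.1 e'])
  have h2 := hW.of_dvd_nat (orderOf_dvd_natCard _ (mem_comap.1 h1))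
  rw [hφ, L.orderOf_t] at h2
  exact absurd h2 (by decide)

omit [Finite G] in
theorem le_Z0 {W : Subgroup G} (hW : Odd (Nat.card W)) (hC : W ≤ L.C)
    (hN : L.H0 ≤ normalizer (W : Set G)) {x : G} (hx : x ∈ W) :
    ∃ a b : F, a * a * (b * b) = 1 ∧ x = L.P (dg a a) (dg b b) := by
  obtain ⟨a, b, h⟩ := L.exists_sq_add_sq
  obtain ⟨A, B, hAB, e⟩ := L.mem_Γ_of_odd (hC hx) (hW.of_dvd_nat (orderOf_dvd_natCard _ hx))
  have h1 (s) := L.comm_of_odd hW L.φ1_neg_one (fun s => hN (L.φ1_mem_H0 s)) hx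
    (e ▸ L.conj_φ1 hAB s)
  have h3 (s) := L.comm_of_odd hW L.φ3_neg_one (fun s => hN (L.φ3_mem_H0 s)) hx
    (e ▸ L.conj_φ3 hAB s)
  exact L.scal_of_comm h (h1 _) (h1 _) (h3 _) (h3 _)

end LD

end Syl

end Cfsg.Lib.L45
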