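import Cfsg.Agent.L45.Rho
import Cfsg.Agent.L45.Syl

/-!
# Recognition of `L₄(q)`: fusion for `q ≡ 1 (mod 4)` and the case `q = 5`
-/

set_option autoImplicit false

namespace Cfsg.Lib.L45

open Matrix Cfsg.Lib.Class Cfsg.Lib.Rank2.Lin Cfsg.Lib.Trans Subgroup
open scoped MatrixGroups commutatorElement

universe u v

variable {G : Type u} [Group G] {F : Type v} [Field F]

namespace LD

variable (L : LD G F)

theorem sq_of_isConj_t {v : G} (h : IsConj L.t v) : v * v = 1 := by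
  obtain ⟨g, rfl⟩ := isConj_iff.1 h
  rw [conj_mul, L.t_sq, mul_one, mul_inv_cancel]

theorem ne_one_of_isConj_t {v : G} (h : IsConj L.t v) : v ≠ 1 := by
  rintro rfl
  exact L.t_ne_one (isConj_one_left.1 h)

theorem not_isConj_UC1 (h1 : Nat.card F % 4 = 1) {a : F} {B : M2 F} (ha : a ^ 4 = -1)
    (h : Ok (a • 1) B) : ¬ IsConj L.t (L.P (a • 1) B) := fun hc => by
  obtain ⟨g, hg⟩ := isConj_iff.1 hc.symm
  have k : ∀ s, g * L.φ1 s * g⁻¹ ∈ L.C := fun s => L.mem_C.2 (by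
    rw [← hg]
    refine comm_cj g ((L.comm_iff (ok_sl1 s) h).2 ⟨1, by simp, by simp, by simp⟩))
  have h0 := L.conj_mem_H0_φ1 (fun r => ⟨k _, k _⟩) (-1)
  rw [φ1_neg_one] at h0
  have hc' : IsConj L.t (g * L.t * g⁻¹) := isConj_iff.2 ⟨g, rfl⟩
  rcases L.inv_H0 h0 (L.sq_of_isConj_t hc') with e | e | ⟨-, e⟩ | ⟨e, -⟩
  · exact L.ne_one_of_isConj_t hc' e
  · obtain ⟨c, hc4, e1, -⟩ := (L.P_eq_iff' h ok_t).1 (conj_injective' (hg.trans e.symm))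
    have e2 : a = -c := smul_one_inj (by rw [e1, smul_neg, neg_smul])
    exact L.neg_one_ne (by rw [← ha, e2]; linear_combination hc4)
  · have := e.eq_one (k (slU 1)) (comm_cj g (L.mem_C.1 (L.φ1_mem_C _))) (k := 1)
      (by rw [pow_one, conj_pow, ← map_pow, slU_pow_ringChar, map_one]; simp)
    exact slU_one_ne.1 (L.inj1 ((conj_eq_one_iff.1 this).trans (map_one _).symm))
  · omega

theorem nsw_one (h1 : Nat.card F % 4 = 1) (v : G) (hv : v ∈ L.Γ) (hc : IsConj L.t v) :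
    v = L.t ∨ L.ZC v := by
  rcases L.inv_Γ hv (L.sq_of_isConj_t hc) with e | e | e | ⟨e, -⟩ | ⟨a, B, ha, h, rfl | rfl⟩
  · exact (L.ne_one_of_isConj_t hc e).elim
  · exact .inl e
  · exact .inr e
  · omega
  · exact (L.not_isConj_UC1 h1 ha h hc).elim
  · exact (L.not_isConj_UC1 h1 ha h (hc.trans (isConj_iff.2 ⟨L.σ, L.σ_conj h.symm⟩))).elim

theorem isConj_wwσ (h1 : Nat.card F % 4 = 1) : IsConj L.σ (L.ww * L.σ) := by
  have hW : (-mW : M2 F).det ≠ 0 := by simp [det_neg2]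
  have hi : (-mW : M2 F)⁻¹ = mW := inv_eq_right_inv (by simp)
  obtain ⟨c, hc, e⟩ := L.sw_conj hW (A' := 1) (by simp) (by simp [det_neg2])
  obtain ⟨d, -, e'⟩ := L.σ_conj_tσ h1
  rw [hi, inv_one, L.P_one, one_mul, ← L.t_mul ok_WW, ← ww] at e
  refine (isConj_iff.2 ⟨d, e'⟩).trans (isConj_iff.2 ⟨c, ?_⟩).symm
  rw [← L.t_t (L.ww * L.σ), ← conj_mul, L.mem_C'.1 (L.Γ_le_C hc), ← mul_assoc L.t L.ww, e]

theorem isConj_z_of_σ (h1 : Nat.card F % 4 = 1) (h : IsConj L.t L.σ) : IsConj L.t L.z := by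
  obtain ⟨g, hg⟩ := isConj_iff.1 h.symm
  have h0 := L.conj_mem_H0_κ (g := g) (fun s => L.mem_C.2 (by
    rw [← hg]; exact comm_cj g (L.σ_κ s).symm)) (slN 1)
  rw [κ_apply, coe_slN_one, ← ww] at h0
  rcases L.inv_H0 h0 (by rw [conj_mul, L.ww_sq]; simp) with e | e | ⟨-, e⟩ | ⟨e, -⟩
  · exact (L.ww_not_mem (conj_eq_one_iff.1 e ▸ one_mem _)).elim
  · exact (L.σ_not_mem (conj_injective' (e.trans hg.symm) ▸ L.H0_le_Γ L.ww_mem_H0)).elim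
  · have e1 := e.t_mul.isConj
    rw [← hg, conj_mul, L.σ_ww] at e1
    exact (h.trans (L.isConj_wwσ h1)).trans ((isConj_iff.2 ⟨g, rfl⟩).trans e1.symm)
  · omega

end LD

theorem w1a : W1a.{u, v} := fun G _ _ F _ _ L nix h1 => by
  obtain ⟨v, hv, hne, hc⟩ := L.exists_fused nix
  by_cases h : v ∈ L.Γ
  · obtain ⟨Δ, -⟩ := L.exists_L1 (L.nsw_one h1)
      (hc.trans ((L.nsw_one h1 v h hc).resolve_left hne).isConj.symm)
    exact ⟨Δ⟩
  · obtain ⟨A, hA, rfl | ⟨e, -⟩⟩ := L.inv_sw hv h (L.sq_of_isConj_t hc)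
    · obtain ⟨Δ, -⟩ := (L.cj2 A hA).exists_L1 ((L.cj2 A hA).nsw_one h1)
        ((L.cj2 A hA).isConj_z_of_σ h1 (by rwa [LD.cj2_t, LD.cj2_σ]))
      exact ⟨Δ⟩
    · omega

theorem w2c : W2c.{u, v} := fun G _ _ F _ _ Δ nix h5 => by
  refine ⟨⟨Δ, fun A hA => ?_⟩, rfl⟩
  obtain ⟨g, hg, -⟩ := Δ.transfer nix (M := Δ.Γ) (fun a ha b hb => Δ.mul_mem_Γ ha hb) (Δ.sw_sq hA)
  refine IsConj.trans ?_ (isConj_iff.2 ⟨g, rfl⟩).symm
  rcases Δ.inv_Γ hg (by rw [conj_mul, Δ.sw_sq hA]; simp) with e | e | e | ⟨e, -⟩ | e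
  · exact (Δ.sw_not_mem (Δ.P_mem_Γ (ok_inv hA)) (conj_eq_one_iff.1 e ▸ one_mem _)).elim
  · exact e ▸ IsConj.refl _
  · exact Δ.isConj_of_ZC e
  · omega
  · exact (Δ.not_UC (by omega) e).elim

section Five

theorem char_five [Finite F] (h5 : Nat.card F = 5) : ringChar F = 5 := by
  have := Fintype.ofFinite F
  rw [Nat.card_eq_fintype_card] at h5
  obtain ⟨n, hp, e⟩ := FiniteField.card F (ringChar F)
  exact (Nat.prime_dvd_prime_iff_eq hp Nat.prime_five).1 (h5 ▸ e ▸ dvd_pow_self _ n.ne_zero)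

theorem exists_nat_mul [Finite F] (h5 : Nat.card F = 5) {r : F} (hr : r ≠ 0) (s : F) :
    ∃ i : ℕ, (i : F) * r = s := by
  have : Fact (Nat.Prime 5) := ⟨Nat.prime_five⟩
  have : CharP F 5 := char_five h5 ▸ ringChar.charP F
  have hb : Function.Bijective (ZMod.castHom (dvd_refl 5) F) :=
    (ZMod.castHom_injective F).bijective_of_nat_card_le (by simp [h5])
  obtain ⟨k, hk⟩ := hb.2 (s / r)
  refine ⟨k.val, ?_⟩
  rw [ZMod.natCast_val, ← ZMod.castHom_apply (h := dvd_refl 5), hk, div_mul_cancel₀ _ hr]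

theorem exists_W [Finite F] (h5 : Nat.card F = 5) {a : SL(2, F)}
    (ha : (∃ r, a = slU r) ∨ ∃ r, a = slV r) (h1 : a ≠ 1) {d e : F} (hd : d ≠ 0) (he : e ≠ 0) :
    ∃ i j : ℕ, (a : M2 F) ^ i * (dg d e * mW * (a : M2 F) * (dg d e * mW)⁻¹) ^ j * (a : M2 F) ^ i = mW := by
  have hi : (dg d e * mW : M2 F)⁻¹ = !![0, -e⁻¹; d⁻¹, 0] :=
    inv_eq_right_inv (by simp [dg, mW, one_fin_two, hd, he])
  rw [hi]
  rcases ha with ⟨r, rfl⟩ | ⟨r, rfl⟩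
  · have hr : r ≠ 0 := fun e => h1 (e ▸ slU_zero)
    have e1 : dg d e * mW * ((slU r : SL(2, F)) : M2 F) * !![0, -e⁻¹; d⁻¹, 0] =
        ((slV (-(e * r * d⁻¹)) : SL(2, F)) : M2 F) := by simp [dg, mW, hd, he]
    obtain ⟨i, hi⟩ := exists_nat_mul h5 hr 1
    obtain ⟨j, hj⟩ := exists_nat_mul h5 (r := -(e * r * d⁻¹)) (by simp [hd, he, hr]) (-1)
    refine ⟨i, j, ?_⟩
    rw [e1, ← Matrix.SpecialLinearGroup.coe_pow, ← Matrix.SpecialLinearGroup.coe_pow, slU_pow,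
      slV_pow, hi, hj]
    simp [mW]
  · have hr : r ≠ 0 := fun e => h1 (e ▸ slV_zero)
    have e1 : dg d e * mW * ((slV r : SL(2, F)) : M2 F) * !![0, -e⁻¹; d⁻¹, 0] =
        ((slU (-(d * r * e⁻¹)) : SL(2, F)) : M2 F) := by simp [dg, mW, hd, he]
    obtain ⟨i, hi⟩ := exists_nat_mul h5 hr (-1)
    obtain ⟨j, hj⟩ := exists_nat_mul h5 (r := -(d * r * e⁻¹)) (by simp [hd, he, hr]) 1
    refine ⟨i, j, ?_⟩
    rw [e1, ← Matrix.SpecialLinearGroup.coe_pow, ← Matrix.SpecialLinearGroup.coe_pow, slU_pow,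
      slV_pow, hi, hj]
    simp [mW]

theorem mW_pow_ne {k : ℕ} (hk : Odd k) (c : F) : (mW : M2 F) ^ k ≠ c • 1 := fun e => by
  obtain ⟨n, rfl⟩ := hk
  rw [pow_succ, pow_mul, sq, mW_mW] at e
  have := congrFun (congrFun e 0) 1
  rcases neg_one_pow_eq_or (M2 F) n with h | h <;> simp [h, mW] at this

namespace LD

variable (L : LD G F)

theorem T_le_N_XU [Finite G] : L.T ≤ normalizer (XU L.φ1 : Set G) := by
  rintro _ ⟨a, b, c, d, h, rfl⟩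
  have ha : a ≠ 0 := left_ne_zero_of_mul (left_ne_zero_of_mul_eq_one h)
  have hb : b ≠ 0 := right_ne_zero_of_mul (left_ne_zero_of_mul_eq_one h)
  refine mem_normalizer_fintype ?_
  rintro _ ⟨s, rfl⟩
  rw [(L.dia_T h (Units.mk0 (a / b) (div_ne_zero ha hb)) (by simp [hb])).1]
  exact mem_XU _ _

/-- An element of `T ww` and a unipotent element inverted by `t z` generate an even order group. -/
theorem not_odd_Tww [Finite F] (h5 : Nat.card F = 5) {y τ : G} (hy : y ∈ L.C) (h1 : y ≠ 1)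
    (hp : y ^ ringChar F = 1) (hi : L.t * L.z * y * (L.t * L.z)⁻¹ = y⁻¹) (hτ : τ ∈ L.T)
    (ho : ∀ i j : ℕ, Odd (orderOf (y ^ i * (τ * L.ww * y * (τ * L.ww)⁻¹) ^ j * y ^ i))) : False := by
  obtain ⟨a, b, ha, hb, rfl⟩ := L.pelt hy (k := 1) (by rwa [pow_one])
  obtain ⟨d, e, f, g, h, rfl⟩ := hτ
  have hd : d ≠ 0 := left_ne_zero_of_mul (left_ne_zero_of_mul_eq_one h)
  have he : e ≠ 0 := right_ne_zero_of_mul (left_ne_zero_of_mul_eq_one h)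
  have hf : f ≠ 0 := left_ne_zero_of_mul (right_ne_zero_of_mul_eq_one h)
  have hg : g ≠ 0 := right_ne_zero_of_mul (right_ne_zero_of_mul_eq_one h)
  rw [tz_eq, L.P_conj ok_JJ (ok_sl a b), L.P_inv (ok_sl a b), ← coe_inv_sl, ← coe_inv_sl,
    ← coe_cs J_ne, ← coe_cs J_ne] at hi
  have hc : (cs mJ J_ne a) ^ ringChar F = 1 := L.inj1 (by
    rw [map_pow, ← L.conj_φ1 ok_JJ, conj_pow, ← map_pow, ha, map_one]; simp)
  obtain ⟨e1, e2⟩ := L.P_unip_inj hc (by rw [inv_pow, ha, inv_one]) hi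
  have ua := unip_J L.two_ne ha (by rw [← e1, coe_cs, inv_mJ])
  have ub := unip_J L.two_ne hb (by rw [← e2, coe_cs, inv_mJ])
  have h2 := (ok_dg h).mul ok_WW
  have h3 := h2.conj (ok_sl a b)
  have k : ∀ i j : ℕ, ∃ k, Odd k ∧ ∃ c : F,
      ((a : M2 F) ^ i * (dg d e * mW * (a : M2 F) * (dg d e * mW)⁻¹) ^ j * (a : M2 F) ^ i) ^ k = c • 1 ∧
      ((b : M2 F) ^ i * (dg f g * mW * (b : M2 F) * (dg f g * mW)⁻¹) ^ j * (b : M2 F) ^ i) ^ k = c • 1 :=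
    fun i j => by
      have h4 := ho i j
      have h6 := ((L.P_pow (ok_sl a b) i).1.mul (L.P_pow h3 j).1).mul (L.P_pow (ok_sl a b) i).1
      rw [ww, L.mul (ok_dg h) ok_WW, L.P_conj h2 (ok_sl a b), (L.P_pow (ok_sl a b) i).2,
        (L.P_pow h3 j).2, L.mul (L.P_pow (ok_sl a b) i).1 (L.P_pow h3 j).1,
        L.mul ((L.P_pow (ok_sl a b) i).1.mul (L.P_pow h3 j).1) (L.P_pow (ok_sl a b) i).1] at h4
      exact ⟨_, h4, (L.eq_one (L.P_pow h6 _).1).1 ((L.P_pow h6 _).2 ▸ pow_orderOf_eq_one _)⟩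
  by_cases ha1 : a = 1
  · obtain ⟨i, j, e⟩ := exists_W h5 ub (fun hb1 => h1 (by simp [ha1, hb1, L.P_one])) hf hg
    obtain ⟨k, hk, c, -, e'⟩ := k i j
    exact mW_pow_ne hk c (e ▸ e')
  · obtain ⟨i, j, e⟩ := exists_W h5 ua ha1 hd he
    obtain ⟨k, hk, c, e', -⟩ := k i j
    exact mW_pow_ne hk c (e ▸ e')

/-- Square roots of `t` in `B0` outside `T ww`. -/
theorem sqrt_t {x : G} (hx : x ∈ L.B0) (h2 : x * x = L.t) (hw : ∀ τ ∈ L.T, x ≠ τ * L.ww) :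
    ∃ a b c d : F, a * b * (c * d) = 1 ∧ x = L.P (dg a b) (dg c d) ∧
      c * c = -(a * a) ∧ d * d = -(a * a) := by
  obtain ⟨τ, hτ, rfl | rfl | rfl | rfl⟩ := L.B0_cases hx
  · obtain ⟨a, b, c, d, h, rfl⟩ := hτ
    rw [L.mul (ok_dg h) (ok_dg h), t, L.P_eq_iff ((ok_dg h).mul (ok_dg h)) ok_t] at h2
    obtain ⟨e, e1, e2⟩ := h2
    rw [dg_mul, ← dg_one, neg_dg, smul_dg, dg_inj] at e1
    rw [dg_mul, ← dg_one, smul_dg, dg_inj] at e2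
    exact ⟨a, b, c, d, h, rfl, by rw [e1.1, e2.1]; ring, by rw [e1.1, e2.2]; ring⟩
  · exact (hw τ hτ rfl).elim
  · obtain ⟨a, b, c, d, h, rfl⟩ := hτ
    rw [L.sw_mul_sw (ok_dg h) (ok_dg h), t, L.P_eq_iff' ((ok_dg h).mul (ok_dg h).symm) ok_t] at h2
    obtain ⟨e, he, e1, e2⟩ := h2
    rw [dg_mul, ← dg_one, neg_dg, smul_dg, dg_inj] at e1
    rw [dg_mul, ← dg_one, smul_dg, dg_inj] at e2
    exact (L.two_ne (by linear_combination e ^ 3 * e1.1 - e ^ 3 * e2.1 - 2 * he)).elim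
  · obtain ⟨a, b, c, d, h, rfl⟩ := hτ
    have h3 := (ok_dg h).mul ok_WW
    rw [← mul_assoc _ L.ww, ww, L.mul (ok_dg h) ok_WW, L.sw_mul_sw h3 h3, t,
      L.P_eq_iff' (h3.mul h3.symm) ok_t] at h2
    obtain ⟨e, he, e1, e2⟩ := h2
    have e3 := congrFun (congrFun e1 0) 0
    have e4 := congrFun (congrFun e2 1) 1
    simp [dg, mW] at e3 e4
    exact (L.two_ne (by linear_combination -e ^ 3 * e3 - e ^ 3 * e4 - 2 * he)).elim

/-- The centralizer in `B0` of such a square root. -/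
theorem mem_T_of_comm_sqrt {x : G} (hx : x ∈ L.B0) (hw : ∀ τ ∈ L.T, x ≠ τ * L.ww) {a b c d : F}
    (h : a * b * (c * d) = 1) (hc : c * c = -(a * a)) (hd : d * d = -(a * a))
    (e : x * L.P (dg a b) (dg c d) = L.P (dg a b) (dg c d) * x) : x ∈ L.T := by
  have ha : a ≠ 0 := left_ne_zero_of_mul (left_ne_zero_of_mul_eq_one h)
  have k : ∀ τ ∈ L.T, ∀ n, x = τ * n → n * L.P (dg a b) (dg c d) * n⁻¹ = L.P (dg a b) (dg c d) := by
    rintro τ hτ n rfl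
    rw [mul_inv_eq_iff_eq_mul]
    refine mul_left_cancel (a := τ) ?_
    rw [← mul_assoc, e, ← mul_assoc, ← mul_assoc, L.T_comm hτ (L.dg_mem_T h)]
  have k2 : ∀ f u : F, u * u = -(a * a) → u = f * a → a = f * u → False := fun f u h1 h2 h3 => by
    have h4 : (f * f - 1) * a = 0 := by linear_combination -f * h2 - h3
    have h5 : f * f = 1 := by linear_combination (mul_eq_zero.1 h4).resolve_right ha
    refine mul_ne_zero L.two_ne (mul_ne_zero ha ha) ?_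
    linear_combination h1 - (u + f * a) * h2 - a * a * h5
  obtain ⟨τ, hτ, e1 | e1 | e1 | e1⟩ := L.B0_cases hx
  · exact e1 ▸ hτ
  · exact (hw τ hτ e1).elim
  · have e2 := k τ hτ _ e1
    rw [L.σ_dg h, L.P_eq_iff (ok_dg h).symm (ok_dg h)] at e2
    obtain ⟨f, e3, e4⟩ := e2
    rw [smul_dg, dg_inj] at e3 e4
    exact (k2 f c hc e3.1 e4.1).elim
  · have e2 := k τ hτ _ e1
    have h' : c * d * (a * b) = 1 := by linear_combination h
    rw [_root_.mul_inv_rev, mul_assoc L.ww, mul_assoc L.ww, ← mul_assoc _ L.σ⁻¹, L.σ_dg h,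
      ← mul_assoc, L.ww_dg h', L.P_eq_iff (ok_dg (by linear_combination h)) (ok_dg h)] at e2
    obtain ⟨f, e3, e4⟩ := e2
    rw [smul_dg, dg_inj] at e3 e4
    exact (k2 f d hd e3.1 e4.2).elim

end LD

theorem w2b : W2b.{u, v} := fun G _ _ F _ _ Δ h5 ⟨y, hy1, hp, hX, hz, ht⟩ => by
  have hR : y ∈ FWR.Rc (XU Δ.φ1) := by
    refine mem_Rc (a := Δ.t) ?_ Δ.orderOf_t (fun v hv h hc => Δ.iso (r := 1) one_ne_zero
      (hv _ (mem_XU _ _)).symm h hc) hX ?_ ht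
    · rintro _ ⟨s, rfl⟩
      exact Δ.mem_C.1 (Δ.φ1_mem_C _)
    · rw [char_five h5] at hp
      exact Odd.of_dvd_nat (by decide) (orderOf_dvd_of_pow_eq_one hp)
  have r1 : Δ.ρ⁻¹ * Δ.z * Δ.ρ⁻¹⁻¹ = Δ.t := by rw [← Δ.ρ_t]; group
  have r2 : Δ.ρ⁻¹ * Δ.t * Δ.ρ⁻¹⁻¹ = Δ.t * Δ.z := by
    nth_rw 1 [← Δ.ρ_tz]; group
  have hB : ∀ τ ∈ Δ.T, Δ.ρ⁻¹ * τ * Δ.ρ⁻¹⁻¹ ∈ Δ.B0 := fun τ hτ =>
    mem_normalizer_conj (inv_mem Δ.ρ_B0) (Δ.T_le_B0 hτ)
  have hw : ∀ τ ∈ Δ.T, ∀ τ' ∈ Δ.T, Δ.ρ⁻¹ * τ * Δ.ρ⁻¹⁻¹ ≠ τ' * Δ.ww := fun τ hτ τ' hτ' e => by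
    refine Δ.not_odd_Tww h5 (y := Δ.ρ⁻¹ * y * Δ.ρ⁻¹⁻¹) (Δ.mem_C.2 ?_)
      (fun e => hy1 (conj_eq_one_iff.1 e)) (by rw [conj_pow, hp]; simp) ?_ hτ' fun i j => ?_
    · rw [← r1]
      exact comm_cj _ (mul_inv_eq_iff_eq_mul.1 hz).symm
    · rw [← r2, conj_inv, conj_mul, conj_mul, ht, conj_inv]
    · rw [← e, conj_inv, conj_mul, conj_mul, conj_pow, conj_pow, conj_mul, conj_mul,
        ← MulAut.conj_apply, MulEquiv.orderOf_eq]
      have h1 := mem_normalizer_conj (N_Rc (Δ.T_le_N_XU hτ)) hR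
      exact Odd.of_dvd_nat Rc_odd (orderOf_dvd_natCard _
        (mul_mem (mul_mem (pow_mem hR i) (pow_mem h1 j)) (pow_mem hR i)))
  obtain ⟨i, hi⟩ := exists_sq_neg_one (F := F) (by omega)
  have h0 : 1 * i * (-i * 1) = 1 := by linear_combination -hi
  obtain ⟨a, b, c, d, h, e, hc, hd⟩ := Δ.sqrt_t (hB _ (Δ.dg_mem_T h0)) (by
    rw [conj_mul, Δ.mul (ok_dg h0) (ok_dg h0), dg_mul, dg_mul, ← r1, LD.z, mJ_eq, neg_dg]
    simp [hi]) (hw _ (Δ.dg_mem_T h0))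
  refine (normalizer _).inv_mem_iff.1 (mem_normalizer_fintype fun τ hτ => ?_)
  exact Δ.mem_T_of_comm_sqrt (hB τ hτ) (hw τ hτ) h hc hd
    (e ▸ comm_cj _ (Δ.T_comm hτ (Δ.dg_mem_T h0)))

end Five

end Cfsg.Lib.L45
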