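import Cfsg.Agent.L45.W1bA

/-!
# Recognition of `L₄(q)`: fusion for `q ≡ 3 (mod 4)`
-/

set_option autoImplicit false

namespace Cfsg.Lib.L45

open Matrix Cfsg.Lib.Class Cfsg.Lib.Rank2.Lin Cfsg.Lib.Trans Subgroup
open scoped MatrixGroups commutatorElement

universe u v

variable {G : Type u} [Group G] {F : Type v} [Field F]

namespace B3

theorem cj_comm {g x y : G} (h : x * y = y * x) :
    g * x * g⁻¹ * (g * y * g⁻¹) = g * y * g⁻¹ * (g * x * g⁻¹) := by rw [conj_mul, conj_mul, h]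

theorem comm_of_cj {g x y : G} (h : g * x * g⁻¹ * (g * y * g⁻¹) = g * y * g⁻¹ * (g * x * g⁻¹)) :
    x * y = y * x := by
  rw [conj_mul, conj_mul] at h
  exact mul_left_cancel (mul_right_cancel h)

theorem cj_cj_inv (g x : G) : g * (g⁻¹ * x * g⁻¹⁻¹) * g⁻¹ = x := by group

theorem cj_sq {g x : G} (h : x * x = 1) : g * x * g⁻¹ * (g * x * g⁻¹) = 1 := by
  rw [conj_mul, h, mul_one, mul_inv_cancel]

variable (L : LD G F)

theorem ww_ne_one : L.ww ≠ 1 := fun h => by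
  obtain ⟨c, h6, -⟩ := (L.eq_one ok_WW).1 h
  exact W_ne c h6

/-- Coordinates in which a given interchanging involution is `σ`. -/
theorem coord {v : G} (hv : v ∈ L.C) (h : v ∉ L.Γ) (h2 : v * v = 1) :
    ∃ (L' : LD G F) (A : M2 F), A.det ≠ 0 ∧ L'.σ = v ∧ L'.t = L.t ∧
      (∀ X Y, L'.P X Y = L.P X (A⁻¹ * Y * A)) ∧
      (v = L.P A A⁻¹ * L.σ ∨ v = L.t * (L.P A A⁻¹ * L.σ)) := by
  obtain ⟨A, hA, rfl | ⟨-, rfl⟩⟩ := L.inv_sw hv h h2
  · exact ⟨L.cj2 A hA, A, hA, rfl, L.cj2_t hA, fun _ _ => rfl, .inl rfl⟩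
  · exact ⟨(L.cj2 A hA).tw, A, hA, by rw [LD.tw_σ, L.cj2_t, LD.cj2_σ], L.cj2_t hA,
      fun _ _ => rfl, .inr rfl⟩

/-- An interchanging involution centralizes a `p`-element. -/
theorem pelt_sw {g b : G} (hg : g * b * g⁻¹ = L.t) (hC : g * L.t * g⁻¹ ∈ L.C)
    (hΓ : g * L.t * g⁻¹ ∉ L.Γ) : ∃ x ∈ L.C, x * b = b * x ∧ x ^ ringChar F ^ 1 = 1 ∧ x ≠ 1 := by
  obtain ⟨L', A, -, hσ, ht, -⟩ := coord L hC hΓ (cj_sq L.t_sq)
  have h5 : L'.κ (slU 1) * L.t = L.t * L'.κ (slU 1) :=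
    ht ▸ L'.mem_C.1 (L'.Γ_le_C (L'.H0_le_Γ (L'.κ_mem_H0 _)))
  have h6 := L'.σ_κ (slU 1)
  rw [hσ, ← cj_cj_inv g (L'.κ (slU 1))] at h6
  rw [← hg, ← cj_cj_inv g (L'.κ (slU 1))] at h5
  refine ⟨_, L.mem_C.2 (comm_of_cj h6).symm, comm_of_cj h5, by
    rw [pow_one, conj_pow, ← map_pow, slU_pow_ringChar, map_one, mul_one, mul_inv_cancel],
    fun h7 => ?_⟩
  rcases L'.κ_eq_one_iff.1 (conj_eq_one_iff.1 h7) with h8 | h8 <;>
    simpa using congrArg (fun g : SL(2, F) => g 0 1) h8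

theorem exists_ρ (nsw : ∀ v ∈ L.Γ, IsConj L.t v → v = L.t ∨ L.ZC v) (h : IsConj L.t L.z) :
    Nonempty (L1 G F) := by
  obtain ⟨g, hg⟩ := isConj_iff.1 h.symm
  have hC : g * L.t * g⁻¹ ∈ L.C := L.mem_C.2 (hg ▸ cj_comm (hg ▸ L.z_t.symm))
  by_cases hΓ : g * L.t * g⁻¹ ∈ L.Γ
  · rcases nsw _ hΓ (isConj_iff.2 ⟨g, rfl⟩) with h1 | ⟨c, hc, h1⟩
    · exact (L.z_ne_t (mul_left_cancel (mul_right_cancel (hg.trans h1.symm)))).elim
    · have h5 : c⁻¹ * g * L.z * (c⁻¹ * g)⁻¹ = L.t := by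
        rw [← L.mem_C'.1 (inv_mem hc), ← hg]; group
      have h6 : c⁻¹ * g * L.t * (c⁻¹ * g)⁻¹ = L.z := by
        rw [← mul_left_cancel_iff (a := c), ← mul_right_cancel_iff (a := c⁻¹), h1]; group
      generalize c⁻¹ * g = m at h5 h6
      refine ⟨⟨L, m * L.n1, ?_, ?_, nsw⟩⟩
      · rw [← h6]
        exact Eq.trans (by group) (congrArg (fun x => m * x * m⁻¹) (L.mem_C'.1 L.n1_mem_C))
      · rw [← L.z_t]
        refine Eq.trans (Eq.trans (by group) (congrArg (fun x => m * x * m⁻¹) L.n1_z)) ?_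
        simp only [← conj_mul, h5, h6]
  · obtain ⟨x, hx, h1, h2, h4⟩ := pelt_sw L hg hC hΓ
    exact (h4 (L.ZC_z.eq_one hx h1 h2)).elim

variable [Finite F] (h3 : Nat.card F % 4 = 3)

include h3

theorem nUC {v : G} : ¬ L.UC v := L.not_UC (by omega)

/-- `ww` is not conjugate to `t`. -/
theorem not_conj_ww : ¬ IsConj L.ww L.t := fun hc => by
  obtain ⟨g, hg⟩ := isConj_iff.1 hc
  have push : ∀ {g x : G}, g * L.ww * g⁻¹ = L.t → x * L.ww = L.ww * x → g * x * g⁻¹ ∈ L.C :=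
    fun hg h => L.mem_C.2 (hg ▸ cj_comm h)
  have hC := push hg L.ww_t.symm
  have h2 := cj_sq (g := g) L.t_sq
  by_cases hΓ : g * L.t * g⁻¹ ∈ L.Γ
  · rcases L.inv_Γ hΓ h2 with h | h | ⟨c, hc, h⟩ | ⟨-, c, hc, h⟩ | h
    · exact L.t_ne_one (conj_eq_one_iff.1 h)
    · exact L.BC_ww.ne_t (mul_left_cancel (mul_right_cancel (hg.trans h.symm)))
    · have h5 : c⁻¹ * g * L.ww * (c⁻¹ * g)⁻¹ = L.t := by
        rw [← L.mem_C'.1 (inv_mem hc), ← hg]; group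
      have h6 : c⁻¹ * g * L.t * (c⁻¹ * g)⁻¹ = L.z := by
        rw [← mul_left_cancel_iff (a := c), ← mul_right_cancel_iff (a := c⁻¹), h]; group
      have h7 := sq_eq_one L h3 (x := c⁻¹ * g * L.n1 * (c⁻¹ * g)⁻¹) (L.mem_B0.2
        ⟨L.mem_C.1 (push h5 (mul_inv_eq_iff_eq_mul.1 L.n1_ww)),
          h6 ▸ cj_comm (L.mem_C.1 L.n1_mem_C)⟩) (by rw [conj_mul, L.n1_sq, h6, L.z_sq])
      rw [conj_mul, L.n1_sq, h6] at h7
      exact L.z_ne_one h7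
    · have h5 : c⁻¹ * g * L.ww * (c⁻¹ * g)⁻¹ = L.t := by
        rw [← L.mem_C'.1 (inv_mem hc), ← hg]; group
      have h6 : c⁻¹ * g * L.t * (c⁻¹ * g)⁻¹ = L.ww := by
        rw [← mul_left_cancel_iff (a := c), ← mul_right_cancel_iff (a := c⁻¹), h]; group
      obtain ⟨x, hx, y, hy, hx2, hy2, hne⟩ := exists_roots L
      have k : ∀ {x : G}, x * x = L.ww → x * L.ww = L.ww * x := fun h => by rw [← h, mul_assoc]
      exact hne (comm_of_cj (root_comm L h3 (push h5 (k hx2)) (h6 ▸ cj_comm (L.mem_C.1 hx))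
        (by rw [conj_mul, hx2, h5]) (push h5 (k hy2)) (h6 ▸ cj_comm (L.mem_C.1 hy))
        (by rw [conj_mul, hy2, h5])))
    · exact nUC L h3 h
  · obtain ⟨x, hx, h1, h4, h5⟩ := pelt_sw L hg hC hΓ
    exact h5 (L.BC_ww.eq_one h3 hx h1 h4)

/-- If `σ` is conjugate to `t`, then `t σ` is conjugate to `ww`. -/
theorem conj_tσ (hc : IsConj L.σ L.t) : IsConj L.ww (L.t * L.σ) := by
  obtain ⟨g, hg⟩ := isConj_iff.1 hc
  have h1 := L.conj_mem_H0_κ (g := g) (fun s => L.mem_C.2 (hg ▸ cj_comm (L.σ_κ s).symm)) (slN 1)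
  rw [show L.κ (slN 1) = L.ww by rw [LD.κ_apply, coe_slN_one, LD.ww]] at h1
  have h2 : L.BC (g * L.ww * g⁻¹) := by
    rcases L.inv_H0 h1 (cj_sq L.ww_sq) with h | h | h | h
    · exact (ww_ne_one L (conj_eq_one_iff.1 h)).elim
    · exact (L.σ_not_mem (mul_left_cancel (mul_right_cancel (h.trans hg.symm)) ▸
        L.H0_le_Γ L.ww_mem_H0)).elim
    · omega
    · exact h.2
  have h4 : (-mW : M2 F).det ≠ 0 := by simp [det_neg2]
  obtain ⟨c, hc, h5⟩ := L.sw_conj h4 (A' := 1) (by simp) ⟨1, by simp [det_neg2]⟩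
  have h6 : (-mW : M2 F)⁻¹ = mW := inv_eq_right_inv (by simp)
  rw [h6, inv_one, L.P_one, one_mul, ← L.t_mul ok_WW] at h5
  refine h2.t_mul.isConj.trans (isConj_iff.2 ⟨c * g⁻¹, ?_⟩)
  rw [mul_assoc L.t, ← conj_mul, L.mem_C'.1 (L.Γ_le_C hc), ← LD.ww, ← L.σ_ww] at h5
  calc _ = c * g⁻¹ * (g * L.σ * g⁻¹ * (g * L.ww * g⁻¹)) * (c * g⁻¹)⁻¹ := by rw [hg]
    _ = L.t * (L.t * (c * (L.σ * L.ww) * c⁻¹)) := by rw [L.t_t]; group
    _ = _ := by rw [h5]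

theorem nsw {v : G} (hv : v ∈ L.Γ) (hc : IsConj L.t v) : v = L.t ∨ L.ZC v := by
  obtain ⟨g, rfl⟩ := isConj_iff.1 hc
  rcases L.inv_Γ hv (cj_sq L.t_sq) with h | h | h | h | h
  · exact (L.t_ne_one (conj_eq_one_iff.1 h)).elim
  · exact .inl h
  · exact .inr h
  · exact (not_conj_ww L h3 (h.2.isConj.trans hc.symm)).elim
  · exact (nUC L h3 h).elim

theorem eq_t (hz : ¬ IsConj L.t L.z) {v : G} (hv : v ∈ L.Γ) (hc : IsConj L.t v) : v = L.t :=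
  (nsw L h3 hv hc).resolve_right fun h => hz (hc.trans h.isConj.symm)

omit h3 [Finite F] in
theorem mem_Γ_of_n1 {v : G} (hv : v ∈ L.C) (h : v * L.n1 = L.n1 * v) : v ∈ L.Γ := by
  by_contra hΓ
  obtain ⟨A, B, ok, rfl⟩ := L.exists_sw hv hΓ
  have h1 : L.P A B * L.φ3 (slN 1) * (L.P A B)⁻¹ = L.φ1 (slN 1) := by
    rw [← L.σ_φ1, ← LD.n1]
    exact Eq.trans (by group) (mul_inv_eq_iff_eq_mul.2 h)
  rw [L.conj_φ3 ok] at h1
  rcases L.eq_of_φ1_eq_φ3 h1.symm with h2 | h2 <;>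
    simpa using congrArg (fun g : SL(2, F) => g 0 1) h2.1

variable [Finite G]

/-- If `z` is not conjugate to `t`, it is not conjugate to `ww`. -/
theorem not_conj_z (hz : ¬ IsConj L.t L.z) : ¬ IsConj L.z L.ww := fun hc => by
  obtain ⟨g, hg⟩ := isConj_iff.1 hc
  obtain ⟨k, hk, h1⟩ := conj_cent (H := centralizer {L.ww}) (s := g * L.t * g⁻¹)
    (mem_centralizer_singleton_iff.2 (mul_inv_eq_iff_eq_mul.1 L.n1_ww)) L.n1_sq L.t_sq
    (fun v hv h1 h2 => eq_t L h3 hz (mem_Γ_of_n1 L (L.mem_C.2 h1) h2) hv)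
    (mem_centralizer_singleton_iff.2 (hg ▸ cj_comm L.z_t.symm)) (cj_sq L.t_sq)
  have h2 : k * g * L.z * (k * g)⁻¹ = L.ww := by
    rw [← mul_inv_eq_iff_eq_mul.2 (mem_centralizer_singleton_iff.1 hk), ← hg]; group
  rw [show k * (g * L.t * g⁻¹) * k⁻¹ = k * g * L.t * (k * g)⁻¹ by group] at h1
  generalize k * g = m at h1 h2
  have hΓ : m * L.t * m⁻¹ ∉ L.Γ := fun h => (L.ZC_z.conj (L.mem_C'.2
    (eq_t L h3 hz h (isConj_iff.2 ⟨m, rfl⟩)))).not_mem_H0 h3 (h2 ▸ L.ww_mem_H0)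
  obtain ⟨L', A, hA, hσ, ht, hP, hv⟩ := coord L (L.mem_C.2 h1) hΓ (cj_sq L.t_sq)
  have h4 : m * L.t * m⁻¹ * L.ww = L.ww * (m * L.t * m⁻¹) := h2 ▸ cj_comm L.z_t.symm
  have h5 : L.P A A⁻¹ * L.σ * L.ww = L.ww * (L.P A A⁻¹ * L.σ) := by
    rcases hv with hv | hv <;> rw [hv] at h4
    · exact h4
    · rwa [mul_assoc L.t, ← mul_assoc L.ww, L.ww_t, mul_assoc L.t, mul_left_cancel_iff] at h4
  rw [LD.ww, L.sw_mul_P (ok_inv hA) ok_WW, L.P_mul_sw ok_WW (ok_inv hA), mul_right_cancel_iff,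
    L.P_eq_iff' ((ok_inv hA).mul ok_WW) (ok_WW.mul (ok_inv hA))] at h5
  obtain ⟨c, hc4, -, h6⟩ := h5
  have h7 : L'.ww = L.ww ∨ L'.ww = L.t * L.ww := by
    rw [LD.ww, hP, h6, smul_mul_assoc, inv_mul_cancel_right_m hA, LD.ww]
    rcases four_cases h3 hc4 with rfl | rfl
    · exact .inl (by rw [one_smul])
    · exact .inr (by rw [neg_one_smul, L.P_neg₂ ok_WW, L.t_mul ok_WW])
  obtain ⟨y, hy, h8, h9, h10, h11⟩ := exists_four L' h3
  have h12 : y * L.ww = L.ww * y := by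
    rcases h7 with h7 | h7 <;> rw [h7] at h9
    · exact h9
    · rwa [← mul_assoc, ← ht, L'.mem_C.1 hy, mul_assoc, mul_assoc, mul_left_cancel_iff] at h9
  rw [hσ, ← cj_cj_inv m y] at h8
  rw [← h2, ← cj_cj_inv m y] at h12
  have h13 := sq_eq_one L h3 (L.mem_B0.2 ⟨comm_of_cj h8, comm_of_cj h12⟩)
    (by rw [conj_mul, conj_mul, h11, mul_one, mul_inv_cancel])
  rw [conj_mul] at h13
  exact h10 (conj_eq_one_iff.1 h13)

omit h3 [Finite F] [Finite G] in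
theorem sq_of_ok {A B : M2 F} (h : Ok A B) (hs : IsSquare A.det) : IsSquare B.det := by
  rw [← inv_eq_of_mul_eq_one_right h]
  exact hs.inv

omit h3 [Finite F] [Finite G] in
/-- The elements whose blocks have square determinants. -/
def sqM : Subgroup G where
  carrier := {x | ∃ A B, Ok A B ∧ IsSquare A.det ∧ (x = L.P A B ∨ x = L.P A B * L.σ)}
  mul_mem' := by
    rintro _ _ ⟨A, B, h, hs, rfl | rfl⟩ ⟨A', B', h', hs', rfl | rfl⟩
    · exact ⟨_, _, h.mul h', det_mul A A' ▸ hs.mul hs', .inl (L.mul h h')⟩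
    · exact ⟨_, _, h.mul h', det_mul A A' ▸ hs.mul hs', .inr (L.P_mul_sw h h')⟩
    · exact ⟨_, _, h.mul h'.symm, det_mul A B' ▸ hs.mul (sq_of_ok h' hs'), .inr (L.sw_mul_P h h')⟩
    · exact ⟨_, _, h.mul h'.symm, det_mul A B' ▸ hs.mul (sq_of_ok h' hs'), .inl (L.sw_mul_sw h h')⟩
  one_mem' := ⟨1, 1, ok_one, by simp, .inl L.P_one.symm⟩
  inv_mem' := by
    rintro _ ⟨A, B, h, hs, rfl | rfl⟩
    · exact ⟨_, _, h.inv, det_inv_m A ▸ hs.inv, .inl (L.P_inv h)⟩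
    · exact ⟨_, _, h.inv.symm, det_inv_m B ▸ (sq_of_ok h hs).inv, .inr (L.sw_inv h)⟩

omit h3 [Finite G] in
theorem sq_mul {a b : F} (ha : ¬ IsSquare a) (hb : ¬ IsSquare b) : IsSquare (a * b) := by
  classical
  have := Fintype.ofFinite F
  have h1 : quadraticChar F (a * b) = 1 := by
    rw [map_mul, quadraticChar_neg_one_iff_not_isSquare.2 ha,
      quadraticChar_neg_one_iff_not_isSquare.2 hb]; rfl
  refine (quadraticChar_one_iff_isSquare (mul_ne_zero ?_ ?_)).1 h1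
  · rintro rfl; exact ha IsSquare.zero
  · rintro rfl; exact hb IsSquare.zero

omit h3 [Finite G] in
theorem sqM_index : ∀ a ∈ L.C, ∀ b ∈ L.C, a ∉ sqM L → b ∉ sqM L → a * b ∈ sqM L := by
  intro a ha b hb h1 h2
  obtain ⟨A, B, h, e⟩ := L.mem_C_iff.1 ha
  obtain ⟨A', B', h', e'⟩ := L.mem_C_iff.1 hb
  have k : ¬ IsSquare A.det := fun hs => h1 ⟨A, B, h, hs, e⟩
  have k' : ¬ IsSquare A'.det := fun hs => h2 ⟨A', B', h', hs, e'⟩
  have k'' : ¬ IsSquare B'.det := fun hs => k' (sq_of_ok h'.symm hs)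
  rcases e with rfl | rfl <;> rcases e' with rfl | rfl
  · exact ⟨_, _, h.mul h', det_mul A A' ▸ sq_mul k k', .inl (L.mul h h')⟩
  · exact ⟨_, _, h.mul h', det_mul A A' ▸ sq_mul k k', .inr (L.P_mul_sw h h')⟩
  · exact ⟨_, _, h.mul h'.symm, det_mul A B' ▸ sq_mul k k'', .inr (L.sw_mul_P h h')⟩
  · exact ⟨_, _, h.mul h'.symm, det_mul A B' ▸ sq_mul k k'', .inl (L.sw_mul_sw h h')⟩

omit h3 [Finite F] [Finite G] in
theorem sq_of_mem {A B : M2 F} (h : Ok A B) (hm : L.P A B ∈ sqM L) : IsSquare A.det := by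
  obtain ⟨A', B', h', ⟨r, hr⟩, e | e⟩ := hm
  · obtain ⟨c, rfl, -⟩ := (L.P_eq_iff h h').1 e
    exact ⟨c * r, by rw [det_smul2, hr]; ring⟩
  · exact (L.P_ne_sw h h' e).elim

omit [Finite G] in
theorem not_mem_sqM {v : G} (hv : L.ZC v) : v ∉ sqM L := fun hm => by
  obtain ⟨c, hc, rfl⟩ := hv
  have k : ∀ {X Y : M2 F}, X.det ≠ 0 → Y.det = -1 → ¬ IsSquare (X * Y * X⁻¹).det :=
    fun {X Y} hX hY ⟨i, hi⟩ => not_sq_neg_one h3 i (by
      rw [← hi, det_mul, det_mul, det_inv_m, hY]; field_simp)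
  obtain ⟨X, Y, h, rfl | rfl⟩ := L.mem_C_iff.1 hc
  · rw [LD.z, L.P_conj h ok_z] at hm
    exact k h.ne₁ det_mJ (sq_of_mem L (h.conj ok_z) hm)
  · rw [LD.z, L.sw_conj_P h ok_z] at hm
    exact k h.ne₁ (by rw [det_neg2, det_mJ]) (sq_of_mem L (h.conj ok_z.symm) hm)

theorem conj_z (nix : Nix G) (hσ : IsConj L.σ L.t) : IsConj L.t L.z := by
  by_contra hz
  have hb := not_conj_z L h3 hz
  obtain ⟨g, hM, hC⟩ := L.transfer nix (sqM_index L) L.z_sq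
  have hc : IsConj L.z (g * L.z * g⁻¹) := isConj_iff.2 ⟨g, rfl⟩
  have hσM : L.σ ∈ sqM L := ⟨1, 1, ok_one, by simp, .inr (by rw [L.P_one, one_mul])⟩
  by_cases hΓ : g * L.z * g⁻¹ ∈ L.Γ
  · rcases L.inv_Γ hΓ (cj_sq L.z_sq) with h | h | h | h | h
    · exact L.z_ne_one (conj_eq_one_iff.1 h)
    · exact hz (h ▸ hc).symm
    · exact not_mem_sqM L h3 h hM
    · exact hb (hc.trans h.2.isConj.symm)
    · exact nUC L h3 h
  · obtain ⟨A, hA, h | ⟨-, h⟩⟩ := L.inv_sw hC hΓ (cj_sq L.z_sq)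
    · rw [h, mul_mem_cancel_right hσM] at hM
      obtain ⟨c, -, h1⟩ := L.sw_conj hA (A' := 1) (by simp)
        (by simpa using sq_of_mem L (ok_inv hA) hM)
      rw [inv_one, L.P_one, one_mul, ← h] at h1
      exact hz ((hc.trans (isConj_iff.2 ⟨c, h1⟩)).trans hσ).symm
    · rw [h, ← mul_assoc, mul_mem_cancel_right hσM, L.t_mul (ok_inv hA)] at hM
      obtain ⟨c, hcΓ, h1⟩ := L.sw_conj hA (A' := 1) (by simp)
        (by simpa [det_neg2] using sq_of_mem L (ok_inv hA).neg₁ hM)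
      rw [inv_one, L.P_one, one_mul] at h1
      refine hb ((hc.trans (isConj_iff.2 ⟨c, ?_⟩)).trans (conj_tσ L h3 hσ).symm)
      rw [h, ← conj_mul, h1, L.mem_C'.1 (L.Γ_le_C hcΓ)]

end B3

/-- Fusion for `q ≡ 3 (mod 4)`. -/
theorem w1b : W1b.{u, v} := fun G _ _ F _ _ L nix h3 => by
  suffices ∃ L' : LD G F, IsConj L'.t L'.z from
    let ⟨L', h⟩ := this
    B3.exists_ρ L' (fun _ => B3.nsw L' h3) h
  by_cases hz : IsConj L.t L.z
  · exact ⟨L, hz⟩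
  obtain ⟨v, hv, hne, hc⟩ := L.exists_fused nix
  obtain ⟨g, rfl⟩ := isConj_iff.1 hc
  obtain ⟨L', A, -, hσ, ht, -⟩ := B3.coord L hv (fun h => hne (B3.eq_t L h3 hz h hc))
    (B3.cj_sq L.t_sq)
  exact ⟨L', B3.conj_z L' h3 nix (hσ ▸ ht ▸ hc.symm)⟩

end Cfsg.Lib.L45
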