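import Cfsg.Agent.L45.Aut

/-!
# Recognition of `L₄(q)`: the involutions of the centralizer of `t`
-/

set_option autoImplicit false

namespace Cfsg.Lib.L45

open Matrix Cfsg.Lib.Class Cfsg.Lib.Rank2.Lin Cfsg.Lib.Trans Subgroup
open scoped MatrixGroups commutatorElement

universe u v

variable {G : Type u} [Group G] {F : Type v} [Field F]

section Inv

variable {A B A' : M2 F}

theorem trace_of_sq {c : F} (h : A * A = c • 1) (h1 : ∀ c : F, A ≠ c • 1) :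
    A 0 0 + A 1 1 = 0 ∧ A.det = -c := by
  have e : (A 0 0 + A 1 1) • A = (c + A.det) • (1 : M2 F) := by
    rw [add_smul c, ← h, cayley A, sub_add_cancel]
  have h0 : A 0 0 + A 1 1 = 0 := by
    by_contra k
    exact h1 ((A 0 0 + A 1 1)⁻¹ * (c + A.det)) (by
      rw [mul_smul, ← e, smul_smul, inv_mul_cancel₀ k, one_smul])
  rw [h0, zero_smul, ← zero_smul F (1 : M2 F)] at e
  exact ⟨h0, by linear_combination -smul_one_inj e⟩

theorem conj_of_mul {X M : M2 F} (h : A * X = X * M) (hX : X.det ≠ 0) : X * M * X⁻¹ = A := by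
  rw [← h, mul_inv_cancel_right_m hX]

theorem exists_conj_J (h2 : (2 : F) ≠ 0) (h : A * A = 1) (h1 : ∀ c : F, A ≠ c • 1) {d : F}
    (hd : d ≠ 0) : ∃ X : M2 F, X.det = d ∧ X * mJ * X⁻¹ = A := by
  obtain ⟨k1, k2⟩ := trace_of_sq (c := 1) (by rw [h, one_smul]) h1
  rw [det_fin_two] at k2
  have e : A 1 1 = -A 0 0 := by linear_combination k1
  rw [e] at k2
  obtain ⟨X, h3, h4⟩ : ∃ X : M2 F, X.det ≠ 0 ∧ A * X = X * mJ := by
    by_cases k : A 0 0 + 1 = 0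
    · refine ⟨!![A 0 1, A 0 0 - 1; 1 - A 0 0, A 1 0], fun h0 => h2 (mul_self_eq_zero.1 ?_), ?_⟩
      · rw [det_fin_two_of] at h0
        linear_combination h0 + k2 + 2 * k
      · ext i j
        fin_cases i <;> fin_cases j <;> simp [mJ, mul_apply, Fin.sum_univ_two, e] <;>
          first | ring1 | linear_combination k2 | linear_combination -k2
    · refine ⟨!![A 0 0 + 1, A 0 1; A 1 0, -A 0 0 - 1], fun h0 => mul_ne_zero h2 k ?_, ?_⟩
      · rw [det_fin_two_of] at h0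
        linear_combination k2 - h0
      · ext i j
        fin_cases i <;> fin_cases j <;> simp [mJ, mul_apply, Fin.sum_univ_two, e] <;>
          first | ring1 | linear_combination k2 | linear_combination -k2
  have h5 : (X * dg (d / X.det) 1).det = d := by rw [det_mul, det_dg]; field_simp
  refine ⟨_, h5, conj_of_mul ?_ (h5.trans_ne hd)⟩
  rw [← mul_assoc, h4, mul_assoc, mul_assoc, mJ_eq, dg_mul, dg_mul, mul_comm 1, mul_comm (-1)]

theorem exists_sq_neg_one [Finite F] (h1 : Nat.card F % 4 = 1) : ∃ i : F, i * i = -1 := by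
  have := Fintype.ofFinite F
  obtain ⟨i, hi⟩ := FiniteField.isSquare_neg_one_iff (F := F).2 (by
    rw [← Nat.card_eq_fintype_card]; omega)
  exact ⟨i, hi.symm⟩

theorem not_sq_neg_one [Finite F] (h3 : Nat.card F % 4 = 3) (i : F) : i * i ≠ -1 := fun h => by
  have := Fintype.ofFinite F
  exact FiniteField.isSquare_neg_one_iff (F := F).1 ⟨i, h.symm⟩
    (by rwa [← Nat.card_eq_fintype_card])

theorem ne_smul_of_sq_neg [Finite F] (h3 : Nat.card F % 4 = 3) (h : A * A = -1) (c : F) :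
    A ≠ c • 1 := fun e => not_sq_neg_one h3 c (smul_one_inj (by
  rw [neg_one_smul, ← h, e, smul_mul_smul_comm, one_mul]))

theorem exists_comm_W [Finite F] (d : F) : ∃ X : M2 F, X.det = d ∧ mW * X = X * mW := by
  obtain ⟨a, b, h⟩ := Known.exists_sq_add_sq F d
  exact ⟨!![a, b; -b, a], by rw [det_fin_two_of, h]; ring, by simp [mW]⟩

theorem exists_conj_W [Finite F] (h3 : Nat.card F % 4 = 3) (h : A * A = -1) {d : F} (hd : d ≠ 0) :
    ∃ X : M2 F, X.det = d ∧ X * mW * X⁻¹ = A := by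
  obtain ⟨k1, k2⟩ := trace_of_sq (c := -1) (by rw [h, neg_one_smul]) (ne_smul_of_sq_neg h3 h)
  rw [det_fin_two] at k2
  have e : A 1 1 = -A 0 0 := by linear_combination k1
  rw [e] at k2
  have h4 : A 1 0 ≠ 0 := fun k => not_sq_neg_one h3 (A 0 0) (by
    rw [k] at k2; linear_combination -k2)
  have h5 : A * !![1, -A 0 0; 0, -A 1 0] = !![1, -A 0 0; 0, -A 1 0] * mW := by
    ext i j
    fin_cases i <;> fin_cases j <;> simp [mW, mul_apply, Fin.sum_univ_two, e] <;>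
      first | ring1 | linear_combination k2 | linear_combination -k2
  obtain ⟨Y, h6, h7⟩ := exists_comm_W (d / -A 1 0)
  have h8 : (!![1, -A 0 0; 0, -A 1 0] * Y).det = d := by
    rw [det_mul, h6, det_fin_two_of]; field_simp; ring
  exact ⟨_, h8, conj_of_mul (by rw [← mul_assoc, h5, mul_assoc, h7, mul_assoc]) (h8.trans_ne hd)⟩

theorem ok_of_det {X Y : M2 F} {c : F} (hc : c * c = 1) (h : X.det = c) (h' : Y.det = c) :
    Ok X Y := by rw [Ok, h, h', hc]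

theorem dgW_sq (a b : F) : dg a b * mW * (dg a b * mW) = (-(a * b)) • (1 : M2 F) := by
  simp [dg, mW, one_fin_two, mul_comm]

theorem dgW_ne {a : F} (ha : a ≠ 0) (b c : F) : dg a b * mW ≠ c • (1 : M2 F) := fun e =>
  ha (by simpa [dg, mW] using congrFun (congrFun e 0) 1)

namespace LD

variable (L : LD G F) {v : G}

include L in
theorem mod_four : Nat.card F % 4 = 1 ∨ Nat.card F % 4 = 3 := by
  have := Nat.odd_iff.1 L.odd
  omega

theorem ZC_of_sq (hA : A * A = 1) (hB : B * B = 1) (h1 : ∀ c : F, A ≠ c • 1)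
    (h2 : ∀ c : F, B ≠ c • 1) : L.ZC (L.P A B) := by
  obtain ⟨X, hX, e⟩ := exists_conj_J L.two_ne hA h1 one_ne_zero
  obtain ⟨Y, hY, e'⟩ := exists_conj_J (A := -B) L.two_ne (by rwa [neg_mul_neg])
    (fun c k => h2 (-c) (by rw [neg_smul, ← k, neg_neg])) one_ne_zero
  have h := ok_of_det (one_mul 1) hX hY
  exact ⟨_, L.P_mem_C h, by rw [z, L.P_conj h ok_z, e, mul_neg, neg_mul, e', neg_neg]⟩

theorem BC_of_sq (h3 : Nat.card F % 4 = 3) (hA : A * A = -1) (hB : B * B = -1) :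
    L.BC (L.P A B) := by
  have := L.finF
  obtain ⟨X, hX, e⟩ := exists_conj_W h3 hA one_ne_zero
  obtain ⟨Y, hY, e'⟩ := exists_conj_W h3 hB one_ne_zero
  have h := ok_of_det (one_mul 1) hX hY
  exact ⟨_, L.P_mem_C h, by rw [ww, L.P_conj h ok_WW, e, e']⟩

theorem ZC_of_sq_neg (hq : Nat.card F % 4 = 1) (hA : A * A = -1) (hB : B * B = -1)
    (h1 : ∀ c : F, A ≠ c • 1) (h2 : ∀ c : F, B ≠ c • 1) : L.ZC (L.P A B) := by
  have := L.finF
  obtain ⟨i, hi⟩ := exists_sq_neg_one hq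
  have k : ∀ {A : M2 F}, A * A = -1 → (∀ c : F, A ≠ c • 1) → A.det = 1 ∧ i • A * i • A = 1 ∧
      ∀ c : F, i • A ≠ c • 1 := fun {A} hA h1 =>
    ⟨(trace_of_sq (c := -1) (by rw [hA, neg_one_smul]) h1).2.trans (neg_neg 1),
      by rw [smul_mul_smul_comm, hi, hA, neg_one_smul, neg_neg], fun c e => h1 (-i * c) (by
        rw [mul_smul, ← e, smul_smul, neg_mul, hi, neg_neg, one_smul])⟩
  rw [← L.P_smul (c := i) (ok_of_det (one_mul 1) (k hA h1).1 (k hB h2).1)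
    (by linear_combination (i * i - 1) * hi)]
  exact L.ZC_of_sq (k hA h1).2.1 (k hB h2).2.1 (k hA h1).2.2 (k hB h2).2.2

theorem ZC_z : L.ZC L.z := ⟨1, one_mem _, by simp⟩

theorem ZC_tz : L.ZC (L.t * L.z) := ⟨_, L.n1_mem_C, L.n1_z⟩

theorem BC_ww : L.BC L.ww := ⟨1, one_mem _, by simp⟩

theorem BC_tww : L.BC (L.t * L.ww) := by
  have := L.finF
  obtain ⟨Y, h1, h2⟩ := exists_comm_W (-1 : F)
  have h : Ok mJ Y := ok_of_det (c := -1) (by ring) det_mJ h1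
  refine ⟨_, L.P_mem_C h, ?_⟩
  rw [ww, L.P_conj h ok_WW, conj_of_mul h2 h.ne₂, L.t_mul ok_WW, mJ_mW, neg_mul,
    mul_inv_cancel_right_m h.ne₁]

variable {L}

theorem ZC.conj (h : L.ZC v) {c : G} (hc : c ∈ L.C) : L.ZC (c * v * c⁻¹) := by
  obtain ⟨d, hd, rfl⟩ := h
  exact ⟨c * d, mul_mem hc hd, by group⟩

theorem BC.conj (h : L.BC v) {c : G} (hc : c ∈ L.C) : L.BC (c * v * c⁻¹) := by
  obtain ⟨d, hd, rfl⟩ := h
  exact ⟨c * d, mul_mem hc hd, by group⟩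

theorem ZC.t_mul (h : L.ZC v) : L.ZC (L.t * v) := by
  obtain ⟨d, hd, rfl⟩ := h
  have := L.ZC_tz.conj hd
  rwa [← conj_mul, L.mem_C'.1 hd] at this

theorem BC.t_mul (h : L.BC v) : L.BC (L.t * v) := by
  obtain ⟨d, hd, rfl⟩ := h
  have := L.BC_tww.conj hd
  rwa [← conj_mul, L.mem_C'.1 hd] at this

theorem ZC.mem_Γ (h : L.ZC v) : v ∈ L.Γ := by
  obtain ⟨d, hd, rfl⟩ := h
  exact L.conj_Γ hd L.z_mem_Γ

theorem BC.mem_H0 (h : L.BC v) : v ∈ L.H0 := by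
  obtain ⟨d, hd, rfl⟩ := h
  exact L.conj_H0 hd L.ww_mem_H0

theorem ZC.isConj (h : L.ZC v) : IsConj L.z v := by
  obtain ⟨d, -, e⟩ := h
  exact isConj_iff.2 ⟨d, e⟩

theorem BC.isConj (h : L.BC v) : IsConj L.ww v := by
  obtain ⟨d, -, e⟩ := h
  exact isConj_iff.2 ⟨d, e⟩

theorem ZC.ne_t (h : L.ZC v) : v ≠ L.t := fun e => by
  obtain ⟨d, hd, e'⟩ := h
  rw [e, ← L.mem_C'.1 hd, mul_left_inj, mul_right_inj] at e'
  exact L.z_ne_t e'

theorem BC.ne_t (h : L.BC v) : v ≠ L.t := fun e => by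
  obtain ⟨d, hd, e'⟩ := h
  rw [e, ← L.mem_C'.1 hd, mul_left_inj, mul_right_inj] at e'
  obtain ⟨c, h1, -⟩ := (L.P_eq_iff ok_WW ok_t).1 e'
  simpa [mW] using congrFun (congrFun h1 0) 1

theorem ZC.not_mem_H0 (h3 : Nat.card F % 4 = 3) (h : L.ZC v) : v ∉ L.H0 := fun hv => by
  have := L.finF
  obtain ⟨d, hd, rfl⟩ := h
  obtain ⟨a, b, e⟩ := (L.conj_H0_iff hd).1 hv
  obtain ⟨c, h1, -⟩ := (L.P_eq_iff ok_z (ok_sl a b)).1 e
  have h2 := congrArg det h1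
  rw [det_mJ, det_smul2, a.det_coe, mul_one] at h2
  exact not_sq_neg_one h3 c h2.symm

variable (L)

theorem not_UC (h3 : Nat.card F % 8 ≠ 1) : ¬ L.UC v := by
  rintro ⟨a, B, ha, -⟩
  have := L.finF
  have h0 : a ≠ 0 := fun e => by simp [e] at ha
  have h1 : orderOf (Units.mk0 a h0) = 2 ^ (2 + 1) := orderOf_eq_prime_pow
    (fun e => L.neg_one_ne (ha.symm.trans (by simpa using congrArg Units.val e)))
    (Units.ext (by simp; linear_combination (a ^ 4 - 1) * ha))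
  have h2 := orderOf_dvd_natCard (Units.mk0 a h0)
  rw [h1, Nat.card_units] at h2
  have h4 : 0 < Nat.card F := Nat.card_pos
  omega

theorem inv_cases (h : Ok A B) (h2 : L.P A B * L.P A B = 1) : L.P A B = 1 ∨ L.P A B = L.t ∨
    ((∀ c : F, A ≠ c • 1) ∧ (∀ c : F, B ≠ c • 1) ∧ ((A * A = 1 ∧ B * B = 1 ∧ A.det = -1) ∨
      (A * A = -1 ∧ B * B = -1))) ∨ ∃ a : F, a ^ 4 = -1 ∧ (A = a • 1 ∨ B = a • 1) := by
  rw [L.mul h h, L.eq_one (h.mul h)] at h2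
  obtain ⟨c, hA, hB⟩ := h2
  have k : ∀ {A : M2 F} {a : F}, A * A = c • 1 → A = a • 1 → a * a = c := fun h e =>
    smul_one_inj (by rw [← h, e, smul_mul_smul_comm, one_mul])
  have h' := h
  rw [Ok] at h'
  by_cases h1 : ∃ a : F, A = a • 1 <;> by_cases h3 : ∃ a : F, B = a • 1
  · obtain ⟨a, e⟩ := h1
    obtain ⟨b, e'⟩ := h3
    rcases mul_self_eq_mul_self_iff.1 ((k hA e).trans (k hB e').symm) with rfl | rfl
    · exact .inl ((L.eq_one h).2 ⟨_, e, e'⟩)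
    · exact .inr (.inl ((L.P_eq_iff h ok_t).2 ⟨b, by simp [e], e'⟩))
  · obtain ⟨a, e⟩ := h1
    rw [(trace_of_sq hB fun c e => h3 ⟨c, e⟩).2, ← k hA e, e, det_smul2, det_one] at h'
    exact .inr (.inr (.inr ⟨a, by linear_combination -h', .inl e⟩))
  · obtain ⟨a, e⟩ := h3
    rw [(trace_of_sq hA fun c e => h1 ⟨c, e⟩).2, ← k hB e, e, det_smul2, det_one] at h'
    exact .inr (.inr (.inr ⟨a, by linear_combination -h', .inr e⟩))
  · have e := (trace_of_sq hA fun c e => h1 ⟨c, e⟩).2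
    rw [e, (trace_of_sq hB fun c e => h3 ⟨c, e⟩).2, neg_mul_neg, mul_self_eq_one_iff] at h'
    refine .inr (.inr (.inl ⟨fun c e => h1 ⟨c, e⟩, fun c e => h3 ⟨c, e⟩, ?_⟩))
    rcases h' with rfl | rfl
    · exact .inl ⟨by simpa using hA, by simpa using hB, e⟩
    · exact .inr ⟨by simpa using hA, by simpa using hB⟩

theorem inv_Γ (hv : v ∈ L.Γ) (h2 : v * v = 1) :
    v = 1 ∨ v = L.t ∨ L.ZC v ∨ (Nat.card F % 4 = 3 ∧ L.BC v) ∨ L.UC v := by
  obtain ⟨A, B, h, rfl⟩ := hv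
  rcases L.inv_cases h h2 with k | k | ⟨k1, k2, k | k⟩ | ⟨a, ha, rfl | rfl⟩
  · exact .inl k
  · exact .inr (.inl k)
  · exact .inr (.inr (.inl (L.ZC_of_sq k.1 k.2.1 k1 k2)))
  · rcases L.mod_four with q | q
    · exact .inr (.inr (.inl (L.ZC_of_sq_neg q k.1 k.2 k1 k2)))
    · exact .inr (.inr (.inr (.inl ⟨q, L.BC_of_sq q k.1 k.2⟩)))
  · exact .inr (.inr (.inr (.inr ⟨a, B, ha, h, .inl rfl⟩)))
  · exact .inr (.inr (.inr (.inr ⟨a, A, ha, h.symm, .inr rfl⟩)))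

theorem inv_H0 (hv : v ∈ L.H0) (h2 : v * v = 1) :
    v = 1 ∨ v = L.t ∨ (Nat.card F % 4 = 1 ∧ L.ZC v) ∨ (Nat.card F % 4 = 3 ∧ L.BC v) := by
  obtain ⟨a, b, rfl⟩ := hv
  have K : ∀ (s : SL(2, F)) (c : F), c ^ 4 = -1 → (s : M2 F) ≠ c • 1 := fun s c hc e => by
    have := congrArg det e
    rw [s.det_coe, det_smul2, det_one] at this
    exact L.neg_one_ne (by linear_combination -hc - (c * c + 1) * this)
  rcases L.inv_cases (ok_sl a b) h2 with k | k | ⟨k1, k2, k | k⟩ | ⟨c, hc, k | k⟩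
  · exact .inl k
  · exact .inr (.inl k)
  · exact absurd (k.2.2.symm.trans a.det_coe) L.neg_one_ne
  · rcases L.mod_four with q | q
    · exact .inr (.inr (.inl ⟨q, L.ZC_of_sq_neg q k.1 k.2 k1 k2⟩))
    · exact .inr (.inr (.inr ⟨q, L.BC_of_sq q k.1 k.2⟩))
  · exact absurd k (K a c hc)
  · exact absurd k (K b c hc)

theorem inv_sw (hv : v ∈ L.C) (h : v ∉ L.Γ) (h2 : v * v = 1) : ∃ A : M2 F, A.det ≠ 0 ∧
    (v = L.P A A⁻¹ * L.σ ∨ Nat.card F % 4 = 3 ∧ v = L.t * (L.P A A⁻¹ * L.σ)) := by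
  have := L.finF
  obtain ⟨A, B, h1, rfl⟩ := L.exists_sw hv h
  rw [L.sw_mul_sw h1 h1, L.eq_one (h1.mul h1.symm)] at h2
  obtain ⟨c, e, -⟩ := h2
  have hA := h1.ne₁
  obtain rfl : B = c • A⁻¹ := by rw [← inv_mul_cancel_left_m hA B, e, mul_smul_comm, mul_one]
  have hc : c * c = 1 := by
    rw [Ok, det_smul2, det_inv_m] at h1
    field_simp at h1
    linear_combination h1
  rcases mul_self_eq_one_iff.1 hc with rfl | rfl
  · exact ⟨A, hA, .inl (by rw [one_smul])⟩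
  rcases L.mod_four with q | q
  · obtain ⟨i, hi⟩ := exists_sq_neg_one q
    have e1 : (i • A)⁻¹ = i • (-1 : F) • A⁻¹ := inv_eq_right_inv (by
      rw [smul_mul_smul_comm, mul_smul_comm, mul_inv_m hA, hi, smul_smul]; simp)
    refine ⟨i • A, ?_, .inl (by rw [e1, L.P_smul h1 (by linear_combination (i * i - 1) * hi)])⟩
    rw [det_smul2, hi]
    simpa using hA
  · exact ⟨A, hA, .inr ⟨q, by
      rw [neg_one_smul, L.P_neg₂ (ok_inv hA), ← mul_assoc, L.t_mul (ok_inv hA)]⟩⟩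

theorem sw_sq (hA : A.det ≠ 0) : L.P A A⁻¹ * L.σ * (L.P A A⁻¹ * L.σ) = 1 := by
  rw [L.sw_mul_sw (ok_inv hA) (ok_inv hA), mul_inv_m hA, inv_mul_m hA, L.P_one]

theorem sw_conj (hA : A.det ≠ 0) (hA' : A'.det ≠ 0) (h : IsSquare (A.det * A'.det)) :
    ∃ c ∈ L.Γ, c * (L.P A A⁻¹ * L.σ) * c⁻¹ = L.P A' A'⁻¹ * L.σ := by
  obtain ⟨r, hr⟩ := h
  obtain ⟨X, hX⟩ : ∃ X : M2 F, X.det = r / A.det := ⟨dg (r / A.det) 1, by simp⟩
  have h1 : Ok X (A'⁻¹ * X * A) := by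
    rw [Ok, det_mul, det_mul, det_inv_m, hX]
    field_simp
    linear_combination -hr
  refine ⟨_, L.P_mem_Γ h1, ?_⟩
  rw [L.P_conj_sw h1 (ok_inv hA), mul_inv_cancel_right_m hA, mul_inv_cancel_right_m h1.ne₁,
    ← mul_inv_cancel_left_m hA' (X * A), ← mul_assoc A'⁻¹, mul_inv_cancel_right_m h1.ne₂]

theorem sw_conj_T (hA : A.det ≠ 0) :
    ∃ c ∈ L.Γ, ∃ τ ∈ L.T, c * (L.P A A⁻¹ * L.σ) * c⁻¹ = τ * L.σ := by
  obtain ⟨c, hc, e⟩ := L.sw_conj (A' := dg A.det 1) hA (by simpa using hA) ⟨A.det, by simp⟩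
  rw [inv_dg hA one_ne_zero] at e
  exact ⟨c, hc, _, L.dg_mem_T (by simp [hA]), e⟩

theorem sw_conj_three (h3 : Nat.card F % 4 = 3) (hA : A.det ≠ 0) :
    ∃ c ∈ L.Γ, c * (L.P A A⁻¹ * L.σ) * c⁻¹ = L.σ ∨
      c * (L.P A A⁻¹ * L.σ) * c⁻¹ = L.t * L.z * L.σ := by
  have := L.finF
  by_cases h : IsSquare A.det
  · obtain ⟨c, hc, e⟩ := L.sw_conj (A' := 1) hA (by simp) (by simpa using h)
    exact ⟨c, hc, .inl (by rwa [inv_one, L.P_one, one_mul] at e)⟩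
  · classical
    have := Fintype.ofFinite F
    obtain ⟨c, hc, e⟩ := L.sw_conj (A' := mJ) hA J_ne (by
      rw [← quadraticChar_one_iff_isSquare (mul_ne_zero hA J_ne), map_mul,
        quadraticChar_neg_one_iff_not_isSquare.2 h, quadraticChar_neg_one_iff_not_isSquare.2
          fun ⟨i, hi⟩ => not_sq_neg_one h3 i (hi.symm.trans det_mJ)]
      rfl)
    exact ⟨c, hc, .inr (by rwa [inv_mJ, ← L.tz_eq] at e)⟩

theorem σ_conj_tσ (h1 : Nat.card F % 4 = 1) : ∃ c ∈ L.Γ, c * L.σ * c⁻¹ = L.t * L.σ := by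
  have := L.finF
  obtain ⟨i, hi⟩ := exists_sq_neg_one h1
  have h2 : (i • (1 : M2 F)).det = -1 := by rw [det_smul2, hi]; simp
  have h3 : (i • (1 : M2 F)).det ≠ 0 := by rw [h2]; simp
  obtain ⟨c, hc, e⟩ := L.sw_conj (A := 1) (by simp) h3 ⟨i, by rw [h2, hi]; simp⟩
  rw [inv_one, L.P_one, one_mul, (L.P_eq_iff (ok_inv h3) ok_t).2 ⟨-i, by simp, inv_eq_right_inv (by
    rw [smul_mul_smul_comm, mul_neg, hi]; simp)⟩] at e
  exact ⟨c, hc, e⟩

/-- Involutions in the coset `T ww`. -/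
theorem inv_Tww {τ : G} (hτ : τ ∈ L.T) (h2 : τ * L.ww * (τ * L.ww) = 1) :
    (L.ZC (τ * L.ww) ∧ (Nat.card F % 4 = 3 → L.BC (L.z * (τ * L.ww)))) ∨
      (Nat.card F % 4 = 3 ∧ L.BC (τ * L.ww) ∧ L.ZC (L.z * (τ * L.ww))) := by
  obtain ⟨a, b, c, d, h, rfl⟩ := hτ
  have ho := (ok_dg h).mul (ok_WW (F := F))
  have ha : a ≠ 0 := fun e => by simp [e] at h
  have hc : c ≠ 0 := fun e => by simp [e] at h
  have e : L.z * L.P (dg a b * mW) (dg c d * mW) = L.P (dg a (-b) * mW) (dg (-c) d * mW) := by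
    rw [z, L.mul ok_z ho, ← mul_assoc, ← mul_assoc, mJ_eq, neg_dg, dg_mul, dg_mul]
    simp
  rw [ww, L.mul (ok_dg h) ok_WW] at h2 ⊢
  rw [e]
  rw [L.mul ho ho, L.eq_one (ho.mul ho), dgW_sq, dgW_sq] at h2
  obtain ⟨x, h3, h4⟩ := h2
  have h5 : c * d = a * b := neg_injective ((smul_one_inj h4).trans (smul_one_inj h3).symm)
  rw [h5, mul_self_eq_one_iff] at h
  have hc' := neg_ne_zero.2 hc
  rcases h with h | h
  · rcases L.mod_four with q | q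
    · exact .inl ⟨L.ZC_of_sq_neg q (by simp [dgW_sq, h]) (by simp [dgW_sq, h, h5]) (dgW_ne ha _)
        (dgW_ne hc _), fun k => by omega⟩
    · exact .inr ⟨q, L.BC_of_sq q (by simp [dgW_sq, h]) (by simp [dgW_sq, h, h5]), L.ZC_of_sq
        (by simp [dgW_sq, h]) (by simp [dgW_sq, h, h5]) (dgW_ne ha _) (dgW_ne hc' _)⟩
  · exact .inl ⟨L.ZC_of_sq (by simp [dgW_sq, h]) (by simp [dgW_sq, h, h5]) (dgW_ne ha _)
      (dgW_ne hc _), fun q => L.BC_of_sq q (by simp [dgW_sq, h]) (by simp [dgW_sq, h, h5])⟩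

end LD

theorem L1.isConj_z (Δ : L1 G F) : IsConj Δ.t Δ.z := isConj_iff.2 ⟨_, Δ.ρ_t⟩

theorem L1.isConj_of_ZC (Δ : L1 G F) {v : G} (h : Δ.ZC v) : IsConj Δ.t v :=
  Δ.isConj_z.trans h.isConj

theorem L1.not_isConj_of_BC (Δ : L1 G F) (h3 : Nat.card F % 4 = 3) {v : G} (h : Δ.BC v) :
    ¬ IsConj Δ.t v := fun k =>
  (Δ.nsw v (Δ.H0_le_Γ h.mem_H0) k).elim h.ne_t fun k' => k'.not_mem_H0 h3 h.mem_H0

theorem L1.ρ_tz (Δ : L1 G F) : Δ.ρ * (Δ.t * Δ.z) * Δ.ρ⁻¹ = Δ.t := by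
  rw [← conj_mul, Δ.ρ_t, Δ.ρ_z, ← mul_assoc, Δ.z_t, mul_assoc, Δ.z_sq, mul_one]

theorem L1.ρ_B0 (Δ : L1 G F) : Δ.ρ ∈ normalizer (Δ.B0 : Set G) := by
  have k : ∀ x y : G, Δ.ρ * x * Δ.ρ⁻¹ * (Δ.ρ * y * Δ.ρ⁻¹) = Δ.ρ * y * Δ.ρ⁻¹ * (Δ.ρ * x * Δ.ρ⁻¹) ↔
      x * y = y * x := fun x y => by rw [conj_mul, conj_mul, mul_left_inj, mul_right_inj]
  refine mem_normalizer_iff.2 fun h => ?_
  have k1 := k h (Δ.t * Δ.z)
  have k2 := k h Δ.t
  rw [Δ.ρ_tz] at k1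
  rw [Δ.ρ_t] at k2
  rw [LD.mem_B0, LD.mem_B0, k1, k2]
  refine ⟨fun e => ⟨?_, e.1⟩, fun e => ⟨e.2, ?_⟩⟩
  · rw [← mul_assoc, e.1, mul_assoc, e.2, mul_assoc]
  · have := e.1
    rwa [← mul_assoc, e.2, mul_assoc, mul_assoc, mul_right_inj] at this

end Inv

end Cfsg.Lib.L45
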