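import Cfsg.Agent.L45.Cent
import Cfsg.Agent.L45.Inv

/-!
# Recognition of `L₄(q)`: the torus is invariant, and the frame
-/

set_option autoImplicit false

namespace Cfsg.Lib.L45

open Matrix Cfsg.Lib.Class Cfsg.Lib.Rank2.Lin Cfsg.Lib.Trans Subgroup
open scoped MatrixGroups

universe u v

variable {G : Type u} [Group G] {F : Type v} [Field F]

theorem w2_conj {H : Subgroup G} {g x : G} (hg : g ∈ normalizer (H : Set G)) (hx : x ∈ H) :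
    g * x * g⁻¹ ∈ H := (mem_normalizer_iff.1 hg x).1 hx

theorem w2_conj' {H : Subgroup G} {g x : G} (hg : g ∈ normalizer (H : Set G))
    (hx : g * x * g⁻¹ ∈ H) : x ∈ H := (mem_normalizer_iff.1 hg x).2 hx

theorem exists_four_ne [Finite F] (h : 5 < Nat.card F) : ∃ a : F, a ≠ 0 ∧ a ^ 4 ≠ 1 := by
  obtain ⟨g, hg⟩ := IsCyclic.exists_ofOrder_eq_natCard (α := Fˣ)
  refine ⟨g, g.ne_zero, fun e => ?_⟩
  have h1 : orderOf g ∣ 4 := orderOf_dvd_of_pow_eq_one (Units.ext (by simpa using e))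
  have h2 := Nat.le_of_dvd (by norm_num) h1
  rw [hg, Nat.card_units] at h2
  omega

theorem LD.T_three (L : LD G F) (h : Nat.card F = 3) {x : G} (hx : x ∈ L.T) :
    x = 1 ∨ x = L.t ∨ x = L.z ∨ x = L.t * L.z := by
  have := L.finF
  have := Fintype.ofFinite F
  have sq : ∀ s : F, s ≠ 0 → s = 1 ∨ s = -1 := fun s hs => by
    have h1 := FiniteField.pow_card_sub_one_eq_one s hs
    rw [← Nat.card_eq_fintype_card, h, pow_two] at h1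
    exact mul_self_eq_one_iff.1 h1
  obtain ⟨a, b, c, d, e, rfl⟩ := hx
  have n1 := left_ne_zero_of_mul_eq_one e
  have n2 := right_ne_zero_of_mul_eq_one e
  have k := L.neg_one_ne
  have e1 : dg (-1 : F) (-1) = -1 := by rw [← neg_dg, dg_one]
  have e2 : dg (-1 : F) 1 = -mJ := by rw [mJ_eq, neg_dg, neg_neg]
  rcases sq a (left_ne_zero_of_mul n1) with rfl | rfl <;>
    rcases sq b (right_ne_zero_of_mul n1) with rfl | rfl <;>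
    rcases sq c (left_ne_zero_of_mul n2) with rfl | rfl <;>
    rcases sq d (right_ne_zero_of_mul n2) with rfl | rfl <;>
    first
    | exact absurd (by simpa using e) k
    | simp only [dg_one, e1, e2, ← mJ_eq, L.P_neg_neg ok_one, L.P_neg₂ ok_one, L.P_neg_neg ok_JJ,
        ← L.P_neg₂ ok_JJ, L.P_one, ← L.tz_eq, LD.t, LD.z, true_or, or_true]

theorem LD.mem_T_of_comm (L : LD G F) {a : F} (ha : a ≠ 0) (h4 : a ^ 4 ≠ 1) {x : G}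
    (hx : x ∈ L.B0) (h : ∀ y ∈ L.B0, x * (y * y) = y * y * x) : x ∈ L.T := by
  obtain ⟨b, hb⟩ : ∃ b, a * b = 1 := ⟨a⁻¹, mul_inv_cancel₀ ha⟩
  have o1 : a * 1 * (1 * b) = 1 := by rw [mul_one, one_mul, hb]
  have o2 : a * a * 1 * (1 * (b * b)) = 1 := by linear_combination (a * b + 1) * hb
  have h0 := h _ (L.T_le_B0 (L.dg_mem_T o1))
  rw [L.mul (ok_dg o1) (ok_dg o1), dg_mul, dg_mul, mul_one] at h0
  have m := L.dg_mem_T o2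
  have key : ∀ τ ∈ L.T, ∀ e, x = τ * e → e * L.P (dg (a * a) 1) (dg 1 (b * b)) * e⁻¹ =
      L.P (dg (a * a) 1) (dg 1 (b * b)) := fun τ hτ e he => by
    rw [he, mul_assoc, ← mul_assoc _ τ, ← L.T_comm hτ m, mul_assoc] at h0
    rw [mul_left_cancel h0, mul_inv_cancel_right]
  obtain ⟨τ, hτ, e | e | e | e⟩ := L.B0_cases hx
  · exact e ▸ hτ
  · have k := key τ hτ _ e
    rw [L.ww_dg o2, L.P_eq_iff (ok_dg (by linear_combination o2)) (ok_dg o2)] at k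
    obtain ⟨c, k1, -⟩ := k
    rw [smul_dg, dg_inj] at k1
    exact absurd (by linear_combination (a * a) * k1.2 - k1.1) h4
  · have k := key τ hτ _ e
    rw [L.σ_dg o2, L.P_eq_iff (ok_dg (by linear_combination o2)) (ok_dg o2)] at k
    obtain ⟨c, k1, k2⟩ := k
    rw [smul_dg, dg_inj] at k1 k2
    exact absurd (by linear_combination (a * a) * k2.1 - k1.1) h4
  · have k := key τ hτ _ e
    rw [_root_.mul_inv_rev, mul_assoc L.ww, ← mul_assoc, mul_assoc L.ww, L.σ_dg o2,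
      L.ww_dg (by linear_combination o2),
      L.P_eq_iff (ok_dg (by linear_combination o2)) (ok_dg o2)] at k
    obtain ⟨c, k1, -⟩ := k
    rw [smul_dg, dg_inj] at k1
    exact absurd (by
      linear_combination (a ^ 4) * k1.2 - (a * a) * k1.1 + (a * b + 1) * hb) h4

theorem w2a : W2a.{u, v} := by
  intro G _ _ F _ _ Δ h5
  refine mem_normalizer_of_cj_le (cj_le_iff.2 fun x hx => ?_)
  by_cases h3 : Nat.card F = 3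
  · rcases Δ.T_three h3 hx with rfl | rfl | rfl | rfl
    · simp
    · rw [Δ.ρ_t]; exact Δ.z_mem_T
    · rw [Δ.ρ_z]; exact mul_mem Δ.t_mem_T Δ.z_mem_T
    · rw [Δ.ρ_tz]; exact Δ.t_mem_T
  obtain ⟨a, ha, h4⟩ := exists_four_ne (F := F) (by
    have h1 := Δ.odd
    have h2 : 1 < Nat.card F := Finite.one_lt_card
    rw [Nat.odd_iff] at h1
    omega)
  refine Δ.mem_T_of_comm ha h4 (w2_conj Δ.ρ_B0 (Δ.T_le_B0 hx)) fun y hy => ?_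
  have h1 := Δ.T_comm hx (Δ.mul_self_mem_T (w2_conj (inv_mem Δ.ρ_B0) hy))
  calc Δ.ρ * x * Δ.ρ⁻¹ * (y * y)
      = Δ.ρ * (x * (Δ.ρ⁻¹ * y * Δ.ρ⁻¹⁻¹ * (Δ.ρ⁻¹ * y * Δ.ρ⁻¹⁻¹))) * Δ.ρ⁻¹ := by group
    _ = y * y * (Δ.ρ * x * Δ.ρ⁻¹) := by rw [h1]; group

/-- Congruence modulo the torus. -/
def LD.Co (L : LD G F) (x y : G) : Prop := x * y⁻¹ ∈ L.T

theorem LD.Co_eq_1' : type_of% @LD.Co.eq_1 := @LD.Co.eq_1

namespace LD.Co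

variable {L : LD G F} {x y w x' y' g : G}

theorem symm (h : L.Co x y) : L.Co y x := by
  have := inv_mem h
  rwa [_root_.mul_inv_rev, inv_inv] at this

theorem trans (h : L.Co x y) (h' : L.Co y w) : L.Co x w := by
  have := mul_mem h h'
  rwa [mul_assoc, inv_mul_cancel_left] at this

theorem mul (h : L.Co x y) (h' : L.Co x' y') (hy : y ∈ normalizer (L.T : Set G)) :
    L.Co (x * x') (y * y') := by
  have := mul_mem h (w2_conj hy h')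
  rwa [show x * y⁻¹ * (y * (x' * y'⁻¹) * y⁻¹) = x * x' * (y * y')⁻¹ by group] at this

theorem conj (h : L.Co x y) (hg : g ∈ normalizer (L.T : Set G)) :
    L.Co (g * x * g⁻¹) (g * y * g⁻¹) := by
  have := w2_conj hg h
  rwa [show g * (x * y⁻¹) * g⁻¹ = g * x * g⁻¹ * (g * y * g⁻¹)⁻¹ by group] at this

theorem of_conj (h : L.Co (g * x * g⁻¹) (g * y * g⁻¹)) (hg : g ∈ normalizer (L.T : Set G)) :
    L.Co x y := by
  refine w2_conj' hg ?_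
  rwa [show g * (x * y⁻¹) * g⁻¹ = g * x * g⁻¹ * (g * y * g⁻¹)⁻¹ by group]

theorem left (h : L.Co x y) (hg : g ∈ L.T) : L.Co (g * x) y := by
  have := mul_mem hg h
  rwa [← mul_assoc] at this

theorem exists_eq (h : L.Co x y) : ∃ τ ∈ L.T, x = τ * y := ⟨_, h, by group⟩

end LD.Co

namespace LD

variable (L : LD G F)

theorem co_cases {x : G} (hx : x ∈ L.B0) :
    x ∈ L.T ∨ L.Co x L.ww ∨ L.Co x L.σ ∨ L.Co x (L.ww * L.σ) := by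
  obtain ⟨τ, hτ, e | e | e | e⟩ := L.B0_cases hx <;>
    simp only [Co, e, hτ, mul_inv_cancel_right, true_or, or_true]

theorem not_co_wσ : ¬ L.Co L.ww L.σ := fun h => L.wwσ_not_mem (by rwa [Co, L.σ_inv] at h)

theorem not_co_wwσ : ¬ L.Co (L.ww * L.σ) L.ww := fun h => L.σ_not_mem_T (by
  rwa [Co, ← L.σ_ww, mul_inv_cancel_right] at h)

end LD

namespace L1

variable [Finite G] (Δ : L1 G F)

theorem co_cube {y : G} (hy : y ∈ Δ.B0) :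
    Δ.Co (Δ.ρ * (Δ.ρ * (Δ.ρ * y * Δ.ρ⁻¹) * Δ.ρ⁻¹) * Δ.ρ⁻¹) y := by
  have e : ∀ x, Δ.ρ * (Δ.ρ * (Δ.ρ * x * Δ.ρ⁻¹) * Δ.ρ⁻¹) * Δ.ρ⁻¹ =
      Δ.ρ * Δ.ρ * Δ.ρ * x * (Δ.ρ * Δ.ρ * Δ.ρ)⁻¹ := fun x => by group
  have h : Δ.ρ * Δ.ρ * Δ.ρ ∈ Δ.B0 := Δ.mem_B0.2
    ⟨mul_inv_eq_iff_eq_mul.1 (by rw [← e, Δ.ρ_t, Δ.ρ_z, Δ.ρ_tz]),
      mul_inv_eq_iff_eq_mul.1 (by rw [← e, Δ.ρ_z, Δ.ρ_tz, Δ.ρ_t])⟩
  rw [e]
  exact Δ.comm_mem_T h hy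

variable (hT : Δ.ρ ∈ normalizer (Δ.T : Set G))
include hT

theorem co_σ (hw : Δ.Co (Δ.ρ * Δ.ww * Δ.ρ⁻¹) (Δ.ww * Δ.σ)) : Δ.Co (Δ.ρ * Δ.σ * Δ.ρ⁻¹) Δ.ww := by
  rcases Δ.co_cases (w2_conj Δ.ρ_B0 Δ.σ_mem_B0) with h | h | h | h
  · exact absurd (w2_conj' hT h) Δ.σ_not_mem_T
  · exact h
  · have h1 := hw.mul h (mul_mem Δ.ww_N Δ.σ_N)
    rw [conj_mul, Δ.mul_σ_σ] at h1
    exact absurd ((hw.symm.trans ((((hw.conj hT).trans h1).conj hT).symm)).trans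
      (Δ.co_cube Δ.ww_mem_B0)) Δ.not_co_wwσ
  · exact absurd ((hw.trans h.symm).of_conj hT) Δ.not_co_wσ

theorem co_inv (hw : Δ.Co (Δ.ρ * Δ.ww * Δ.ρ⁻¹) Δ.σ) :
    Δ.Co (Δ.ρ⁻¹ * Δ.ww * Δ.ρ⁻¹⁻¹) (Δ.ww * Δ.σ) := by
  rcases Δ.co_cases (w2_conj Δ.ρ_B0 Δ.σ_mem_B0) with h | h | h | h
  · exact absurd (w2_conj' hT h) Δ.σ_not_mem_T
  · exact absurd (((Δ.co_cube Δ.ww_mem_B0).symm.trans (((hw.conj hT).trans h).conj hT)).trans hw)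
      Δ.not_co_wσ
  · exact absurd ((hw.trans h.symm).of_conj hT) Δ.not_co_wσ
  · have h1 := hw.mul h Δ.σ_N
    rw [conj_mul, ← mul_assoc Δ.σ, Δ.σ_ww, Δ.mul_σ_σ] at h1
    have h2 := h1.conj (inv_mem hT)
    rw [show Δ.ρ⁻¹ * (Δ.ρ * (Δ.ww * Δ.σ) * Δ.ρ⁻¹) * Δ.ρ⁻¹⁻¹ = Δ.ww * Δ.σ by group] at h2
    exact h2.symm

omit hT [Finite G] in
theorem isConj_of_ρ {v : G} (h : IsConj Δ.t (Δ.ρ * v * Δ.ρ⁻¹)) : IsConj Δ.t v :=
  h.trans (isConj_iff.2 ⟨Δ.ρ, rfl⟩).symm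

omit hT [Finite G] in
theorem ρ_sq {v : G} (h : v * v = 1) : Δ.ρ * v * Δ.ρ⁻¹ * (Δ.ρ * v * Δ.ρ⁻¹) = 1 := by
  rw [conj_mul, h, mul_one, mul_inv_cancel]

theorem frame_one (h1 : Nat.card F % 4 = 1) : Nonempty (Fr G F) := by
  have := Δ.finF
  have hw : Δ.Co (Δ.ρ * Δ.ww * Δ.ρ⁻¹) (Δ.ww * Δ.σ) := by
    obtain ⟨i, hi⟩ := exists_sq_neg_one h1
    have o : i * 1 * (-i * 1) = 1 := by linear_combination -hi
    have sq : ∀ τ e : G, e * e = 1 → τ * e * (τ * e) = τ * (e * τ * e⁻¹) := fun τ e he => by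
      rw [inv_eq_of_mul_eq_one_right he]; group
    have e1 : Δ.P (dg i 1) (dg (-i) 1) * Δ.ww * (Δ.P (dg i 1) (dg (-i) 1) * Δ.ww) = Δ.t := by
      rw [sq _ _ Δ.ww_sq, Δ.ww_dg o, Δ.mul (ok_dg o) (ok_dg (by linear_combination o)), dg_mul,
        dg_mul, LD.t, ← Δ.P_neg₂ ok_one, ← Δ.P_smul ok_one.neg₂ (c := i) (by
          linear_combination (i * i - 1) * hi)]
      simp only [mul_one, one_mul, dg_self, smul_neg, neg_smul]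
    have e2 : ∀ e, Δ.Co (Δ.ρ * Δ.ww * Δ.ρ⁻¹) e → e * e = 1 →
        ∃ τ ∈ Δ.T, τ * (e * τ * e⁻¹) = Δ.z := fun e he h2 => by
      obtain ⟨τ, hτ, e3⟩ := (he.left (w2_conj hT (Δ.dg_mem_T o))).exists_eq
      exact ⟨τ, hτ, by rw [← sq τ e h2, ← e3, conj_mul, conj_mul, e1, Δ.ρ_t]⟩
    rcases Δ.co_cases (w2_conj Δ.ρ_B0 Δ.ww_mem_B0) with h | h | h | h
    · exact absurd (w2_conj' hT h) Δ.ww_not_mem
    · obtain ⟨_, ⟨a, b, c, d, k, rfl⟩, e3⟩ := e2 _ h Δ.ww_sq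
      have k' : b * a * (d * c) = 1 := by linear_combination k
      rw [Δ.ww_dg k, Δ.mul (ok_dg k) (ok_dg k'), LD.z,
        Δ.P_eq_iff' ((ok_dg k).mul (ok_dg k')) ok_z, dg_mul, mJ_eq] at e3
      obtain ⟨c, k1, k2, -⟩ := e3
      rw [smul_dg, dg_inj] at k2
      have k3 : c = 0 := (mul_eq_zero.1 (show 2 * c = 0 by
        linear_combination k2.2 - k2.1)).resolve_left Δ.two_ne
      rw [k3] at k1
      simp at k1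
    · obtain ⟨_, ⟨a, b, c, d, k, rfl⟩, e3⟩ := e2 _ h Δ.σ_sq
      have k' : c * d * (a * b) = 1 := by linear_combination k
      rw [Δ.σ_dg k, Δ.mul (ok_dg k) (ok_dg k'), LD.z,
        Δ.P_eq_iff' ((ok_dg k).mul (ok_dg k')) ok_z, dg_mul, dg_mul, mJ_eq, neg_dg] at e3
      obtain ⟨c, k1, k2, k4⟩ := e3
      rw [smul_dg, dg_inj] at k2 k4
      have k3 : c = 0 := (mul_eq_zero.1 (show 2 * c = 0 by
        linear_combination k4.1 - k2.1)).resolve_left Δ.two_ne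
      rw [k3] at k1
      simp at k1
    · exact h
  have hs := Δ.co_σ hT hw
  refine ⟨{ Δ with
    sw := fun A hA => ?_, ρ_T := hT, ρ_ww := hw, ρ_σ := hs, nsw2 := fun h3 => by omega }⟩
  obtain ⟨c, -, τ, hτ, e⟩ := Δ.sw_conj_T hA
  have e1 : τ * Δ.σ * (τ * Δ.σ) = 1 := by
    rw [← e, conj_mul, Δ.sw_sq hA, mul_one, mul_inv_cancel]
  obtain ⟨τ', hτ', e2⟩ := (hs.left (w2_conj hT hτ)).exists_eq
  rw [conj_mul] at e2
  rcases Δ.inv_Tww hτ' (e2 ▸ Δ.ρ_sq e1) with ⟨k, -⟩ | ⟨k, -⟩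
  · exact (Δ.isConj_of_ρ (e2 ▸ Δ.isConj_of_ZC k)).trans (isConj_iff.2 ⟨c, e⟩).symm
  · omega

theorem frame_three' (h3 : Nat.card F % 4 = 3) (hw : Δ.Co (Δ.ρ * Δ.ww * Δ.ρ⁻¹) (Δ.ww * Δ.σ))
    (hZ : Δ.ZC (Δ.ρ * Δ.σ * Δ.ρ⁻¹)) (hB : Δ.BC (Δ.z * (Δ.ρ * Δ.σ * Δ.ρ⁻¹))) :
    Nonempty (Fr G F) := by
  refine ⟨{ Δ with
    sw := fun A hA => ?_, ρ_T := hT, ρ_ww := hw, ρ_σ := Δ.co_σ hT hw,
    nsw2 := fun _ A hA k => ?_ }⟩
  · obtain ⟨c, -, e | e⟩ := Δ.sw_conj_three h3 hA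
    · exact (Δ.isConj_of_ρ (Δ.isConj_of_ZC hZ)).trans (isConj_iff.2 ⟨c, e⟩).symm
    · refine (Δ.isConj_of_ρ ?_).trans (isConj_iff.2 ⟨c, e⟩).symm
      rw [← conj_mul, Δ.ρ_tz]
      exact Δ.isConj_of_ZC hZ.t_mul
  · obtain ⟨c, hc, e⟩ := Δ.sw_conj_three h3 hA
    have k1 := k.trans (isConj_iff.2 ⟨Δ.ρ * c, rfl⟩)
    rw [show ∀ x, Δ.ρ * c * (Δ.t * x) * (Δ.ρ * c)⁻¹ =
      Δ.ρ * (c * Δ.t * c⁻¹ * (c * x * c⁻¹)) * Δ.ρ⁻¹ from fun x => by group,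
      Δ.mem_C'.1 (Δ.Γ_le_C hc)] at k1
    rcases e with e | e <;> rw [e] at k1
    · rw [← conj_mul, Δ.ρ_t] at k1
      exact Δ.not_isConj_of_BC h3 hB k1
    · rw [mul_assoc Δ.t Δ.z, Δ.t_t, ← conj_mul, Δ.ρ_z, mul_assoc] at k1
      exact Δ.not_isConj_of_BC h3 hB.t_mul k1

/-- Replace `σ` by `t σ`. -/
def tw (Δ : L1 G F) : L1 G F where
  toLD := Δ.toLD.tw
  ρ := Δ.ρ
  ρ_t := Δ.ρ_t
  ρ_z := Δ.ρ_z
  nsw := Δ.nsw

omit hT [Finite G] in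
theorem tw_eq_1' : type_of% @tw.eq_1 := @tw.eq_1

theorem frame_three (h3 : Nat.card F % 4 = 3) (hw : Δ.Co (Δ.ρ * Δ.ww * Δ.ρ⁻¹) (Δ.ww * Δ.σ)) :
    Nonempty (Fr G F) := by
  obtain ⟨τ, hτ, e⟩ := (Δ.co_σ hT hw).exists_eq
  rcases Δ.inv_Tww hτ (e ▸ Δ.ρ_sq Δ.σ_sq) with ⟨k, k'⟩ | ⟨-, k, k'⟩
  · exact Δ.frame_three' hT h3 hw (e ▸ k) (e ▸ k' h3)
  · have e1 : Δ.ρ * (Δ.t * Δ.σ) * Δ.ρ⁻¹ = Δ.z * (τ * Δ.ww) := by rw [← conj_mul, Δ.ρ_t, e]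
    refine Δ.tw.frame_three' hT h3 ?_ ?_ ?_
    · change Δ.Co (Δ.ρ * Δ.ww * Δ.ρ⁻¹) (Δ.ww * (Δ.t * Δ.σ))
      rw [← mul_assoc Δ.ww, Δ.ww_t, mul_assoc Δ.t]
      exact (hw.symm.left Δ.t_mem_T).symm
    · change Δ.ZC (Δ.ρ * (Δ.t * Δ.σ) * Δ.ρ⁻¹)
      rwa [e1]
    · change Δ.BC (Δ.z * (Δ.ρ * (Δ.t * Δ.σ) * Δ.ρ⁻¹))
      rwa [e1, ← mul_assoc, Δ.z_sq, one_mul]

end L1

theorem w2d : W2d.{u, v} := by
  intro G _ _ F _ _ Δ hT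
  have ho := Nat.odd_iff.1 Δ.odd
  by_cases h1 : Nat.card F % 4 = 1
  · exact Δ.frame_one hT h1
  have h3 : Nat.card F % 4 = 3 := by omega
  rcases Δ.co_cases (w2_conj Δ.ρ_B0 Δ.ww_mem_B0) with h | h | h | h
  · exact absurd (w2_conj' hT h) Δ.ww_not_mem
  · exfalso
    obtain ⟨τ, hτ, e⟩ := h.exists_eq
    rcases Δ.inv_Tww hτ (e ▸ Δ.ρ_sq Δ.ww_sq) with ⟨k, -⟩ | ⟨-, -, k⟩
    · exact Δ.not_isConj_of_BC h3 Δ.BC_ww (Δ.isConj_of_ρ (e ▸ Δ.isConj_of_ZC k))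
    · refine Δ.not_isConj_of_BC h3 Δ.BC_ww.t_mul (Δ.isConj_of_ρ ?_)
      rw [← conj_mul, Δ.ρ_t, e]
      exact Δ.isConj_of_ZC k
  · classical
    have := Fintype.ofFinite F
    have ez := Δ.toLD.tw2_z fun ⟨i, hi⟩ => not_sq_neg_one h3 i hi.symm
    let Δ' : L1 G F :=
      { toLD := Δ.toLD.tw2
        ρ := Δ.ρ⁻¹
        ρ_t := by
          rw [LD.tw2_t, ez]
          conv_lhs => rw [← Δ.ρ_tz]
          group
        ρ_z := by rw [LD.tw2_t, ez, Δ.t_t, ← Δ.ρ_z]; group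
        nsw := fun v hv hc => by
          rw [LD.tw2_Γ] at hv
          rw [LD.tw2_t] at hc ⊢
          refine (Δ.nsw v hv hc).imp_right fun ⟨c, hc, e⟩ => ⟨c * Δ.n1, ?_, ?_⟩
          · rw [LD.tw2_C]; exact mul_mem hc Δ.n1_mem_C
          · rw [ez, ← e]
            conv_rhs => rw [← Δ.n1_tz]
            group }
    refine Δ'.frame_three ?_ h3 ?_
    · change Δ.ρ⁻¹ ∈ normalizer (Δ.toLD.tw2.T : Set G)
      rw [LD.tw2_T]; exact inv_mem hT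
    · change Δ.ρ⁻¹ * Δ.toLD.tw2.ww * Δ.ρ⁻¹⁻¹ * (Δ.toLD.tw2.ww * Δ.σ)⁻¹ ∈ Δ.toLD.tw2.T
      rw [LD.tw2_T, LD.tw2_ww]
      exact Δ.co_inv hT h
  · exact Δ.frame_three hT h3 h

end Cfsg.Lib.L45
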