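import Cfsg.Agent.L45.Aut

/-!
# Recognition of `L₄(q)`: centralizers and `p`-elements in the centralizer of `t`
-/

set_option autoImplicit false

namespace Cfsg.Lib.L45

open Matrix Cfsg.Lib.Class Cfsg.Lib.Rank2.Lin Cfsg.Lib.Trans Subgroup
open scoped MatrixGroups commutatorElement

universe u v

variable {G : Type u} [Group G] {F : Type v} [Field F]

section Cent

variable {a : SL(2, F)}

theorem sq_zero_of_pow {N : M2 F} {n : ℕ} (h : N ^ n = 0) : N * N = 0 := by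
  have h0 : N.det = 0 := eq_zero_of_pow_eq_zero (n := n) (by rw [← det_pow, h, det_zero])
  have h1 : ∀ k, N ^ (k + 1) = (N 0 0 + N 1 1) ^ k • N := fun k => by
    induction k with
    | zero => simp
    | succ k ih => rw [pow_succ, ih, smul_mul_assoc, cayley, h0, zero_smul, sub_zero, smul_smul,
        pow_succ]
  have h2 := h1 n
  rw [pow_succ, h, zero_mul, eq_comm, smul_eq_zero] at h2
  rcases h2 with h2 | h2
  · rw [cayley, eq_zero_of_pow_eq_zero h2, h0]; simp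
  · simp [h2]

theorem det_entries (a : SL(2, F)) : a 0 0 * a 1 1 - a 0 1 * a 1 0 = 1 := by
  rw [← det_fin_two, a.det_coe]

theorem sq_zero_of_pow_char [Finite F] {A : M2 F} {k : ℕ} (h : A ^ ringChar F ^ k = 1) :
    (A - 1) * (A - 1) = 0 := by
  have : Fact (ringChar F).Prime := ⟨CharP.char_is_prime F _⟩
  exact sq_zero_of_pow (n := ringChar F ^ k) (by
    rw [sub_pow_char_pow_of_commute _ _ (Commute.one_right _), h, one_pow, sub_self])

theorem unip_iff [Finite F] : a ^ ringChar F = 1 ↔ ((a : M2 F) - 1) * ((a : M2 F) - 1) = 0 := by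
  have hp : Fact (ringChar F).Prime := ⟨CharP.char_is_prime F _⟩
  refine ⟨fun h => sq_zero_of_pow_char (k := 1) (by
    rw [pow_one, ← Matrix.SpecialLinearGroup.coe_pow, h]; rfl), fun h => Subtype.ext ?_⟩
  show ((a ^ ringChar F : SL(2, F)) : M2 F) = 1
  have h1 := sub_pow_char_of_commute (ringChar F) (Commute.one_right (a : M2 F))
  rw [pow_eq_zero_of_le hp.out.two_le (by rw [sq, h]), one_pow, eq_comm, sub_eq_zero] at h1
  rwa [Matrix.SpecialLinearGroup.coe_pow]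

theorem unip_tr [Finite F] (h : a ^ ringChar F = 1) : a 0 0 + a 1 1 = 2 := by
  have h1 := unip_iff.1 h
  have h2 : (a 0 0 + a 1 1 - 2) • (a : M2 F) = 0 := by
    rw [← h1, mul_sub, sub_mul, sub_mul, cayley, a.det_coe]
    simp only [sub_smul, two_smul, one_smul, mul_one, one_mul]
    abel
  rcases smul_eq_zero.1 h2 with h3 | h3
  · exact sub_eq_zero.1 h3
  · simpa [h3] using a.det_coe

theorem slU_pow (r : F) (n : ℕ) : slU r ^ n = slU (n * r) := by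
  induction n with
  | zero => simp [slU_zero]
  | succ n ih => rw [pow_succ, ih, ← slU_add]; simp [add_mul]

theorem slV_pow (r : F) (n : ℕ) : slV r ^ n = slV (n * r) := by
  induction n with
  | zero => simp [slV_zero]
  | succ n ih => rw [pow_succ, ih, ← slV_add]; simp [add_mul]

theorem slU_pow_ringChar (r : F) : slU r ^ ringChar F = 1 := by
  rw [slU_pow, ringChar.Nat.cast_ringChar, zero_mul, slU_zero]

theorem slV_pow_ringChar (r : F) : slV r ^ ringChar F = 1 := by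
  rw [slV_pow, ringChar.Nat.cast_ringChar, zero_mul, slV_zero]

theorem sl_ext {a b : SL(2, F)} (h1 : a 0 0 = b 0 0) (h2 : a 0 1 = b 0 1) (h3 : a 1 0 = b 1 0)
    (h4 : a 1 1 = b 1 1) : a = b := by
  ext i j
  fin_cases i <;> fin_cases j <;> assumption

theorem diag_of_tr (h : a 0 0 + a 1 1 = 2) (h0 : a 0 1 * a 1 0 = 0) : a 0 0 = 1 ∧ a 1 1 = 1 := by
  have h1 : a 0 0 = 1 := by
    have : (a 0 0 - 1) ^ 2 = 0 := by linear_combination a 0 0 * h - det_entries a - h0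
    exact sub_eq_zero.1 (eq_zero_of_pow_eq_zero this)
  exact ⟨h1, by linear_combination h - h1⟩

theorem eq_slU_of_tr (h : a 0 0 + a 1 1 = 2) (h0 : a 1 0 = 0) : a = slU (a 0 1) := by
  obtain ⟨h1, h2⟩ := diag_of_tr h (by rw [h0, mul_zero])
  exact sl_ext h1 rfl h0 h2

theorem unip_conj [Finite F] (ha : a ^ ringChar F = 1) :
    ∃ (s : SL(2, F)) (r : F), s * a * s⁻¹ = slU r := by
  have h := unip_tr ha
  by_cases h0 : a 1 0 = 0
  · exact ⟨1, _, by rw [one_mul, inv_one, mul_one]; exact eq_slU_of_tr h h0⟩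
  obtain ⟨x, hx⟩ : ∃ x, x * a 1 0 = a 0 0 - 1 := ⟨_, div_mul_cancel₀ _ h0⟩
  refine ⟨⟨!![0, 1; -1, x], by simp [det_fin_two]⟩, -a 1 0,
    mul_inv_eq_iff_eq_mul.2 (Subtype.ext ?_)⟩
  show !![0, 1; -1, x] * (a : M2 F) = !![1, -a 1 0; 0, 1] * !![0, 1; -1, x]
  ext i j
  fin_cases i <;> fin_cases j <;> simp [mul_apply, Fin.sum_univ_two, vecMul, dotProduct]
  · linear_combination h + hx
  · linear_combination hx
  · exact mul_right_cancel₀ h0 (by
      linear_combination det_entries a + (a 1 1 - 1) * hx - h)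

theorem unip_comm [Finite F] (ha : a ^ ringChar F = 1) {r : F} (hr : r ≠ 0)
    (h : a * slU r = slU r * a) : ∃ r', a = slU r' := by
  have h1 := congrArg (fun g : SL(2, F) => g 0 0) h
  exact ⟨_, eq_slU_of_tr (unip_tr ha) (by simpa [mul_apply, Fin.sum_univ_two, hr] using h1)⟩

theorem unip_J [Finite F] (h2 : (2 : F) ≠ 0) (ha : a ^ ringChar F = 1)
    (h : (mJ : M2 F) * (a : M2 F) * (mJ : M2 F) = (a⁻¹ : SL(2, F))) :
    (∃ r, a = slU r) ∨ ∃ r, a = slV r := by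
  have h0 := unip_tr ha
  have h1 : a 0 0 = a 1 1 := by
    simpa [mJ, mul_apply, Fin.sum_univ_two, adjugate_fin_two, vecMul, dotProduct] using
      congrFun (congrFun h 0) 0
  have h3 : a 0 0 = 1 := mul_left_cancel₀ h2 (by linear_combination h0 + h1)
  have h4 : a 0 1 * a 1 0 = 0 := by
    linear_combination -det_entries a + (a 1 1 + 1) * h3 - h1
  rcases mul_eq_zero.1 h4 with h5 | h5
  · exact .inr ⟨a 1 0, sl_ext h3 h5 rfl (h1 ▸ h3)⟩
  · exact .inl ⟨_, eq_slU_of_tr h0 h5⟩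

theorem unip_eq_one_J [Finite F] (h2 : (2 : F) ≠ 0) (ha : a ^ ringChar F = 1) {e : F}
    (h : (a : M2 F) * mJ = e • (mJ * (a : M2 F))) : a = 1 := by
  have h0 := unip_tr ha
  have h00 := congrFun (congrFun h 0) 0
  have h01 := congrFun (congrFun h 0) 1
  have h10 := congrFun (congrFun h 1) 0
  have h11 := congrFun (congrFun h 1) 1
  simp [mJ, mul_apply, Fin.sum_univ_two, vecMul, dotProduct, -mul_eq_mul_right_iff] at h00 h01 h10 h11
  obtain rfl : e = 1 := mul_left_cancel₀ h2 (by linear_combination (1 - e) * h0 - h00 - h11)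
  have h3 : a 0 1 = 0 := mul_left_cancel₀ h2 (by linear_combination -h01)
  have h4 : a 1 0 = 0 := mul_left_cancel₀ h2 (by linear_combination h10)
  rw [eq_slU_of_tr h0 h4, h3, slU_zero]

theorem unip_eq_one_W [Finite F] (h2 : (2 : F) ≠ 0) (ha : a ^ ringChar F = 1) {e : F}
    (h : (a : M2 F) * mW = e • (mW * (a : M2 F))) : a = 1 := by
  have h0 := unip_tr ha
  have h00 := congrFun (congrFun h 0) 0
  have h01 := congrFun (congrFun h 0) 1
  have h10 := congrFun (congrFun h 1) 0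
  simp [mW, mul_apply, Fin.sum_univ_two, vecMul, dotProduct, -mul_eq_mul_right_iff] at h00 h01 h10
  obtain rfl : e = 1 := mul_left_cancel₀ h2 (by linear_combination (1 - e) * h0 - h01 - h10)
  have h3 : a 0 0 = 1 := mul_left_cancel₀ h2 (by linear_combination h0 + h01)
  have h4 : a 1 0 = 0 := eq_zero_of_pow_eq_zero (n := 2) (by
    linear_combination det_entries a - (a 1 1 + 1) * h3 + h01 - a 1 0 * h00)
  have h5 : a 0 1 = 0 := by linear_combination -h00 - h4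
  rw [eq_slU_of_tr h0 h4, h5, slU_zero]

theorem comm_J {A : M2 F} (h2 : (2 : F) ≠ 0) (h : A * mJ = mJ * A) : A = dg (A 0 0) (A 1 1) := by
  have h01 := congrFun (congrFun h 0) 1
  have h10 := congrFun (congrFun h 1) 0
  simp [mJ, mul_apply, Fin.sum_univ_two, vecMul, dotProduct] at h01 h10
  have h3 : A 0 1 = 0 := mul_left_cancel₀ h2 (by linear_combination -h01)
  have h4 : A 1 0 = 0 := mul_left_cancel₀ h2 (by linear_combination h10)
  ext i j
  fin_cases i <;> fin_cases j <;> simp [dg, h3, h4]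

theorem anti_J {A : M2 F} (h2 : (2 : F) ≠ 0) (h : A * mJ = -(mJ * A)) :
    A = dg (A 0 1) (-A 1 0) * mW := by
  have h00 := congrFun (congrFun h 0) 0
  have h11 := congrFun (congrFun h 1) 1
  simp [mJ, mul_apply, Fin.sum_univ_two, vecMul, dotProduct] at h00 h11
  have h3 : A 0 0 = 0 := mul_left_cancel₀ h2 (by linear_combination h00)
  have h4 : A 1 1 = 0 := mul_left_cancel₀ h2 (by linear_combination -h11)
  ext i j
  fin_cases i <;> fin_cases j <;> simp [dg, mW, h3, h4]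

theorem dg_pow (a b : F) (n : ℕ) : dg a b ^ n = dg (a ^ n) (b ^ n) := by
  induction n with
  | zero => simp [dg_one]
  | succ n ih => rw [pow_succ, ih, dg_mul, pow_succ, pow_succ]

theorem comm_U {A : M2 F} {r : F} (hr : r ≠ 0) (h : A * (slU r : SL(2, F)) = (slU r : SL(2, F)) * A) :
    A 1 0 = 0 ∧ A 1 1 = A 0 0 := by
  have h00 := congrFun (congrFun h 0) 0
  have h01 := congrFun (congrFun h 0) 1
  simp [mul_apply, Fin.sum_univ_two, vecMul, dotProduct, hr] at h00 h01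
  exact ⟨h00, mul_left_cancel₀ hr (by linear_combination -h01)⟩

theorem comm_of_cs {A : M2 F} {h : A.det ≠ 0} {s : SL(2, F)} (e : cs A h s = s) : A * s = s * A := by
  have := congrArg (fun g : SL(2, F) => (g : M2 F) * A) e
  simpa only [coe_cs, inv_mul_cancel_right_m h] using this

namespace LD

variable (L : LD G F) {x v : G}

theorem Γ_z_cases (hx : x ∈ L.Γ) (h : x * L.z = L.z * x) : ∃ τ ∈ L.T, x = τ ∨ x = τ * L.ww := by
  obtain ⟨A, B, hk, rfl⟩ := hx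
  obtain ⟨c, -, h1, h2⟩ := (L.comm_iff hk ok_z).1 h
  rw [mul_neg, neg_mul, smul_neg, neg_inj] at h2
  have h3 := congrArg det h1
  rw [det_smul2, det_mul, det_mul, mul_comm A.det, eq_comm,
    mul_eq_right₀ (mul_ne_zero J_ne hk.ne₁), mul_self_eq_one_iff] at h3
  rcases h3 with rfl | rfl
  · rw [one_smul] at h1 h2
    rw [comm_J L.two_ne h1, comm_J L.two_ne h2] at hk ⊢
    exact ⟨_, L.dg_mem_T (by simpa [Ok] using hk), .inl rfl⟩
  · rw [neg_one_smul] at h1 h2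
    rw [anti_J L.two_ne h1, anti_J L.two_ne h2] at hk ⊢
    have h4 : A 0 1 * -A 1 0 * (B 0 1 * -B 1 0) = 1 := by simpa [Ok] using hk
    exact ⟨_, L.dg_mem_T h4, .inr (L.mul (ok_dg h4) ok_WW).symm⟩

theorem B0_cases (hx : x ∈ L.B0) :
    ∃ τ ∈ L.T, x = τ ∨ x = τ * L.ww ∨ x = τ * L.σ ∨ x = τ * (L.ww * L.σ) := by
  rcases L.mem_or hx.1 with h | h
  · obtain ⟨τ, hτ, e | e⟩ := L.Γ_z_cases h (L.mem_B0.1 hx).2
    exacts [⟨τ, hτ, .inl e⟩, ⟨τ, hτ, .inr (.inl e)⟩]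
  · obtain ⟨τ, hτ, e | e⟩ := L.Γ_z_cases h (L.mem_B0.1 (mul_mem hx L.σ_mem_B0)).2
    · exact ⟨τ, hτ, .inr (.inr (.inl (by rw [← e, L.mul_σ_σ])))⟩
    · exact ⟨τ, hτ, .inr (.inr (.inr (by rw [← mul_assoc, ← e, L.mul_σ_σ])))⟩

theorem ww_not_mem : L.ww ∉ L.T := by
  rintro ⟨a, b, c, d, h, e⟩
  obtain ⟨c, h1, -⟩ := (L.P_eq_iff ok_WW (ok_dg h)).1 e
  simpa [mW, dg] using congrFun (congrFun h1 0) 1

theorem σ_not_mem_T : L.σ ∉ L.T := fun h => L.σ_not_mem (L.T_le_Γ h)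

theorem wwσ_not_mem : L.ww * L.σ ∉ L.T := fun h =>
  L.sw_not_mem (L.H0_le_Γ L.ww_mem_H0) (L.T_le_Γ h)

theorem mul_self_mem_T [Finite G] (hx : x ∈ L.B0) : x * x ∈ L.T := by
  have k : ∀ τ ∈ L.T, ∀ n ∈ normalizer (L.T : Set G), n * n = 1 → τ * n * (τ * n) ∈ L.T :=
    fun τ hτ n hn h => by
      have := mul_mem hτ ((mem_normalizer_iff.1 hn τ).1 hτ)
      rwa [inv_eq_of_mul_eq_one_right h, ← mul_assoc, ← mul_assoc, mul_assoc _ τ] at this
  obtain ⟨τ, hτ, rfl | rfl | rfl | rfl⟩ := L.B0_cases hx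
  · exact mul_mem hτ hτ
  · exact k τ hτ _ L.ww_N L.ww_sq
  · exact k τ hτ _ L.σ_N L.σ_sq
  · exact k τ hτ _ (mul_mem L.ww_N L.σ_N) (by
      rw [mul_assoc, ← mul_assoc L.σ, L.σ_ww, L.mul_σ_σ, L.ww_sq])

theorem B0_le_N [Finite G] : L.B0 ≤ normalizer (L.T : Set G) := fun x hx => by
  obtain ⟨τ, hτ, rfl | rfl | rfl | rfl⟩ := L.B0_cases hx
  · exact le_normalizer hτ
  · exact mul_mem (le_normalizer hτ) L.ww_N
  · exact mul_mem (le_normalizer hτ) L.σ_N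
  · exact mul_mem (le_normalizer hτ) (mul_mem L.ww_N L.σ_N)

theorem comm_mem_T [Finite G] {y : G} (hx : x ∈ L.B0) (hy : y ∈ L.B0) :
    x * y * x⁻¹ * y⁻¹ ∈ L.T := by
  have := mul_mem (mul_mem (L.mul_self_mem_T hx) (L.mul_self_mem_T (mul_mem (inv_mem hx) hy)))
    (L.mul_self_mem_T (inv_mem hy))
  simpa [mul_assoc] using this

theorem pow_card_T (hx : x ∈ L.T) : x ^ (Nat.card F - 1) = 1 := by
  obtain ⟨a, b, c, d, h, rfl⟩ := hx
  have := L.finF
  have := Fintype.ofFinite F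
  have h1 := left_ne_zero_of_mul_eq_one h
  have h2 := right_ne_zero_of_mul_eq_one h
  rw [(L.P_pow (ok_dg h) _).2, dg_pow, dg_pow, Nat.card_eq_fintype_card,
    FiniteField.pow_card_sub_one_eq_one _ (left_ne_zero_of_mul h1),
    FiniteField.pow_card_sub_one_eq_one _ (right_ne_zero_of_mul h1),
    FiniteField.pow_card_sub_one_eq_one _ (left_ne_zero_of_mul h2),
    FiniteField.pow_card_sub_one_eq_one _ (right_ne_zero_of_mul h2), dg_one, L.P_one]

theorem cop_T [Finite G] : (Nat.card L.T).Coprime (Nat.card F) :=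
  Nat.coprime_of_dvd fun r hr h1 h2 => by
    have := Fact.mk hr
    obtain ⟨y, hy⟩ := exists_prime_orderOf_dvd_card' r h1
    have h3 : r ∣ Nat.card F - 1 := hy ▸ orderOf_dvd_of_pow_eq_one (Subtype.ext (L.pow_card_T y.2))
    have := Nat.dvd_sub h2 h3
    rw [Nat.sub_sub_self L.odd.pos] at this
    exact hr.one_lt.ne' (Nat.dvd_one.1 this)

theorem P_unip_inj {a b a' b' : SL(2, F)} (ha : a ^ ringChar F = 1) (ha' : a' ^ ringChar F = 1)
    (h : L.P a b = L.P a' b') : a = a' ∧ b = b' := by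
  have := L.finF
  obtain ⟨c, h1, h2⟩ := (L.P_eq_iff (ok_sl a b) (ok_sl a' b')).1 h
  have h00 : a 0 0 = c * a' 0 0 := congrFun (congrFun h1 0) 0
  have h11 : a 1 1 = c * a' 1 1 := congrFun (congrFun h1 1) 1
  obtain rfl : c = 1 := mul_left_cancel₀ L.two_ne (by
    linear_combination unip_tr ha - c * unip_tr ha' - h00 - h11)
  exact ⟨Subtype.ext (by simpa using h1), Subtype.ext (by simpa using h2)⟩

include L in
theorem odd_ringChar : Odd (ringChar F) := by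
  have := L.finF
  exact (CharP.char_is_prime F _).odd_of_ne_two fun e => L.two_ne (by
    simpa [e] using ringChar.Nat.cast_ringChar (R := F))

theorem pelt (hx : x ∈ L.C) {k : ℕ} (hp : x ^ ringChar F ^ k = 1) :
    ∃ a b : SL(2, F), a ^ ringChar F = 1 ∧ b ^ ringChar F = 1 ∧ x = L.P a b := by
  have := L.finF
  have : Fact (ringChar F).Prime := ⟨CharP.char_is_prime F _⟩
  obtain ⟨A, B, h, rfl⟩ := L.mem_Γ_of_odd hx
    (L.odd_ringChar.pow.of_dvd_nat (orderOf_dvd_of_pow_eq_one hp))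
  obtain ⟨h1, h2⟩ := L.P_pow h (ringChar F ^ k)
  obtain ⟨c, h3, h4⟩ := (L.eq_one h1).1 (h2 ▸ hp)
  have inj : ∀ y : F, y ^ ringChar F ^ k = 1 → y = 1 := fun y hy =>
    (iterateFrobenius F (ringChar F) k).injective (by rw [iterateFrobenius_def, hy, map_one])
  obtain ⟨e, he⟩ := (bijective_iterateFrobenius F (ringChar F) k).2 c⁻¹
  rw [iterateFrobenius_def] at he
  have h5 : c ^ 4 = 1 := ok_one.pow_four (by rwa [h3, h4] at h1)
  have h6 : e ^ 4 = 1 := inj _ (by rw [pow_right_comm, he, inv_pow, h5, inv_one])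
  have hc : c ≠ 0 := by rintro rfl; simp at h5
  have key : ∀ X : M2 F, X ^ ringChar F ^ k = c • 1 →
      ∃ a : SL(2, F), a ^ ringChar F = 1 ∧ (a : M2 F) = e • X := fun X hX => by
    have h7 : (e • X) ^ ringChar F ^ k = 1 := by
      rw [smul_pow, hX, he, smul_smul, inv_mul_cancel₀ hc, one_smul]
    exact ⟨⟨_, inj _ (by rw [← det_pow, h7, det_one])⟩, unip_iff.2 (sq_zero_of_pow_char h7), rfl⟩
  obtain ⟨a, ha, ea⟩ := key A h3
  obtain ⟨b, hb, eb⟩ := key B h4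
  exact ⟨a, b, ha, hb, by rw [ea, eb, L.P_smul h h6]⟩

theorem conj_mem_H0 {g : G} {φ : SL(2, F) →* G}
    (hg : ∀ r, g * φ (slU r) * g⁻¹ ∈ L.C ∧ g * φ (slV r) * g⁻¹ ∈ L.C) (s : SL(2, F)) :
    g * φ s * g⁻¹ ∈ L.H0 := by
  have k : ∀ a : SL(2, F), a ^ ringChar F = 1 → cjh g φ a ∈ L.C → a ∈ L.H0.comap (cjh g φ) :=
    fun a ha h => by
      obtain ⟨b, c, -, -, e⟩ := L.pelt h (k := 1) (by rw [pow_one, ← map_pow, ha, map_one])
      exact ⟨b, c, e⟩
  exact (sl2_eq_top_of_slU_slV _ (fun r => k _ (slU_pow_ringChar r) (hg r).1)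
    fun r => k _ (slV_pow_ringChar r) (hg r).2).ge (mem_top s)

theorem conj_mem_H0_φ1 {g : G}
    (hg : ∀ r, g * L.φ1 (slU r) * g⁻¹ ∈ L.C ∧ g * L.φ1 (slV r) * g⁻¹ ∈ L.C)
    (s : SL(2, F)) : g * L.φ1 s * g⁻¹ ∈ L.H0 := L.conj_mem_H0 hg s

theorem conj_mem_H0_κ {g : G} (hg : ∀ s, g * L.κ s * g⁻¹ ∈ L.C) (s : SL(2, F)) :
    g * L.κ s * g⁻¹ ∈ L.H0 := L.conj_mem_H0 (fun _ => ⟨hg _, hg _⟩) s

theorem pelt_conj {c w : G} (hc : c ∈ L.C) (hx : x ∈ L.C)
    (h : x * (c * w * c⁻¹) = c * w * c⁻¹ * x) {k : ℕ} (hp : x ^ ringChar F ^ k = 1) :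
    ∃ a b : SL(2, F), a ^ ringChar F = 1 ∧ b ^ ringChar F = 1 ∧ x = c * L.P a b * c⁻¹ ∧
      L.P a b * w = w * L.P a b := by
  obtain ⟨a, b, ha, hb, e⟩ := L.pelt (mul_mem (mul_mem (inv_mem hc) hx) hc) (k := k) (by
    have := conj_pow (i := ringChar F ^ k) (a := c⁻¹) (b := x)
    rwa [inv_inv, hp, mul_one, inv_mul_cancel] at this)
  refine ⟨a, b, ha, hb, by rw [← e]; group, ?_⟩
  rw [← e]
  calc c⁻¹ * x * c * w = c⁻¹ * (x * (c * w * c⁻¹)) * c := by group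
    _ = _ := by rw [h]; group

variable {L} in
theorem ZC.eq_one (hv : L.ZC v) (hx : x ∈ L.C) (h : x * v = v * x) {k : ℕ}
    (hp : x ^ ringChar F ^ k = 1) : x = 1 := by
  have := L.finF
  obtain ⟨c, hc, rfl⟩ := hv
  obtain ⟨a, b, ha, hb, rfl, h1⟩ := L.pelt_conj hc hx h hp
  obtain ⟨e, -, h2, h3⟩ := (L.comm_iff (ok_sl a b) ok_z).1 h1
  rw [mul_neg, neg_mul, smul_neg, neg_inj] at h3
  rw [unip_eq_one_J L.two_ne ha h2, unip_eq_one_J L.two_ne hb h3]
  simp [L.P_one]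

variable {L} in
theorem BC.eq_one' (hv : L.BC v) (hx : x ∈ L.C) (h : x * v = v * x) {k : ℕ}
    (hp : x ^ ringChar F ^ k = 1) : x = 1 := by
  have := L.finF
  obtain ⟨c, hc, rfl⟩ := hv
  obtain ⟨a, b, ha, hb, rfl, h1⟩ := L.pelt_conj hc hx h hp
  obtain ⟨e, -, h2, h3⟩ := (L.comm_iff (ok_sl a b) ok_WW).1 h1
  rw [unip_eq_one_W L.two_ne ha h2, unip_eq_one_W L.two_ne hb h3]
  simp [L.P_one]

variable {L} in
set_option linter.unusedVariables false in
theorem BC.eq_one (h3 : Nat.card F % 4 = 3) (hv : L.BC v) (hx : x ∈ L.C) (h : x * v = v * x) {k : ℕ}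
    (hp : x ^ ringChar F ^ k = 1) : x = 1 := hv.eq_one' hx h hp

theorem P_swap_of_comm {A B : M2 F} (hk : Ok A B) (h : L.P A B * L.σ = L.σ * L.P A B) :
    L.P A B = L.P B A := mul_right_cancel (h.trans (L.swap hk))

theorem Γ_σ_cases (hx : x ∈ L.Γ) (h : x * L.σ = L.σ * x) :
    ∃ A : M2 F, Ok A A ∧ (x = L.P A A ∨ x = L.t * L.P A A) := by
  obtain ⟨A, B, hk, rfl⟩ := hx
  obtain ⟨c, h1, h2⟩ := (L.P_eq_iff hk hk.symm).1 (L.P_swap_of_comm hk h)
  have h3 : (c * c - 1) • A = 0 := by rw [sub_smul, mul_smul, ← h2, ← h1, one_smul, sub_self]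
  rcases smul_eq_zero.1 h3 with h4 | h4
  swap
  · exact absurd (by simp [h4]) hk.ne₁
  rcases mul_self_eq_one_iff.1 (sub_eq_zero.1 h4) with rfl | rfl
  · rw [one_smul] at h1
    subst h1
    exact ⟨A, hk, .inl rfl⟩
  · rw [neg_one_smul] at h1
    subst h1
    have h5 : Ok B B := by simpa using hk.neg₁
    exact ⟨B, h5, .inr (L.t_mul h5).symm⟩

theorem C_σ (hx : x ∈ L.C) (h : x * L.σ = L.σ * x) : ∃ A : M2 F, Ok A A ∧
    (x = L.P A A ∨ x = L.t * L.P A A ∨ x = L.P A A * L.σ ∨ x = L.t * (L.P A A * L.σ)) := by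
  rcases L.mem_or hx with h1 | h1
  · obtain ⟨A, hA, e | e⟩ := L.Γ_σ_cases h1 h
    exacts [⟨A, hA, .inl e⟩, ⟨A, hA, .inr (.inl e)⟩]
  · obtain ⟨A, hA, e | e⟩ := L.Γ_σ_cases h1 (by rw [← mul_assoc, ← h])
    · exact ⟨A, hA, .inr (.inr (.inl (by rw [← e, L.mul_σ_σ])))⟩
    · exact ⟨A, hA, .inr (.inr (.inr (by rw [← mul_assoc, ← e, L.mul_σ_σ])))⟩

theorem pelt_σ (hx : x ∈ L.C) (h : x * L.σ = L.σ * x) {k : ℕ} (hp : x ^ ringChar F ^ k = 1) :
    ∃ a : SL(2, F), a ^ ringChar F = 1 ∧ x = L.κ a := by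
  obtain ⟨a, b, ha, hb, rfl⟩ := L.pelt hx hp
  obtain ⟨rfl, -⟩ := L.P_unip_inj ha hb (L.P_swap_of_comm (ok_sl a b) h)
  exact ⟨a, ha, rfl⟩

theorem κ_eq_one_iff {a : SL(2, F)} : L.κ a = 1 ↔ a = 1 ∨ a = -1 := by
  rw [κ_apply, L.eq_one (ok_sl a a)]
  refine ⟨fun ⟨c, h, _⟩ => ?_, ?_⟩
  · have h3 := congrArg det h
    rw [det_smul2, a.det_coe, det_one, mul_one, eq_comm, mul_self_eq_one_iff] at h3
    rcases h3 with rfl | rfl
    exacts [.inl (Subtype.ext (by simpa using h)), .inr (Subtype.ext (by simpa using h))]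
  · rintro (rfl | rfl)
    exacts [⟨1, by simp⟩, ⟨-1, by simp⟩]

theorem C_U1 {r : F} (hr : r ≠ 0) (hx : x ∈ L.C) (h : x * L.φ1 (slU r) = L.φ1 (slU r) * x) :
    ∃ (a s : F) (B : M2 F), Ok (a • 1) B ∧ x = L.φ1 (slU s) * L.P (a • 1) B := by
  rw [← mul_inv_eq_iff_eq_mul] at h
  obtain ⟨A, B, hk, rfl | rfl⟩ := L.mem_C_iff.1 hx
  · rw [L.conj_φ1 hk] at h
    obtain ⟨h1, h2⟩ := comm_U hr (comm_of_cs (L.inj1 h))
    have h3 : A.det = A 0 0 * A 0 0 := by rw [det_fin_two, h1, h2, mul_zero, sub_zero]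
    have h4 : A 0 0 ≠ 0 := left_ne_zero_of_mul (h3 ▸ hk.ne₁)
    have h5 : Ok (A 0 0 • 1) B := by rwa [Ok, det_smul2, det_one, mul_one, ← h3]
    refine ⟨A 0 0, A 0 1 / A 0 0, B, h5, ?_⟩
    rw [φ1_apply, L.mul (ok_sl1 _) h5, one_mul]
    congr 1
    ext i j
    fin_cases i <;> fin_cases j <;> simp [h1, h2, mul_div_cancel₀ _ h4]
  · rw [_root_.mul_inv_rev, ← mul_assoc, mul_assoc (L.P A B), mul_assoc (L.P A B), L.σ_φ1,
      L.conj_φ3 hk] at h
    rcases L.eq_of_φ1_eq_φ3 h.symm with h2 | h2 <;>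
      exact absurd (by simpa using congrArg (fun g : SL(2, F) => g 0 1) h2.1) hr

theorem scalar_comm {a : F} {B : M2 F} (h : Ok (a • 1) B) (s : SL(2, F)) :
    L.P (a • 1) B * L.φ1 s = L.φ1 s * L.P (a • 1) B := by
  rw [φ1_apply, L.mul h (ok_sl1 s), L.mul (ok_sl1 s) h]; simp

theorem C_K1 (hx : ∀ s, x * L.φ1 s = L.φ1 s * x) :
    ∃ (a : F) (B : M2 F), Ok (a • 1) B ∧ x = L.P (a • 1) B := by
  obtain ⟨a, s, B, h, rfl⟩ := L.C_U1 one_ne_zero (L.mem_C.2 (L.φ1_neg_one ▸ hx _)) (hx _)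
  have h1 := hx (slV 1)
  rw [mul_assoc, L.scalar_comm h, ← mul_assoc, ← mul_assoc, mul_left_inj, ← map_mul, ← map_mul] at h1
  have h2 : s = 0 := by
    simpa [mul_apply, Fin.sum_univ_two] using congrArg (fun g : SL(2, F) => g 0 0) (L.inj1 h1)
  exact ⟨a, B, h, by rw [h2, slU_zero, map_one, one_mul]⟩

theorem C_H0 (h1 : ∀ s, x * L.φ1 s = L.φ1 s * x) (h3 : ∀ s, x * L.φ3 s = L.φ3 s * x) :
    ∃ a b : F, a * a * (b * b) = 1 ∧ x = L.P (dg a a) (dg b b) := by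
  obtain ⟨a, B, h, rfl⟩ := L.C_K1 h1
  have k : ∀ s : SL(2, F), B * s = s * B := fun s => comm_of_cs (L.inj3 (by
    rw [← L.conj_φ3 h, h3, mul_inv_cancel_right]))
  obtain ⟨h4, h5⟩ := comm_U one_ne_zero (k _)
  have h6 : B 0 1 = 0 := by
    simpa [mul_apply, Fin.sum_univ_two, vecMul, dotProduct] using congrFun (congrFun (k (slV 1)) 0) 0
  have h7 : B = dg (B 0 0) (B 0 0) := by
    ext i j
    fin_cases i <;> fin_cases j <;> simp [dg, h4, h5, h6]
  rw [h7, ← dg_self] at h ⊢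
  exact ⟨a, B 0 0, by simpa [Ok] using h, rfl⟩

theorem exists_H0_mul_T (hx : x ∈ L.Γ) : ∃ h ∈ L.H0, ∃ τ ∈ L.T, x = h * τ := by
  obtain ⟨A, B, h, rfl⟩ := hx
  have h0 : A.det * B.det = 1 := h
  have h1 : A.det * 1 * (B.det * 1) = 1 := by simpa using h0
  have h2 : (A * dg B.det 1).det = 1 := by simpa using h0
  have h3 : (B * dg A.det 1).det = 1 := by simpa [mul_comm] using h0
  refine ⟨_, L.mem_H0_of_det h2 h3, _, L.dg_mem_T h1, ?_⟩
  rw [L.mul (by rw [Ok, h2, h3, one_mul]) (ok_dg h1), mul_assoc, mul_assoc, dg_mul, dg_mul, h0,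
    mul_comm B.det, h0, mul_one, dg_one, mul_one, mul_one]

theorem dia_T {a b c d : F} (h : a * b * (c * d) = 1) (α : Fˣ) (hα : (α : F) * b = a) :
    Dia L.φ1 (L.P (dg a b) (dg c d)) α := by
  have h1 := ok_dg h
  subst hα
  constructor <;> intro s <;>
    rw [mul_inv_eq_iff_eq_mul, φ1_apply, φ1_apply, L.mul h1 (ok_sl1 _), L.mul (ok_sl1 _) h1,
      mul_one, one_mul] <;> congr 1 <;> simp [dg, mul_comm, mul_left_comm]

theorem z_U (s : F) : L.z * L.φ1 (slU s) * L.z⁻¹ = (L.φ1 (slU s))⁻¹ := by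
  have := (L.dia_T (a := 1) (b := -1) (c := -1) (d := 1) (by simp) (-1) (by simp)).1 s
  rw [← map_inv, ← slU_neg, z, mJ_eq, neg_dg, neg_neg, this]
  simp

end LD

/-- A conjugate of `t` centralizing a `p`-element of `C(t)` is `t` or interchanges the blocks. -/
theorem L1.not_mem_Γ (Δ : L1 G F) {v x : G} (hc : IsConj Δ.t v) (hv : v ≠ Δ.t) (hx : x ∈ Δ.C)
    (h : x * v = v * x) (h1 : x ≠ 1) {k : ℕ} (hp : x ^ ringChar F ^ k = 1) : v ∉ Δ.Γ := fun h2 =>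
  h1 (((Δ.nsw v h2 hc).resolve_left hv).eq_one hx h hp)

/-- `t` is isolated in the centralizer of a root element. -/
theorem L1.iso (Δ : L1 G F) {r : F} (hr : r ≠ 0) {v : G}
    (hv : v * Δ.φ1 (slU r) = Δ.φ1 (slU r) * v) (h : v * Δ.t = Δ.t * v) (hc : IsConj Δ.t v) :
    v = Δ.t := by
  by_contra h1
  obtain ⟨a, s, B, h2, e⟩ := Δ.C_U1 hr (Δ.mem_C.2 h) hv
  refine Δ.not_mem_Γ hc h1 (Δ.φ1_mem_C _) hv.symm (fun h3 => hr ?_) (k := 1)
    (by rw [pow_one, ← map_pow, slU_pow_ringChar, map_one])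
    (e ▸ mul_mem (Δ.H0_le_Γ (Δ.φ1_mem_H0 _)) (Δ.P_mem_Γ h2))
  exact slU_inj (Δ.inj1 (by rw [h3, slU_zero, map_one]))

end Cent

end Cfsg.Lib.L45
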