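import Cfsg.Agent.L45.Inv
import Cfsg.Agent.L45.Cent
import Cfsg.Agent.G2T.FWCSl

/-!
# Recognition of `L₄(q)`: the centralizer of a root group for `q ≡ 1 (mod 4)`
-/

set_option autoImplicit false

namespace Cfsg.Lib.L45

open Matrix Cfsg.Lib.Class Cfsg.Lib.Rank2.Lin Cfsg.Lib.Trans Subgroup
open scoped MatrixGroups commutatorElement

universe u v

variable {G : Type u} [Group G] {F : Type v} [Field F]

namespace A4

theorem cc {a b : G} (h : a * b = b * a) (g : G) :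
    g * a * g⁻¹ * (g * b * g⁻¹) = g * b * g⁻¹ * (g * a * g⁻¹) := by
  rw [conj_mul, conj_mul, h]

theorem ci {a b : G} (h : a * b * a⁻¹ = b⁻¹) (g : G) :
    g * a * g⁻¹ * (g * b * g⁻¹) * (g * a * g⁻¹)⁻¹ = (g * b * g⁻¹)⁻¹ := by
  rw [conj_inv, conj_mul, conj_mul, h, conj_inv]

theorem cp {a : G} {n : ℕ} (h : a ^ n = 1) (g : G) : (g * a * g⁻¹) ^ n = 1 := by
  rw [conj_pow, h, mul_one, mul_inv_cancel]

theorem cne {a b : G} (h : a ≠ b) (g : G) : g * a * g⁻¹ ≠ g * b * g⁻¹ := fun e =>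
  h (mul_left_cancel (mul_right_cancel e))

theorem cne1 {a : G} (h : a ≠ 1) (g : G) : g * a * g⁻¹ ≠ 1 := fun e => h (conj_eq_one_iff.1 e)

theorem J_slU (s : F) : (mJ : M2 F) * (slU s : M2 F) * mJ = (slU (-s) : M2 F) := by simp [mJ]

variable (L : LD G F)

/-- The product of the two factors as a homomorphism. -/
def pp : SL(2, F) × SL(2, F) →* G :=
  MonoidHom.mk' (fun p => L.P p.1 p.2) fun _ _ => (L.mul (ok_sl _ _) (ok_sl _ _)).symm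

theorem pp_inj {a b a' b' : SL(2, F)} (ha : a ^ ringChar F = 1) (ha' : a' ^ ringChar F = 1)
    (h : pp L (a, b) = pp L (a', b')) : a = a' ∧ b = b' := L.P_unip_inj ha ha' h

theorem σ_pp (a b : SL(2, F)) : L.σ * pp L (a, b) * L.σ⁻¹ = pp L (b, a) := L.σ_conj (ok_sl a b)

theorem z_P {A B : M2 F} (h : Ok A B) :
    L.z * L.P A B * L.z⁻¹ = L.P (mJ * A * mJ) (mJ * B * mJ) := by
  have e : (-mJ : M2 F)⁻¹ = -mJ := inv_eq_left_inv (by simp)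
  rw [LD.z, L.P_conj ok_z h, inv_mJ, e]
  simp

theorem z_pp (s s' : F) : L.z * pp L (slU s, slU s') * L.z⁻¹ = (pp L (slU s, slU s'))⁻¹ := by
  rw [← map_inv, Prod.inv_mk, ← slU_neg, ← slU_neg]
  exact (z_P L (ok_sl _ _)).trans (by rw [J_slU, J_slU]; rfl)

theorem pp_comm (a b c d : F) : pp L (slU a, slU b) * pp L (slU c, slU d) =
    pp L (slU c, slU d) * pp L (slU a, slU b) := by
  simp only [← map_mul, Prod.mk_mul_mk, ← slU_add, add_comm]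

theorem pp_pow (a b : F) : pp L (slU a, slU b) ^ ringChar F = 1 := by
  rw [← map_pow, Prod.pow_mk, slU_pow_ringChar, slU_pow_ringChar]
  exact map_one _

theorem pp_mem_C (p : SL(2, F) × SL(2, F)) : pp L p ∈ L.C := L.P_mem_C (ok_sl _ _)

theorem pp_ne {a : F} (ha : a ≠ 0) (b : F) : pp L (slU a, slU b) ≠ 1 := fun e =>
  ha (slU_inj ((pp_inj L (slU_pow_ringChar a) (one_pow _) (e.trans (map_one (pp L)).symm)).1.trans
    slU_zero.symm))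

include L in
theorem cs_pow {A B : M2 F} (h : Ok A B) {a : SL(2, F)} (ha : a ^ ringChar F = 1) :
    cs A h.ne₁ a ^ ringChar F = 1 := L.inj1 (by
  rw [map_pow, ← L.conj_φ1 h, map_one]
  exact cp (by rw [← map_pow, ha, map_one]) _)

theorem κ_mem_Γ (s : SL(2, F)) : L.κ s ∈ L.Γ := L.H0_le_Γ (L.κ_mem_H0 s)

theorem κ_t (s : SL(2, F)) : L.κ s * L.t * (L.κ s)⁻¹ = L.t := L.mem_C'.1 (L.Γ_le_C (κ_mem_Γ L s))

theorem κ_σ (s : SL(2, F)) : L.κ s * L.σ * (L.κ s)⁻¹ = L.σ := by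
  rw [← L.σ_κ, mul_inv_cancel_right]

/-- A family of commuting `p`-elements centralizing `σ` is conjugate to the diagonal root group. -/
theorem norm_U (x : F → G) (inj : Function.Injective x) (hC : ∀ s, x s ∈ L.C)
    (hσ : ∀ s, x s * L.σ = L.σ * x s) (hp : ∀ s, x s ^ ringChar F = 1)
    (hc : ∀ s, x s * x 1 = x 1 * x s) (h1 : x 1 ≠ 1) : ∃ (s₀ : SL(2, F)) (f : F → F),
      Function.Surjective f ∧ ∀ s, L.κ s₀ * x s * (L.κ s₀)⁻¹ = L.κ (slU (f s)) := by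
  have := L.finF
  choose a ha ea using fun s => L.pelt_σ (hC s) (hσ s) (k := 1) (by rw [pow_one, hp])
  obtain ⟨s₀, r, e⟩ := unip_conj (ha 1)
  have hr : r ≠ 0 := fun k => h1 (by
    rw [k, slU_zero, conj_eq_one_iff] at e
    rw [ea, e, map_one])
  have key : ∀ s, ∃ r', s₀ * a s * s₀⁻¹ = slU r' := fun s => by
    refine unip_comm (cp (ha s) _) hr (e ▸ cc ?_ _)
    have k : pp L (a s * a 1 * (a s)⁻¹, a s * a 1 * (a s)⁻¹) = pp L (a 1, a 1) := by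
      change L.κ _ = L.κ _
      rw [map_mul, map_mul, map_inv, ← ea, ← ea, hc, mul_inv_cancel_right]
    exact mul_inv_eq_iff_eq_mul.1 (pp_inj L (cp (ha 1) _) (ha 1) k).1
  choose f hf using key
  have k : ∀ s, L.κ s₀ * x s * (L.κ s₀)⁻¹ = L.κ (slU (f s)) := fun s => by
    rw [← hf, map_mul, map_mul, map_inv, ← ea]
  refine ⟨s₀, f, Finite.injective_iff_surjective.1 fun s s' h => inj ?_, k⟩
  by_contra hne
  exact cne hne (L.κ s₀) (by rw [k, k, h])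

/-- An element of `Γ` centralizing `σ` and inverting a diagonal root element. -/
theorem shape {e : G} (he : e ∈ L.Γ) (hσ : e * L.σ = L.σ * e)
    (h : e * L.κ (slU 1) * e⁻¹ = (L.κ (slU 1))⁻¹) : ∃ k : F, ∀ x ∈ L.C,
      L.κ (slU k) * e * (L.κ (slU k))⁻¹ * x * (L.κ (slU k) * e * (L.κ (slU k))⁻¹)⁻¹ =
        L.z * x * L.z⁻¹ := by
  have tz : ∀ (w : G), ∀ x ∈ L.C, w ∈ L.C → L.t * w * x * (L.t * w)⁻¹ = w * x * w⁻¹ := by
    intro w x hx hw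
    have := L.mem_C.1 (mul_mem (mul_mem hw hx) (inv_mem hw))
    rw [_root_.mul_inv_rev, ← mul_assoc, mul_assoc L.t, mul_assoc L.t, ← this, mul_inv_cancel_right]
  have main : ∀ A, Ok A A → L.P A A * L.κ (slU 1) * (L.P A A)⁻¹ = (L.κ (slU 1))⁻¹ →
      ∃ k : F, L.κ (slU k) * L.P A A * (L.κ (slU k))⁻¹ = L.t * L.z := by
    intro A hA h
    rw [L.κ_apply, L.P_conj hA (ok_sl _ _), ← L.κ_apply, ← map_inv, ← slU_neg] at h
    have e1 := (L.P_unip_inj (a := cs A hA.ne₁ (slU 1)) (b := cs A hA.ne₁ (slU 1))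
      (cs_pow L hA (slU_pow_ringChar 1)) (slU_pow_ringChar (-1)) h).1
    have e2 : A * (slU (1 : F) : M2 F) = (slU (-1 : F) : M2 F) * A := by
      rw [← e1, coe_cs, inv_mul_cancel_right_m hA.ne₁]
    have f1 := congrFun (congrFun e2 0) 0
    have f2 := congrFun (congrFun e2 0) 1
    simp [mul_apply, Fin.sum_univ_two] at f1 f2
    have f3 : A 1 1 = -A 0 0 := by linear_combination f2
    have h4 : A 0 0 ^ 4 = 1 := by
      have := hA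
      rw [Ok, det_fin_two, f1, f3] at this
      linear_combination this
    have h0 : A 0 0 ≠ 0 := fun k => by rw [k] at h4; simp at h4
    have h2 := L.two_ne
    have e3 : (slU (A 0 1 / (2 * A 0 0)) : M2 F) * A * (slU (A 0 1 / (2 * A 0 0)) : M2 F)⁻¹ =
        A 0 0 • mJ := by
      rw [← coe_inv_sl, ← slU_neg]
      ext i j
      fin_cases i <;> fin_cases j <;> simp [vecMul, dotProduct, mul_apply, Fin.sum_univ_two, mJ, f1, f3]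
      field_simp
      ring
    exact ⟨_, by rw [L.κ_apply, L.P_conj (ok_sl _ _) hA, e3, L.P_smul ok_JJ h4, L.tz_eq]⟩
  obtain ⟨A, hA, k | k | k | k⟩ := L.C_σ (L.Γ_le_C he) hσ
  · obtain ⟨r, hr⟩ := main A hA (k ▸ h)
    exact ⟨r, fun x hx => by rw [k, hr, tz _ _ hx L.z_mem_C]⟩
  · obtain ⟨r, hr⟩ := main A hA (by
      rw [← tz _ _ (L.Γ_le_C (κ_mem_Γ L _)) (L.P_mem_C hA), ← k, h])
    exact ⟨r, fun x _ => by rw [k, ← conj_mul, κ_t, hr, L.t_t]⟩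
  · exact absurd (k ▸ he) (L.sw_not_mem (L.P_mem_Γ hA))
  · rw [← mul_assoc] at k
    exact absurd (k ▸ he) (L.sw_not_mem (mul_mem (L.H0_le_Γ L.t_mem_H0) (L.P_mem_Γ hA)))

theorem slN_conj (t : Fˣ) (s : F) : slN t * slU (-(s * t * t)) * (slN t)⁻¹ = slV s :=
  mul_inv_eq_iff_eq_mul.2 (Subtype.ext (by simp; field_simp))

theorem key0 {y : G} (yC : y ∈ L.C) (yp : y ^ ringChar F = 1) (yσ : L.σ * y * L.σ⁻¹ = y⁻¹)
    (yz : L.z * y * L.z⁻¹ = y⁻¹) {H : Subgroup G} (xH : ∀ s, L.κ (slU s) ∈ H) (yH : y ∈ H) :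
    (∀ s, y * L.κ (slU s) = L.κ (slU s) * y) ∨ L.t ∈ H := by
  have := L.finF
  obtain ⟨a, b, ha, hb, rfl⟩ := L.pelt yC (k := 1) (by rw [pow_one, yp])
  have ha' : a⁻¹ ^ ringChar F = 1 := by rw [inv_pow, ha, inv_one]
  change pp L (a, b) ∈ H at yH
  change L.σ * pp L (a, b) * L.σ⁻¹ = (pp L (a, b))⁻¹ at yσ
  rw [σ_pp, ← map_inv] at yσ
  obtain rfl := (pp_inj L hb ha' yσ).1
  rw [LD.z, L.P_conj ok_z (ok_sl _ _)] at yz
  have e1 := (L.P_unip_inj (a := cs mJ ok_z.ne₁ a) (b := cs (-mJ) ok_z.ne₂ a⁻¹)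
    (cs_pow L ok_z ha) ha' (yz.trans (map_inv (pp L) (a, a⁻¹)).symm)).1
  have e2 : (mJ : M2 F) * (a : M2 F) * (mJ : M2 F) = (a⁻¹ : SL(2, F)) := by
    rw [← e1, coe_cs, inv_mJ]
  rcases unip_J L.two_ne ha e2 with ⟨r, rfl⟩ | ⟨r, rfl⟩
  · refine .inl fun s => ?_
    rw [← slU_neg]
    exact pp_comm L _ _ _ _
  by_cases hr : r = 0
  · refine .inl fun s => ?_
    rw [hr, slV_zero, inv_one]
    change pp L 1 * _ = _ * pp L 1
    rw [map_one, one_mul, mul_one]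
  right
  rw [← slV_neg] at yH
  let B : Subgroup SL(2, F) := (H.comap (pp L)).map (MonoidHom.snd _ _)
  have bU : ∀ s, slU s ∈ B := fun s => ⟨(slU s, slU s), xH s, rfl⟩
  have bN : slN (Units.mk0 r⁻¹ (inv_ne_zero hr)) ∈ B := by
    rw [slN_eq, Units.val_mk0, inv_inv]
    exact mul_mem (mul_mem (bU _) ⟨_, yH, rfl⟩) (bU _)
  have hB : B = ⊤ := sl2_eq_top_of_slU_slV B bU fun s =>
    slN_conj _ s ▸ mul_mem (mul_mem bN (bU _)) (inv_mem bN)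
  have hN : (H.comap L.φ3).Normal := ⟨fun n hn b => by
    obtain ⟨⟨a, b'⟩, hab, rfl⟩ := hB.ge (mem_top b)
    have := mul_mem (mul_mem hab (show ((1 : SL(2, F)), n) ∈ H.comap (pp L) from hn)) (inv_mem hab)
    rw [Prod.inv_mk, Prod.mk_mul_mk, Prod.mk_mul_mk, mul_one, mul_inv_cancel] at this
    exact this⟩
  have m : (slN (Units.mk0 (-r⁻¹) (neg_ne_zero.2 (inv_ne_zero hr))),
      slU (-r⁻¹) * slV (-r) * slU (-r⁻¹)) ∈ H.comap (pp L) := by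
    rw [slN_eq, Units.val_mk0, inv_neg, inv_inv, neg_neg, ← Prod.mk_mul_mk, ← Prod.mk_mul_mk]
    exact mul_mem (mul_mem (xH _) yH) (xH _)
  have m4 := pow_mem m 4
  rw [Prod.pow_mk, show 4 = 2 * 2 from rfl, pow_mul, sq (slN _), slN_mul_self, neg_one_sq] at m4
  have := G2T.neg_one_mem L.odd hN (show _ ∈ H.comap L.φ3 from m4) fun k => by
    have k' := congrArg (fun g : SL(2, F) => (g : M2 F)) k
    have f1 := congrFun (congrFun k' 0) 0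
    have f2 := congrFun (congrFun k' 1) 0
    have h2 := L.two_ne
    simp [pow_succ, mul_apply, Fin.sum_univ_two, hr] at f1 f2
    field_simp at f1 f2
    exact pow_ne_zero 3 h2 (mul_left_cancel₀ hr (by linear_combination 3 * r * f1 + 5 * f2))
  rwa [mem_comap, L.φ3_neg_one] at this

/-- The key lemma. -/
theorem key (x : F → G) (inj : Function.Injective x) (hC : ∀ s, x s ∈ L.C)
    (hσ : ∀ s, x s * L.σ = L.σ * x s) (hp : ∀ s, x s ^ ringChar F = 1)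
    (hc : ∀ s, x s * x 1 = x 1 * x s) (h1 : x 1 ≠ 1) {y e : G} (yC : y ∈ L.C)
    (yp : y ^ ringChar F = 1) (yσ : L.σ * y * L.σ⁻¹ = y⁻¹) (he : e ∈ L.Γ)
    (eσ : e * L.σ = L.σ * e) (ex : ∀ s, e * x s * e⁻¹ = (x s)⁻¹) (ey : e * y * e⁻¹ = y⁻¹)
    {H : Subgroup G} (xH : ∀ s, x s ∈ H) (yH : y ∈ H) :
    (∀ s, y * x s = x s * y) ∨ L.t ∈ H := by
  obtain ⟨s₀, f, hf, k⟩ := norm_U L x inj hC hσ hp hc h1
  have kC := fun s => L.Γ_le_C (κ_mem_Γ L s)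
  obtain ⟨r, hr⟩ := shape L (L.conj_Γ (kC s₀) he) (by simpa only [κ_σ] using cc eσ (L.κ s₀)) (by
    obtain ⟨s, hs⟩ := hf 1
    rw [← hs, ← k]
    exact ci (ex s) _)
  have cj2 : ∀ w : G, L.κ (slU r) * (L.κ s₀ * w * (L.κ s₀)⁻¹) * (L.κ (slU r))⁻¹ =
      L.κ (slU r * s₀) * w * (L.κ (slU r * s₀))⁻¹ := fun w => by
    rw [map_mul]; group
  have k' : ∀ s, L.κ (slU r * s₀) * x s * (L.κ (slU r * s₀))⁻¹ = L.κ (slU (f s)) := fun s => by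
    rw [← cj2, k]
    exact mul_inv_eq_iff_eq_mul.2 (pp_comm L _ _ _ _)
  have yC' := mul_mem (mul_mem (kC (slU r * s₀)) yC) (inv_mem (kC (slU r * s₀)))
  rcases key0 L yC' (cp yp _) (by simpa only [κ_σ] using ci yσ (L.κ (slU r * s₀)))
    (by rw [← hr _ yC', cj2]; exact ci ey _) (H := cj (L.κ (slU r * s₀)) H)
    (fun s => by obtain ⟨s, rfl⟩ := hf s; exact k' s ▸ conj_mem_cj.2 (xH s))
    (conj_mem_cj.2 yH) with h | h
  · refine .inl fun s => ?_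
    have := h (f s)
    rw [← k', conj_mul, conj_mul] at this
    exact mul_left_cancel (mul_right_cancel this)
  · exact .inr (conj_mem_cj.1 (by rwa [κ_t]))

theorem σ_ne_t : L.σ ≠ L.t := fun e => L.σ_not_mem (e ▸ L.H0_le_Γ L.t_mem_H0)

theorem swap_coord (h1 : Nat.card F % 4 = 1) {v : G} (hv : v ∈ L.C) (h : v ∉ L.Γ)
    (h2 : v * v = 1) : ∃ (A : M2 F) (hA : A.det ≠ 0), v = (L.cj2 A hA).σ := by
  obtain ⟨A, hA, k | k⟩ := L.inv_sw hv h h2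
  · exact ⟨A, hA, k⟩
  · omega

theorem isConj_σ (Δ : L2 G F) : IsConj Δ.t Δ.σ := by
  simpa [Δ.P_one] using Δ.sw 1 (by simp)

/-- An element interchanging `t` and `σ`. -/
theorem exists_swap (Δ : L2 G F) (h1 : Nat.card F % 4 = 1) :
    ∃ g, g * Δ.t * g⁻¹ = Δ.σ ∧ g * Δ.σ * g⁻¹ = Δ.t := by
  obtain ⟨g, hg⟩ := isConj_iff.1 (isConj_σ Δ).symm
  have vC : g * Δ.t * g⁻¹ ∈ Δ.C := Δ.mem_C.2 (by simpa only [hg] using cc Δ.σ_t.symm g)
  have nΓ : g * Δ.t * g⁻¹ ∉ Δ.Γ :=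
    Δ.not_mem_Γ (x := g * Δ.κ (slU 1) * g⁻¹) (isConj_iff.2 ⟨g, rfl⟩)
      (by simpa only [hg] using cne (σ_ne_t Δ.toLD).symm g)
      (Δ.mem_C.2 (by simpa only [hg] using cc (Δ.σ_κ _).symm g))
      (cc (Δ.mem_C.1 (pp_mem_C _ (_, _))) g) (cne1 (pp_ne _ one_ne_zero 1) g) (k := 1)
      (by rw [pow_one]; exact cp (pp_pow _ 1 1) g)
  obtain ⟨A, hA, e⟩ := swap_coord Δ.toLD h1 vC nΓ (by rw [conj_mul, Δ.t_sq]; group)
  obtain ⟨c, hc, ec⟩ := Δ.σ_conj_tσ h1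
  obtain ⟨d, hd, ed⟩ := (Δ.cj2 A hA).σ_conj_tσ h1
  rw [← e, Δ.cj2_t] at ed
  have c1 := Δ.mem_C'.1 (Δ.Γ_le_C hc)
  have d1 := Δ.mem_C'.1 (Δ.Γ_le_C (Δ.cj2_Γ hA ▸ hd))
  have c2 : c * (Δ.t * Δ.σ) * c⁻¹ = Δ.σ := by rw [← conj_mul, c1, ec, Δ.t_t]
  have d2 : g⁻¹ * d * g * Δ.σ * (g⁻¹ * d * g)⁻¹ = Δ.σ := by
    calc _ = g⁻¹ * (d * (g * Δ.σ * g⁻¹) * d⁻¹) * g := by group
      _ = g⁻¹ * (g * Δ.σ * g⁻¹) * g := by rw [hg, d1]
      _ = _ := by group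
  have d3 : g⁻¹ * d * g * Δ.t * (g⁻¹ * d * g)⁻¹ = Δ.t * Δ.σ := by
    calc _ = g⁻¹ * (d * (g * Δ.t * g⁻¹) * d⁻¹) * g := by group
      _ = g⁻¹ * (g * Δ.σ * g⁻¹ * (g * Δ.t * g⁻¹)) * g := by rw [ed, hg]
      _ = _ := by rw [← Δ.σ_t]; group
  have d4 : g⁻¹ * d * g * (Δ.t * Δ.σ) * (g⁻¹ * d * g)⁻¹ = Δ.t := by
    rw [← conj_mul, d2, d3, Δ.mul_σ_σ]
  generalize g⁻¹ * d * g = w at d3 d4
  refine ⟨c * w * c, ?_, ?_⟩
  · calc _ = c * (w * (c * Δ.t * c⁻¹) * w⁻¹) * c⁻¹ := by group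
      _ = _ := by rw [c1, d3, c2]
  · calc _ = c * (w * (c * Δ.σ * c⁻¹) * w⁻¹) * c⁻¹ := by group
      _ = _ := by rw [ec, d4, c1]

/-- An element interchanging `t` and `σ` and normalizing the diagonal root group. -/
theorem exists_swap' (Δ : L2 G F) (h1 : Nat.card F % 4 = 1) :
    ∃ (g : G) (f : F → F), g * Δ.t * g⁻¹ = Δ.σ ∧ g * Δ.σ * g⁻¹ = Δ.t ∧ Function.Surjective f ∧
      ∀ s, g * Δ.κ (slU s) * g⁻¹ = Δ.κ (slU (f s)) := by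
  obtain ⟨g, gt, gσ⟩ := exists_swap Δ h1
  obtain ⟨s₀, f, hf, k⟩ := norm_U Δ.toLD (fun s => g * Δ.κ (slU s) * g⁻¹)
    (fun s s' h => slU_inj (pp_inj _ (slU_pow_ringChar s) (slU_pow_ringChar s')
      (mul_left_cancel (mul_right_cancel h))).1)
    (fun s => Δ.mem_C.2 (by simpa only [gσ] using cc (Δ.σ_κ _).symm g))
    (fun s => by simpa only [gt] using cc (Δ.mem_C.1 (Δ.Γ_le_C (κ_mem_Γ _ (slU s)))) g)
    (fun s => cp (pp_pow _ s s) g) (fun s => cc (pp_comm _ s s 1 1) g)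
    (cne1 (pp_ne _ one_ne_zero 1) g)
  refine ⟨Δ.κ s₀ * g, f, ?_, ?_, hf, fun s => ?_⟩
  · rw [← κ_σ Δ.toLD s₀, ← gt]; group
  · rw [← κ_t Δ.toLD s₀, ← gσ]; group
  · rw [← k]; group

end A4

open A4 in
/-- The centralizer of a root group, `q ≡ 1 (mod 4)`. -/
theorem w4a : W4a.{u, v} := by
  intro G _ _ F _ _ Δ h1
  obtain ⟨g, f, gt, gσ, hf, gU⟩ := exists_swap' Δ h1
  obtain ⟨i, hi⟩ := exists_sq_neg_one h1
  let r : F → G := fun s => pp Δ.toLD (slU s, slU (-s))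
  have rt : ∀ s, r s * Δ.t = Δ.t * r s := fun s => Δ.mem_C.1 (pp_mem_C _ _)
  have rσ : ∀ s, Δ.σ * r s * Δ.σ⁻¹ = (r s)⁻¹ := fun s => by
    rw [σ_pp, ← map_inv, Prod.inv_mk, ← slU_neg, ← slU_neg, neg_neg]
  have rz : ∀ s, Δ.z * r s * Δ.z⁻¹ = (r s)⁻¹ := fun s => z_pp _ _ _
  have rκ : ∀ s s', r s * Δ.κ (slU s') = Δ.κ (slU s') * r s := fun s s' => pp_comm _ _ _ _ _
  have κz : ∀ s, Δ.z * Δ.κ (slU s) * Δ.z⁻¹ = (Δ.κ (slU s))⁻¹ := fun s => z_pp _ _ _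
  have κt : ∀ s, Δ.κ s * Δ.t = Δ.t * Δ.κ s := fun s => Δ.mem_C.1 (Δ.Γ_le_C (κ_mem_Γ _ s))
  have inv_comm : ∀ {a b x : G}, a * x * a⁻¹ = x⁻¹ → b * x * b⁻¹ = x⁻¹ →
      a * b * x = x * (a * b) := fun {a b x} ha hb => by
    rw [← mul_inv_eq_iff_eq_mul, _root_.mul_inv_rev, ← mul_assoc, mul_assoc a, mul_assoc a, hb,
      conj_inv.symm, ha, inv_inv]
  have comm_inv : ∀ {a b x : G}, x * a = a * x → b * x * b⁻¹ = x⁻¹ →
      a * b * x * (a * b)⁻¹ = x⁻¹ := fun {a b x} ha hb => by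
    rw [_root_.mul_inv_rev, ← mul_assoc, mul_assoc a, mul_assoc a, hb, conj_inv.symm, ← ha,
      mul_inv_cancel_right]
  set y := g * r 1 * g⁻¹ with hy
  have yσ : y * Δ.σ = Δ.σ * y := by simpa only [gt] using cc (rt 1) g
  have yt : Δ.t * y * Δ.t⁻¹ = y⁻¹ := by simpa only [gσ] using ci (rσ 1) g
  have yκ : ∀ s, y * Δ.κ (slU s) = Δ.κ (slU s) * y := fun s => by
    obtain ⟨s, rfl⟩ := hf s
    simpa only [gU] using cc (rκ 1 s) g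
  have yp : y ^ ringChar F = 1 := cp (pp_pow _ _ _) g
  have y1 : y ≠ 1 := cne1 (pp_ne _ one_ne_zero _) g
  have gt' : g⁻¹ * Δ.t * g⁻¹⁻¹ = Δ.σ := by rw [← gσ]; group
  have gσ' : g⁻¹ * Δ.σ * g⁻¹⁻¹ = Δ.t := by rw [← gt]; group
  have yz : Δ.z * y = y * Δ.z := by
    have tz : Δ.t * Δ.z = Δ.κ ⟨i • mJ, by rw [det_smul2, hi, det_mJ]; ring⟩ := by
      rw [Δ.tz_eq]
      exact (Δ.P_smul ok_JJ (by linear_combination (i * i - 1) * hi)).symm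
    have eΓ : g⁻¹ * (Δ.t * Δ.z) * g⁻¹⁻¹ ∈ Δ.Γ := tz ▸ Δ.H0_le_Γ (Δ.conj_mem_H0_κ
      (fun s => Δ.mem_C.2 (by simpa only [gσ'] using cc (Δ.σ_κ s).symm g⁻¹)) _)
    obtain ⟨k, hk⟩ := shape Δ.toLD eΓ
      (by simpa only [gt'] using cc (Δ.mem_C.1 (mul_mem Δ.t_mem_C Δ.z_mem_C)) g⁻¹) (by
        have := ci (comm_inv (κt (slU (f 1))) (κz (f 1))) g⁻¹
        rw [← gU] at this
        simpa only [inv_inv, ← mul_assoc, inv_mul_cancel, one_mul, inv_mul_cancel_right]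
          using this)
    have k1 := (hk (r 1) (pp_mem_C _ _)).trans (rz 1)
    have k2 : Δ.κ (slU k) * r 1 * (Δ.κ (slU k))⁻¹ = r 1 := by rw [← rκ, mul_inv_cancel_right]
    have k3 := ci (ci k1 (Δ.κ (slU k))⁻¹) g
    rw [← k2] at k3
    have k4 : Δ.t * Δ.z * y * (Δ.t * Δ.z)⁻¹ = y⁻¹ := by
      rw [hy]
      simpa only [inv_inv, ← mul_assoc, inv_mul_cancel, one_mul, inv_mul_cancel_right,
        mul_inv_cancel, mul_inv_cancel_right] using k3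
    simpa only [Δ.t_t] using inv_comm yt k4
  have vC : Δ.z * Δ.σ ∈ Δ.C := mul_mem Δ.z_mem_C Δ.σ_mem_C
  have v2 : Δ.z * Δ.σ * (Δ.z * Δ.σ) = 1 := by
    rw [mul_assoc, ← mul_assoc Δ.σ, Δ.σ_z, Δ.mul_σ_σ, Δ.z_sq]
  obtain ⟨A, hA, eA⟩ := swap_coord Δ.toLD h1 vC (Δ.sw_not_mem Δ.z_mem_Γ) v2
  obtain ⟨h, hh⟩ := isConj_iff.1 (show IsConj Δ.t (Δ.z * Δ.σ) from eA ▸ Δ.sw A hA).symm
  have toC : ∀ {x}, Δ.z * Δ.σ * x = x * (Δ.z * Δ.σ) → h * x * h⁻¹ ∈ Δ.C := fun k =>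
    Δ.mem_C.2 (by simpa only [hh] using cc k.symm h)
  have rC : ∀ s, h * r s * h⁻¹ ∈ Δ.C := fun s => toC (inv_comm (rz s) (rσ s))
  have yC : h * y * h⁻¹ ∈ Δ.C := toC (by rw [mul_assoc, ← yσ, ← mul_assoc, yz, mul_assoc])
  have tC : h * Δ.t * h⁻¹ ∈ Δ.C := toC (Δ.mem_C.1 vC)
  have σC : h * Δ.σ * h⁻¹ ∈ Δ.C := toC (by rw [← mul_assoc, Δ.σ_z])
  have tΓ : h * Δ.t * h⁻¹ ∉ Δ.Γ :=
    Δ.not_mem_Γ (isConj_iff.2 ⟨h, rfl⟩) (by
      have : Δ.t ≠ Δ.z * Δ.σ := fun k => Δ.sw_not_mem Δ.z_mem_Γ (k ▸ Δ.H0_le_Γ Δ.t_mem_H0)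
      simpa only [hh] using cne this h) (rC 1) (cc (rt 1) h)
      (cne1 (pp_ne _ one_ne_zero _) h) (k := 1) (by rw [pow_one]; exact cp (pp_pow _ _ _) h)
  have σΓ : h * Δ.σ * h⁻¹ ∉ Δ.Γ :=
    Δ.not_mem_Γ ((isConj_σ Δ).trans (isConj_iff.2 ⟨h, rfl⟩)) (by
      have : Δ.σ ≠ Δ.z * Δ.σ := fun k => Δ.z_ne_one (by simpa using k)
      simpa only [hh] using cne this h) yC (cc yσ h) (cne1 y1 h) (k := 1)
      (by rw [pow_one]; exact cp yp h)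
  obtain ⟨B, hB, eB⟩ := swap_coord Δ.toLD h1 tC tΓ (by rw [conj_mul, Δ.t_sq]; group)
  have H := key (Δ.cj2 B hB) (fun s => h * r s * h⁻¹)
    (fun s s' k => slU_inj (pp_inj _ (slU_pow_ringChar s) (slU_pow_ringChar s')
      (mul_left_cancel (mul_right_cancel k))).1)
    (fun s => Δ.cj2_C hB ▸ rC s) (fun s => eB ▸ cc (rt s) h) (fun s => cp (pp_pow _ _ _) h)
    (fun s => cc (pp_comm _ _ _ _ _) h) (cne1 (pp_ne _ one_ne_zero _) h) (Δ.cj2_C hB ▸ yC)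
    (cp yp h) (eB ▸ ci yt h) (e := h * (Δ.t * Δ.σ) * h⁻¹)
    (Δ.cj2_Γ hB ▸ conj_mul (b := h) ▸ Δ.mul_mem_Γ tC σC tΓ σΓ)
    (eB ▸ cc (by rw [mul_assoc, Δ.σ_t]) h) (fun s => ci (comm_inv (rt s) (rσ s)) h)
    (ci (by rw [← Δ.σ_t]; exact comm_inv yσ yt) h)
    (H := cj h (centralizer {Δ.κ (slU 1)}))
    (fun s => conj_mem_cj.2 (mem_centralizer_singleton_iff.2 (rκ s 1)))
    (conj_mem_cj.2 (mem_centralizer_singleton_iff.2 (yκ 1)))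
  rcases H with H | H
  · refine ⟨y, y1, yp, ?_, by rw [yz, mul_inv_cancel_right], yt⟩
    rintro _ ⟨s, rfl⟩
    have e : Δ.φ1 (slU s) = Δ.κ (slU (s / 2)) * r (s / 2) := by
      change pp _ (slU s, 1) = pp _ (slU (s / 2), slU (s / 2)) * pp _ _
      rw [← map_mul, Prod.mk_mul_mk, ← slU_add, ← slU_add, add_neg_cancel, slU_zero,
        ← two_mul, mul_div_cancel₀ _ Δ.two_ne]
    have k := H (s / 2)
    rw [conj_mul, conj_mul] at k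
    rw [e, mul_assoc, ← mul_left_cancel (mul_right_cancel k), ← mul_assoc, ← yκ, mul_assoc]
  · rw [Δ.cj2_t, ← hh, conj_mem_cj, mem_centralizer_singleton_iff] at H
    have k := comm_inv (Δ.σ_κ (slU 1)).symm (κz 1)
    rw [Δ.σ_z, H, mul_inv_cancel_right, eq_inv_iff_mul_eq_one, ← map_mul, ← slU_add] at k
    exact absurd k (pp_ne _ (by rw [one_add_one_eq_two]; exact Δ.two_ne) _)

end Cfsg.Lib.L45
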