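import Cfsg.Agent.L45.Defs
import Cfsg.Agent.FWR.FrLoc

/-!
# Twelve root groups permuted by the symmetric group of degree four: basic facts
-/

set_option autoImplicit false

namespace Cfsg.Lib.L45

open Matrix Cfsg.Lib.Class Cfsg.Lib.Rank2.Lin Cfsg.Lib.Trans Subgroup Equiv
open scoped MatrixGroups commutatorElement

universe u v

variable {G : Type u} [Group G] {F : Type v} [Field F]

section Dia

variable {φ : SL(2, F) →* G} {τ n m : G} {α : Fˣ}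

theorem cjh_cjh (n m : G) (φ : SL(2, F) →* G) : cjh n (cjh m φ) = cjh (n * m) φ :=
  MonoidHom.ext fun s => by simp only [cjh_apply]; group

theorem cjh_one (φ : SL(2, F) →* G) : cjh 1 φ = φ := MonoidHom.ext fun s => by simp [cjh_apply]

theorem range_cjh (n : G) (φ : SL(2, F) →* G) : (cjh n φ).range = cj n φ.range := by
  ext x
  exact ⟨fun ⟨s, e⟩ => e ▸ conj_mem_cj.2 ⟨s, rfl⟩, fun ⟨_, ⟨s, e⟩, e'⟩ => ⟨s, e' ▸ e ▸ rfl⟩⟩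

theorem Dia.cjh (h : Dia φ τ α) (n : G) : Dia (cjh n φ) (n * τ * n⁻¹) α :=
  ⟨fun s => by rw [cjh_apply, cjh_apply, ← h.1]; group,
    fun s => by rw [cjh_apply, cjh_apply, ← h.2]; group⟩

theorem Dia.cjU (h : Dia φ τ α) : cj τ (XU φ) = XU φ := by
  ext x
  refine ⟨fun ⟨_, ⟨s, e⟩, e'⟩ => ⟨α * s, ?_⟩, fun ⟨s, e⟩ => ?_⟩
  · rw [← h.1, e]; exact e'
  · rw [← e, show s = α * ((α : F)⁻¹ * s) by simp, ← h.1]
    exact conj_mem_cj.2 (mem_XU φ _)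

theorem Dia.cjV (h : Dia φ τ α) : cj τ (XU (opp φ)) = XU (opp φ) := by
  ext x
  refine ⟨fun ⟨_, ⟨s, e⟩, e'⟩ => ?_, fun ⟨s, e⟩ => ?_⟩
  · rw [← e', ← e, opp_slU]
    change τ * _ * τ⁻¹ ∈ _
    rw [h.2]
    exact slV_mem _
  · rw [← e, opp_slU, show -s = (α : F)⁻¹ * (α * -s) by simp, ← h.2]
    exact conj_mem_cj.2 (slV_mem _)

theorem range_eq_sup (φ : SL(2, F) →* G) : φ.range = XU φ ⊔ XU (opp φ) :=
  le_antisymm (by rintro _ ⟨s, rfl⟩; exact map_mem_sup s) (sup_le FWR.FL.XU_le FWR.FL.XV_le)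

theorem Dia.cj_range (h : Dia φ τ α) : cj τ φ.range = φ.range := by
  rw [range_eq_sup, cj_sup, h.cjU, h.cjV]

theorem cj_N_XU (φ : SL(2, F) →* G) : cj (φ (slN 1)) (XU φ) = XU (opp φ) := by
  ext x
  refine ⟨fun ⟨_, ⟨s, e⟩, e'⟩ => ?_, fun ⟨s, e⟩ => ?_⟩
  · rw [← e', ← e]
    change φ _ * φ _ * (φ _)⁻¹ ∈ _
    rw [← map_inv, ← map_mul, ← map_mul, FWR.FL.slN_slU']
    exact slV_mem _
  · rw [← e, opp_slU, ← FWR.FL.slN_slU', map_mul, map_mul, map_inv]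
    exact conj_mem_cj.2 (mem_XU φ _)

theorem dia_H (φ : SL(2, F) →* G) (a : Fˣ) : Dia φ (φ (slH a)) (a * a) :=
  ⟨fun s => by rw [← map_inv, ← map_mul, ← map_mul, slH_slU, Units.val_mul],
    fun s => by rw [← map_inv, ← map_mul, ← map_mul, FWR.FL.slH_slV, Units.val_mul]⟩

theorem slH_neg_one : (slH (-1) : SL(2, F)) = -1 := Subtype.ext (by simp [one_fin_two])

end Dia

theorem exists_perm2 : ∀ {i j : Fin 4}, i ≠ j → ∃ π : Perm (Fin 4), π 0 = i ∧ π 1 = j := by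
  decide +kernel

theorem exists_perm3 : ∀ {i j k : Fin 4}, i ≠ j → i ≠ k → j ≠ k →
    ∃ π : Perm (Fin 4), π 0 = i ∧ π 1 = j ∧ π 2 = k := by decide +kernel

theorem exists_perm4 : ∀ {i j k l : Fin 4}, i ≠ j → i ≠ k → j ≠ k → i ≠ l → j ≠ l → k ≠ l →
    ∃ π : Perm (Fin 4), π 0 = i ∧ π 1 = j ∧ π 2 = k ∧ π 3 = l := by decide +kernel

namespace RS4

variable (Λ : RS4 G F) {i j k l : Fin 4} {n m τ x y : G} {π π' : Perm (Fin 4)}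

include Λ in
theorem finF : Finite F := Nat.finite_of_card_ne_zero Λ.odd.pos.ne'

/-- `n` permutes the rank one groups as `π`, up to the torus. -/
def Mo (n : G) (π : Perm (Fin 4)) : Prop := n ∈ normalizer (Λ.T : Set G) ∧
  ∀ k l, k ≠ l → ∃ τ ∈ Λ.T, cjh n (Λ.φ k l) = cjh τ (Λ.φ (π k) (π l))

theorem mo_T (h : τ ∈ Λ.T) : Λ.Mo τ 1 := ⟨le_normalizer h, fun _ _ _ => ⟨τ, h, rfl⟩⟩

theorem mo_N (h : i ≠ j) : Λ.Mo (Λ.φ i j (slN 1)) (swap i j) := ⟨Λ.N i j h, fun k l => Λ.W i j k l h⟩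

variable {Λ} in
theorem Mo.mul (h : Λ.Mo n π) (h' : Λ.Mo m π') : Λ.Mo (n * m) (π * π') :=
  ⟨mul_mem h.1 h'.1, fun k l hkl => by
    obtain ⟨τ, hτ, e⟩ := h'.2 k l hkl
    obtain ⟨τ', hτ', e'⟩ := h.2 _ _ (π'.injective.ne hkl)
    refine ⟨n * τ * n⁻¹ * τ', mul_mem (mem_normalizer_conj h.1 hτ) hτ', ?_⟩
    rw [← cjh_cjh, e, cjh_cjh, ← inv_mul_cancel_right (n * τ) n, ← cjh_cjh, e', cjh_cjh,
      inv_mul_cancel_right]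
    rfl⟩

theorem le_G0₁ : (Λ.φ 0 1).range ≤ Λ.G0 := le_sup_left.trans le_sup_left

theorem le_G0₂ : (Λ.φ 1 2).range ≤ Λ.G0 := le_sup_right.trans le_sup_left

theorem le_G0₃ : (Λ.φ 2 3).range ≤ Λ.G0 := le_sup_right

theorem exists_mo (π : Perm (Fin 4)) : ∃ n ∈ Λ.G0, Λ.Mo n π := by
  have h : π ∈ Submonoid.closure (Set.range fun i : Fin 3 => swap i.castSucc i.succ) := by
    rw [Perm.mclosure_swap_castSucc_succ]; trivial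
  induction h using Submonoid.closure_induction with
  | mem σ h =>
    obtain ⟨i, rfl⟩ := h
    fin_cases i
    exacts [⟨_, Λ.le_G0₁ ⟨_, rfl⟩, Λ.mo_N (by decide)⟩, ⟨_, Λ.le_G0₂ ⟨_, rfl⟩, Λ.mo_N (by decide)⟩,
      ⟨_, Λ.le_G0₃ ⟨_, rfl⟩, Λ.mo_N (by decide)⟩]
  | one => exact ⟨1, one_mem _, Λ.mo_T (one_mem _)⟩
  | mul a b _ _ ha hb =>
    obtain ⟨n, hn, h⟩ := ha
    obtain ⟨m, hm, h'⟩ := hb
    exact ⟨_, mul_mem hn hm, h.mul h'⟩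

theorem exists_mo' (π : Perm (Fin 4)) (h : k ≠ l) :
    ∃ n, Λ.Mo n π ∧ Λ.φ (π k) (π l) = cjh n (Λ.φ k l) := by
  obtain ⟨n, -, hn⟩ := Λ.exists_mo π
  obtain ⟨τ, hτ, e⟩ := hn.2 k l h
  exact ⟨τ⁻¹ * n, by simpa using (Λ.mo_T (inv_mem hτ)).mul hn,
    by rw [← cjh_cjh, e, cjh_cjh, inv_mul_cancel, cjh_one]⟩

theorem exists_cjh (h : i ≠ j) : ∃ n ∈ normalizer (Λ.T : Set G), Λ.φ i j = cjh n (Λ.φ 0 1) := by
  obtain ⟨π, rfl, rfl⟩ := exists_perm2 h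
  obtain ⟨n, hn, e⟩ := Λ.exists_mo' π (k := 0) (l := 1) (by decide)
  exact ⟨n, hn.1, e⟩

theorem inj' (h : i ≠ j) : Function.Injective (Λ.φ i j) := fun a b e => by
  obtain ⟨n, -, e'⟩ := Λ.exists_cjh h
  rw [e', cjh_apply, cjh_apply, conj_inj'] at e
  exact Λ.inj e

theorem act' (h : i ≠ j) (hτ : τ ∈ Λ.T) : ∃ α, Dia (Λ.φ i j) τ α := by
  obtain ⟨n, hn, e⟩ := Λ.exists_cjh h
  obtain ⟨α, hα⟩ := Λ.act _ (mem_normalizer_conj' hn hτ)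
  exact ⟨α, by simpa [e, mul_assoc] using hα.cjh n⟩

theorem surj' (h : i ≠ j) (α : Fˣ) : ∃ τ ∈ Λ.T, Dia (Λ.φ i j) τ α := by
  obtain ⟨n, hn, e⟩ := Λ.exists_cjh h
  obtain ⟨τ, hτ, hα⟩ := Λ.surj α
  exact ⟨_, mem_normalizer_conj hn hτ, e ▸ hα.cjh n⟩

theorem H' (h : i ≠ j) (a : Fˣ) : Λ.φ i j (slH a) ∈ Λ.T := by
  obtain ⟨n, hn, e⟩ := Λ.exists_cjh h
  exact e ▸ mem_normalizer_conj hn (Λ.H a)

theorem z_mem (h : i ≠ j) : Λ.z i j ∈ Λ.T := by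
  have := Λ.H' h (-1)
  rwa [slH_neg_one] at this

theorem cj_T (h : i ≠ j) (hτ : τ ∈ Λ.T) : cj τ (Λ.X i j) = Λ.X i j :=
  (Λ.act' h hτ).elim fun _ h => h.cjU

theorem T_N (h : i ≠ j) : Λ.T ≤ normalizer (Λ.X i j : Set G) := fun _ hτ =>
  cj_eq_self_iff.1 (Λ.cj_T h hτ)

theorem T_N_range (h : i ≠ j) : Λ.T ≤ normalizer ((Λ.φ i j).range : Set G) := fun _ hτ =>
  (Λ.act' h hτ).elim fun _ h => cj_eq_self_iff.1 h.cj_range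

theorem T_N_G0 : Λ.T ≤ normalizer (Λ.G0 : Set G) := fun _ hτ =>
  FWR.N_sup (FWR.N_sup (Λ.T_N_range (by decide) hτ) (Λ.T_N_range (by decide) hτ))
    (Λ.T_N_range (by decide) hτ)

variable {Λ}

theorem Mo.cjX (h : Λ.Mo n π) (hkl : k ≠ l) : cj n (Λ.X k l) = Λ.X (π k) (π l) := by
  obtain ⟨τ, hτ, e⟩ := h.2 k l hkl
  rw [← XU_cjh, e, XU_cjh, Λ.cj_T (π.injective.ne hkl) hτ]

theorem Mo.cj_range (h : Λ.Mo n π) (hkl : k ≠ l) :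
    cj n (Λ.φ k l).range = (Λ.φ (π k) (π l)).range := by
  obtain ⟨τ, hτ, e⟩ := h.2 k l hkl
  rw [← range_cjh, e, range_cjh, cj_eq_of_mem_normalizer (Λ.T_N_range (π.injective.ne hkl) hτ)]

theorem Mo.z (h : Λ.Mo n π) (hkl : k ≠ l) : n * Λ.z k l * n⁻¹ = Λ.z (π k) (π l) := by
  obtain ⟨τ, hτ, e⟩ := h.2 k l hkl
  rw [← cjh_apply, e, cjh_apply, Λ.comm _ hτ _ (Λ.z_mem (π.injective.ne hkl)), mul_inv_cancel_right]

theorem Mo.mem (h : Λ.Mo n π) (hkl : k ≠ l) (hx : x ∈ Λ.X k l) : n * x * n⁻¹ ∈ Λ.X (π k) (π l) :=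
  h.cjX hkl ▸ conj_mem_cj.2 hx

theorem Mo.exists_eq (h : Λ.Mo n π) (hkl : k ≠ l) (hx : x ∈ Λ.X (π k) (π l)) :
    ∃ y ∈ Λ.X k l, x = n * y * n⁻¹ := by
  rw [← h.cjX hkl] at hx
  exact ⟨n⁻¹ * x * n, mem_cj.1 hx, by group⟩

variable (Λ)

theorem range_le (h : i ≠ j) : (Λ.φ i j).range ≤ Λ.G0 := by
  obtain ⟨π, rfl, rfl⟩ := exists_perm2 h
  obtain ⟨n, hn, h1⟩ := Λ.exists_mo π
  rw [← h1.cj_range (by decide)]
  exact cj_le_iff.2 fun x hx => mul_mem (mul_mem hn (Λ.le_G0₁ hx)) (inv_mem hn)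

theorem cj_N (h : i ≠ j) (hkl : k ≠ l) :
    cj (Λ.φ i j (slN 1)) (Λ.X k l) = Λ.X (swap i j k) (swap i j l) := (Λ.mo_N h).cjX hkl

theorem opp_eq (h : i ≠ j) : Λ.X j i = XU (opp (Λ.φ i j)) := by
  rw [← cj_N_XU, Λ.cj_N h h, swap_apply_left, swap_apply_right]

theorem slV_mem' (h : i ≠ j) (s : F) : Λ.φ i j (slV s) ∈ Λ.X j i := Λ.opp_eq h ▸ slV_mem s

theorem exists_slV (h : i ≠ j) (hx : x ∈ Λ.X j i) : ∃ s, x = Λ.φ i j (slV s) := by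
  rw [Λ.opp_eq h] at hx
  obtain ⟨s, rfl⟩ := hx
  exact ⟨-s, opp_slU s⟩

theorem range_eq (h : i ≠ j) : (Λ.φ i j).range = Λ.X i j ⊔ Λ.X j i := by
  rw [range_eq_sup, Λ.opp_eq h]

theorem range_symm (h : i ≠ j) : (Λ.φ j i).range = (Λ.φ i j).range := by
  rw [Λ.range_eq h, Λ.range_eq h.symm, sup_comm]

theorem map_mem (h : i ≠ j) (s : SL(2, F)) : Λ.φ i j s ∈ Λ.X i j ⊔ Λ.X j i :=
  Λ.range_eq h ▸ ⟨s, rfl⟩

theorem z_comm_map (s : SL(2, F)) : Λ.z i j * Λ.φ i j s = Λ.φ i j s * Λ.z i j := by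
  rw [← map_mul, ← map_mul]; simp

theorem z_symm (h : i ≠ j) : Λ.z j i = Λ.z i j := by
  have := (Λ.mo_N h).z h
  rw [swap_apply_left, swap_apply_right] at this
  rw [← this, ← Λ.z_comm_map, mul_inv_cancel_right]

theorem z_sq (i j : Fin 4) : Λ.z i j * Λ.z i j = 1 := by rw [← map_mul]; simp

theorem z_inv (i j : Fin 4) : (Λ.z i j)⁻¹ = Λ.z i j := inv_eq_of_mul_eq_one_right (Λ.z_sq i j)

theorem z_ne_one (h : i ≠ j) : Λ.z i j ≠ 1 := fun e =>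
  have := Λ.finF
  G2T.sl2_neg_one_ne Λ.odd (Λ.inj' h (e.trans (map_one _).symm))

theorem orderOf_z (h : i ≠ j) : orderOf (Λ.z i j) = 2 :=
  orderOf_eq_prime (by rw [sq, Λ.z_sq]) (Λ.z_ne_one h)

theorem z_comm (h : i ≠ j) (h' : k ≠ l) : Λ.z i j * Λ.z k l = Λ.z k l * Λ.z i j :=
  Λ.comm _ (Λ.z_mem h) _ (Λ.z_mem h')

theorem z_mul (hij : i ≠ j) (hik : i ≠ k) (hjk : j ≠ k) : Λ.z i j * Λ.z j k = Λ.z i k := by
  obtain ⟨π, rfl, rfl, rfl⟩ := exists_perm3 hij hik hjk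
  obtain ⟨n, -, h⟩ := Λ.exists_mo π
  rw [← h.z (by decide), ← h.z (by decide), ← h.z (by decide), conj_mul, Λ.zmul]

theorem z_orth (hij : i ≠ j) (hik : i ≠ k) (hjk : j ≠ k) (hil : i ≠ l) (hjl : j ≠ l) (hkl : k ≠ l) :
    Λ.z k l = Λ.z i j := by
  obtain ⟨π, rfl, rfl, rfl, rfl⟩ := exists_perm4 hij hik hjk hil hjl hkl
  obtain ⟨n, -, h⟩ := Λ.exists_mo π
  rw [← h.z (by decide), ← h.z (by decide), z, Λ.z23]

theorem orth' (hij : i ≠ j) (hik : i ≠ k) (hjk : j ≠ k) (hil : i ≠ l) (hjl : j ≠ l) (hkl : k ≠ l)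
    (hx : x ∈ (Λ.φ i j).range) (hy : y ∈ (Λ.φ k l).range) : x * y = y * x := by
  obtain ⟨π, rfl, rfl, rfl, rfl⟩ := exists_perm4 hij hik hjk hil hjl hkl
  obtain ⟨n, -, h⟩ := Λ.exists_mo π
  rw [← h.cj_range (by decide)] at hx hy
  obtain ⟨_, ⟨a, rfl⟩, rfl⟩ := hx
  obtain ⟨_, ⟨b, rfl⟩, rfl⟩ := hy
  rw [← map_mul, ← map_mul, Λ.orth]

theorem X_le_range (i j : Fin 4) : Λ.X i j ≤ (Λ.φ i j).range := FWR.FL.XU_le

theorem fixX (hx : x ∈ Λ.X i j) : Λ.z i j * x * (Λ.z i j)⁻¹ = x := by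
  obtain ⟨s, rfl⟩ := hx
  rw [Λ.z_comm_map, mul_inv_cancel_right]

theorem invX (hij : i ≠ j) (hik : i ≠ k) (hjk : j ≠ k) (hx : x ∈ Λ.X i j) :
    Λ.z j k * x * (Λ.z j k)⁻¹ = x⁻¹ := by
  obtain ⟨π, rfl, rfl, rfl⟩ := exists_perm3 hij hik hjk
  obtain ⟨n, -, h⟩ := Λ.exists_mo π
  obtain ⟨y, hy, rfl⟩ := h.exists_eq (by decide) hx
  rw [← h.z (by decide), conj_inv (a := y), ← Λ.zinv y hy]; group

theorem invX' (hij : i ≠ j) (hik : i ≠ k) (hjk : j ≠ k) (hx : x ∈ Λ.X i j) :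
    Λ.z i k * x * (Λ.z i k)⁻¹ = x⁻¹ := by
  rw [← Λ.z_mul hij hik hjk, ← Λ.fixX (inv_mem hx), ← Λ.invX hij hik hjk hx]; group

theorem X_comm (hx : x ∈ Λ.X i j) (hy : y ∈ Λ.X i j) : x * y = y * x := Ad.comm hx hy

theorem oddX (hx : x ∈ Λ.X i j) : Odd (orderOf x) := by
  obtain ⟨s, rfl⟩ := hx
  have := Λ.finF
  exact (G2T.odd_slU Λ.odd s).of_dvd_nat (orderOf_map_dvd _ _)

theorem U_ne (h : i ≠ j) {s : F} (hs : s ≠ 0) : Λ.φ i j (slU s) ≠ 1 := fun e =>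
  hs (slU_inj (Λ.inj' h (by rw [e, slU_zero, map_one])))

theorem card_X (h : i ≠ j) : Nat.card (Λ.X i j) = Nat.card F :=
  (Nat.card_congr (Equiv.ofBijective (fun s => (⟨_, mem_XU _ s⟩ : Λ.X i j))
    ⟨fun _ _ e => slU_inj (Λ.inj' h (congrArg Subtype.val e)),
      fun ⟨_, s, e⟩ => ⟨s, Subtype.ext e⟩⟩)).symm

theorem irr (h : i ≠ j) {W : Subgroup G} (hW : Λ.T ≤ normalizer (W : Set G)) (hx : x ∈ Λ.X i j)
    (h1 : x ≠ 1) (h2 : x ∈ W) : Λ.X i j ≤ W := by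
  obtain ⟨s, rfl⟩ := hx
  have hs : s ≠ 0 := fun e => h1 (by rw [e, slU_zero, map_one])
  rintro _ ⟨r, rfl⟩
  by_cases hr : r = 0
  · rw [hr, slU_zero, map_one]; exact one_mem _
  obtain ⟨τ, hτ, h3⟩ := Λ.surj' h (Units.mk0 (r / s) (div_ne_zero hr hs))
  have := mem_normalizer_conj (hW hτ) h2
  rwa [h3.1, Units.val_mk0, div_mul_cancel₀ _ hs] at this

theorem eq_one_of_orth (hij : i ≠ j) (hik : i ≠ k) (hjk : j ≠ k) (hil : i ≠ l) (hjl : j ≠ l)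
    (hkl : k ≠ l) (hx : x ∈ Λ.X i j) (hy : x ∈ (Λ.φ k l).range) : x = 1 := by
  obtain ⟨s, rfl⟩ := hx
  have := Λ.orth' hij hik hjk hil hjl hkl ⟨slV 1, rfl⟩ hy
  rw [← map_mul, ← map_mul] at this
  have h1 : s = 0 := by
    simpa [Local.SL2.mul_apply'] using congrArg (fun g : SL(2, F) => g 0 0) (Λ.inj' hij this)
  rw [h1, slU_zero, map_one]

end RS4

end Cfsg.Lib.L45
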