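import Cfsg.Agent.L45.Cox
import Cfsg.Agent.L45.RSBase
import Cfsg.Agent.Spor.SymCox

/-!
# Recognition of `L₄(q)`: the twelve root groups
-/

set_option autoImplicit false

namespace Cfsg.Lib.L45

open Matrix Cfsg.Lib.Class Cfsg.Lib.Rank2.Lin Cfsg.Lib.Trans Subgroup Equiv
open scoped MatrixGroups commutatorElement

universe u v

variable {G : Type u} [Group G] {F : Type v} [Field F]

theorem perm_fix01 : ∀ δ : Perm (Fin 4), δ 0 = 0 → δ 1 = 1 → δ = 1 ∨ δ = swap 2 3 := by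
  decide +kernel

theorem LD.cj_range3 (L : LD G F) {τ : G} (h : τ ∈ L.Γ) : (cjh τ L.φ3).range = L.φ3.range := by
  have k : ∀ τ ∈ L.Γ, ∀ s, τ * L.φ3 s * τ⁻¹ ∈ L.φ3.range := by
    rintro _ ⟨A, B, h, rfl⟩ s
    exact ⟨_, (L.conj_φ3 h s).symm⟩
  refine le_antisymm (by rintro _ ⟨s, rfl⟩; exact k τ h s) ?_
  rintro _ ⟨s, rfl⟩
  obtain ⟨s', e⟩ := k _ (inv_mem h) s
  exact ⟨s', by rw [cjh_apply, e]; group⟩

/-- The classes modulo the torus of the elements of the Weyl group. -/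
structure Fr.Cls (Φ : Fr G F) (Cl : G → Perm (Fin 4) → Prop) : Prop where
  mem : ∀ {n π}, Cl n π → n ∈ normalizer (Φ.T : Set G)
  mul : ∀ {n π m π'}, Cl n π → Cl m π' → Cl (n * m) (π * π')
  inv : ∀ {n π}, Cl n π → Cl n⁻¹ π⁻¹
  one : Cl 1 1
  uniq : ∀ {n m π}, Cl n π → Cl m π → n * m⁻¹ ∈ Φ.T
  ex : ∀ π, ∃ n, Cl n π
  c1 : Cl Φ.n1 (swap 0 1)
  c2 : Cl Φ.n2 (swap 1 2)
  c3 : Cl Φ.n3 (swap 2 3)

theorem Fr.exists_cls [Finite G] (Φ : Fr G F) : ∃ Cl, Φ.Cls Cl := by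
  let π := QuotientGroup.mk' (Φ.T.subgroupOf (normalizer (Φ.T : Set G)))
  have k : ∀ x, π x = 1 ↔ (x : G) ∈ Φ.T := fun x => QuotientGroup.eq_one_iff x
  obtain ⟨ν, hν⟩ := Spor.SymCox.exists_hom (n := 3) ![π ⟨_, Φ.n1_N⟩, π ⟨_, Φ.n2_N⟩, π ⟨_, Φ.n3_N⟩]
    (by
      intro i
      fin_cases i
      · exact (k (_ * _)).2 (Φ.n1_sq.symm ▸ Φ.t_mem_T : Φ.n1 * Φ.n1 ∈ Φ.T)
      · exact (k (_ * _)).2 (Φ.n2_sq.symm ▸ Φ.z_mem_T : Φ.n2 * Φ.n2 ∈ Φ.T)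
      · exact (k (_ * _)).2 (Φ.n3_sq.symm ▸ Φ.t_mem_T : Φ.n3 * Φ.n3 ∈ Φ.T))
    (by
      intro i j h
      fin_cases i <;> fin_cases j <;> simp at h
      exact congrArg π (Subtype.ext (Φ.n1_n3.trans Φ.n3_n1.symm) : (_ * _ : normalizer _) = _ * _))
    (by
      intro i j h
      fin_cases i <;> fin_cases j <;> simp at h
      · exact (k ((_ * _) ^ 3)).2 Φ.n12_cube
      · exact (k ((_ * _) ^ 3)).2 Φ.n23_cube)
  refine ⟨fun n p => ∃ h, π ⟨n, h⟩ = ν p, fun h => h.1,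
    fun ⟨h, e⟩ ⟨h', e'⟩ => ⟨mul_mem h h', by rw [map_mul, ← e, ← e']; rfl⟩,
    fun ⟨h, e⟩ => ⟨inv_mem h, by rw [map_inv, ← e]; rfl⟩, ⟨one_mem _, by rw [map_one]; rfl⟩,
    fun ⟨h, e⟩ ⟨h', e'⟩ => (k (⟨_, h⟩ * ⟨_, h'⟩⁻¹)).1 (by rw [map_mul, map_inv, e, e', mul_inv_cancel]),
    fun p => ?_, ⟨_, (hν 0).symm⟩, ⟨_, (hν 1).symm⟩, ⟨_, (hν 2).symm⟩⟩
  obtain ⟨n, e⟩ := QuotientGroup.mk'_surjective _ (ν p)
  exact ⟨n, n.2, e⟩

theorem w5a : W5a.{u, v} := by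
  intro G _ _ F _ _ Φ
  obtain ⟨Cl, c⟩ := Φ.exists_cls
  have h0 : ∀ i j : Fin 4, ∃ n p, Cl n p ∧ (i ≠ j → p 0 = i ∧ p 1 = j) ∧ (i = 0 → j = 1 → n = 1) :=
    fun i j => by
      by_cases h : i = 0 ∧ j = 1
      · exact ⟨1, 1, c.one, fun _ => ⟨h.1.symm, h.2.symm⟩, fun _ _ => rfl⟩
      by_cases h' : i = j
      · exact ⟨1, 1, c.one, fun e => absurd h' e, fun _ _ => rfl⟩
      obtain ⟨p, hp⟩ := exists_perm2 h'
      obtain ⟨n, hn⟩ := c.ex p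
      exact ⟨n, p, hn, fun _ => hp, fun e e' => absurd ⟨e, e'⟩ h⟩
  choose s p hs hp h1 using h0
  let φ : Fin 4 → Fin 4 → SL(2, F) →* G := fun i j => cjh (s i j) Φ.φ1
  have e01 : φ 0 1 = Φ.φ1 := by simp only [φ, h1 0 1 rfl rfl, cjh_one]
  have key : ∀ {n π}, Cl n π → ∀ k l, k ≠ l → ∃ τ ∈ Φ.T, cjh n (φ k l) = cjh τ (φ (π k) (π l)) :=
    fun {n π} hn k l hkl => by
      have h := (c.mul (c.inv (hs (π k) (π l))) (c.mul hn (hs k l)))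
      obtain ⟨f0, f1⟩ := hp _ _ (π.injective.ne hkl)
      obtain ⟨τ, hτ, e⟩ : ∃ τ ∈ Φ.T, cjh ((s (π k) (π l))⁻¹ * (n * s k l)) Φ.φ1 = cjh τ Φ.φ1 := by
        rcases perm_fix01 _
          (show ((p (π k) (π l))⁻¹ * (π * p k l)) 0 = 0 by
            rw [Perm.mul_apply, Perm.mul_apply, (hp k l hkl).1, Perm.inv_eq_iff_eq, f0])
          (show ((p (π k) (π l))⁻¹ * (π * p k l)) 1 = 1 by
            rw [Perm.mul_apply, Perm.mul_apply, (hp k l hkl).2, Perm.inv_eq_iff_eq, f1]) with e | e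
        · exact ⟨_, by simpa using c.uniq (e ▸ h) c.one, rfl⟩
        · refine ⟨_, c.uniq (e ▸ h) c.c3, ?_⟩
          have : cjh Φ.n3 Φ.φ1 = Φ.φ1 := MonoidHom.ext fun x => by
            rw [cjh_apply, mul_inv_eq_iff_eq_mul]; exact (Φ.comm13 _ _).symm
          nth_rewrite 2 [← this]
          rw [cjh_cjh, inv_mul_cancel_right]
      refine ⟨_, mem_normalizer_conj (c.mem (hs (π k) (π l))) hτ, ?_⟩
      simp only [φ, cjh_cjh]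
      rw [inv_mul_cancel_right, ← cjh_cjh _ τ, ← e, cjh_cjh, mul_inv_cancel_left]
  have hN : ∀ i j, i ≠ j → Cl (φ i j (slN 1)) (swap i j) := fun i j h => by
    have := c.mul (c.mul (hs i j) c.c1) (c.inv (hs i j))
    rwa [← swap_apply_apply, (hp i j h).1, (hp i j h).2] at this
  have hz : ∀ {n π}, Cl n π → n * Φ.t * n⁻¹ ∈ Φ.T → φ (π 0) (π 1) (-1) = n * Φ.t * n⁻¹ :=
    fun {n π} hn h => by
      obtain ⟨τ, hτ, e⟩ := key hn 0 1 (by decide)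
      have := DFunLike.congr_fun e (-1)
      rw [e01, cjh_apply, cjh_apply, Φ.φ1_neg_one] at this
      calc _ = τ⁻¹ * (n * Φ.t * n⁻¹) * τ := by rw [this]; group
        _ = _ := by rw [Φ.T_comm (inv_mem hτ) h]; group
  have z12 : φ 1 2 (-1) = Φ.z := by
    have := hz (c.mul c.c1 c.c2) (Φ.n12_t ▸ Φ.z_mem_T)
    rwa [Φ.n12_t] at this
  have z02 : φ 0 2 (-1) = Φ.t * Φ.z := by
    have := hz c.c2 (Φ.n2_t ▸ mul_mem Φ.t_mem_T Φ.z_mem_T)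
    rwa [Φ.n2_t] at this
  obtain ⟨τ, hτ, e23⟩ : ∃ τ ∈ Φ.T, φ 2 3 = cjh τ Φ.φ3 := by
    obtain ⟨τ, hτ, e⟩ := key (c.mul (c.mul c.c2 (c.mul c.c1 c.c3)) (c.inv c.c2)) 0 1 (by decide)
    refine ⟨_, mul_mem (inv_mem hτ) Φ.n2_ww, ?_⟩
    have e3 : Φ.φ3 = cjh Φ.σ Φ.φ1 := MonoidHom.ext fun x => (Φ.σ_φ1 x).symm
    rw [e01, Φ.n1_n3] at e
    rw [e3, cjh_cjh, mul_assoc, inv_mul_cancel_right, ← cjh_cjh, e, cjh_cjh, inv_mul_cancel, cjh_one]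
    rfl
  have r23 : (φ 2 3).range = Φ.φ3.range := e23 ▸ Φ.cj_range3 (Φ.T_le_Γ hτ)
  refine ⟨{ φ := φ
            T := Φ.T
            odd := Φ.odd
            inj := e01 ▸ Φ.inj1
            comm := fun a ha b hb => Φ.T_comm ha hb
            cop := Φ.cop_T
            W := fun i j k l h => key (hN i j h) k l
            N := fun i j h => c.mem (hN i j h)
            act := ?_
            surj := fun α => ⟨_, Φ.dg_mem_T (a := α) (b := 1) (c := (α : F)⁻¹) (d := 1) (by simp),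
              e01 ▸ Φ.dia_T (by simp) α (mul_one _)⟩
            H := fun a => e01 ▸ Φ.φ1_slH_mem a
            orth := fun a b => ?_
            z23 := ?_
            zmul := by rw [e01, z12, z02, Φ.φ1_neg_one]
            zinv := ?_ }, e01, rfl, r23, z12, c.uniq (hN 1 2 (by decide)) c.c2⟩
  · rintro _ ⟨a, b, c, d, h, rfl⟩
    have ha : a ≠ 0 := left_ne_zero_of_mul (left_ne_zero_of_mul_eq_one h)
    have hb : b ≠ 0 := right_ne_zero_of_mul (left_ne_zero_of_mul_eq_one h)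
    exact ⟨Units.mk0 (a / b) (div_ne_zero ha hb), e01 ▸ Φ.dia_T h _ (div_mul_cancel₀ a hb)⟩
  · obtain ⟨b', e⟩ := r23.le ⟨b, rfl⟩
    rw [e01, ← e, Φ.comm13]
  · rw [e01, e23, cjh_apply, Φ.φ3_neg_one, Φ.φ1_neg_one, Φ.T_comm hτ Φ.t_mem_T,
      mul_inv_cancel_right]
  · rw [e01, z12]
    rintro _ ⟨x, rfl⟩
    exact Φ.z_U x

end Cfsg.Lib.L45
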