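import Cfsg.Agent.L45.LSA

/-!
# Twelve root groups: the commutator relations of type `A₃`
-/

set_option autoImplicit false

namespace Cfsg.Lib.L45

open Matrix Cfsg.Lib.Class Cfsg.Lib.Rank2.Lin Cfsg.Lib.Trans Subgroup Equiv Cfsg.Lib.FWR Cfsg.Lib.G2T
open scoped MatrixGroups commutatorElement

universe u v

variable {G : Type u} [Group G] {F : Type v} [Field F]

namespace RS4

variable (Λ : RS4 G F)

/-- Roots with the same first index commute. -/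
def TA : Prop := ∀ i j k, i ≠ j → i ≠ k → j ≠ k → Λ.Cm i j i k

/-- Roots with the same second index commute. -/
def TB : Prop := ∀ i j k, i ≠ j → i ≠ k → j ≠ k → Λ.Cm i j k j

/-- Composable roots commute. -/
def TC : Prop := ∀ i j k, i ≠ j → i ≠ k → j ≠ k → Λ.Cm i j j k

variable {Λ} {a b c : Fin 4}

theorem exists_perm33 {i j k : Fin 4} (hab : a ≠ b) (hac : a ≠ c) (hbc : b ≠ c) (hij : i ≠ j)
    (hik : i ≠ k) (hjk : j ≠ k) : ∃ π : Perm (Fin 4), π a = i ∧ π b = j ∧ π c = k := by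
  obtain ⟨σ, rfl, rfl, rfl⟩ := exists_perm3 hab hac hbc
  obtain ⟨π, rfl, rfl, rfl⟩ := exists_perm3 hij hik hjk
  exact ⟨π * σ⁻¹, by simp⟩

theorem Cm.tA (h : Λ.Cm a b a c) (hab : a ≠ b) (hac : a ≠ c) (hbc : b ≠ c) : Λ.TA :=
  fun _ _ _ hij hik hjk => by
    obtain ⟨π, rfl, rfl, rfl⟩ := exists_perm33 hab hac hbc hij hik hjk
    exact h.mo hab hac π

theorem Cm.tB (h : Λ.Cm a b c b) (hab : a ≠ b) (hac : a ≠ c) (hbc : b ≠ c) : Λ.TB :=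
  fun _ _ _ hij hik hjk => by
    obtain ⟨π, rfl, rfl, rfl⟩ := exists_perm33 hab hac hbc hij hik hjk
    exact h.mo hab hbc.symm π

theorem Cm.tC (h : Λ.Cm a b b c) (hab : a ≠ b) (hac : a ≠ c) (hbc : b ≠ c) : Λ.TC :=
  fun _ _ _ hij hik hjk => by
    obtain ⟨π, rfl, rfl, rfl⟩ := exists_perm33 hab hac hbc hij hik hjk
    exact h.mo hab hbc π

theorem comm_mo {i j k l m n i' j' k' l' m' n' : Fin 4} (h : ⁅Λ.X i j, Λ.X k l⁆ ≤ Λ.X m n)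
    (e : i ≠ j ∧ k ≠ l ∧ m ≠ n ∧ ∃ π : Perm (Fin 4), π i = i' ∧ π j = j' ∧ π k = k' ∧ π l = l' ∧
      π m = m' ∧ π n = n') : ⁅Λ.X i' j', Λ.X k' l'⁆ ≤ Λ.X m' n' := by
  obtain ⟨hij, hkl, hmn, π, rfl, rfl, rfl, rfl, rfl, rfl⟩ := e
  obtain ⟨g, -, hg⟩ := Λ.exists_mo π
  rw [← hg.cjX hij, ← hg.cjX hkl, ← hg.cjX hmn, ← cj_commutator]
  exact cj_mono g h

end RS4

namespace LS4

open RS4

variable [Finite G] {Λ : LS4 G F} {i j k l : Fin 4} {x y : G}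

/-- The roots moved by `t`. -/
def Nb (i j : Fin 4) : Prop := i ≠ j ∧ ((i = 0 ∨ i = 1) ↔ (j = 2 ∨ j = 3))

instance (i j : Fin 4) : Decidable (Nb i j) := by unfold Nb; infer_instance

omit [Finite G] in
theorem t_inv (h : Nb i j) (hx : x ∈ Λ.X i j) : Λ.t * x * Λ.t⁻¹ = x⁻¹ := by
  rcases (by decide : ∀ i j, Nb i j → (i = 0 ∧ j ≠ 1) ∨ (j = 0 ∧ i ≠ 1) ∨ (i = 1 ∧ j ≠ 0) ∨
    (j = 1 ∧ i ≠ 0)) i j h with ⟨rfl, e⟩ | ⟨rfl, e⟩ | ⟨rfl, e⟩ | ⟨rfl, e⟩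
  · exact Λ.invX' h.1 (by decide) e hx
  · exact Λ.invX h.1 e (by decide) hx
  · rw [t, ← Λ.z_symm (by decide)]; exact Λ.invX' h.1 (by decide) e hx
  · rw [t, ← Λ.z_symm (by decide)]; exact Λ.invX h.1 e (by decide) hx

theorem le_R (h : Λ.Cm 0 1 i j) (hn : Nb i j) : Λ.X i j ≤ Λ.R := fun _ hx =>
  mem_R (h.le_C hx) (Λ.oddX hx) (t_inv hn hx)

omit [Finite G] in
theorem cm_of_le (h : Λ.X i j ≤ Λ.R) : Λ.Cm 0 1 i j :=
  comm_eq_bot_iff.2 fun _ hx _ hy => R_comm (h hy) hx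

variable (Λ) in
theorem sd₁ : ∃ V a b c d, (a = 1 ∧ b = 2 ∨ a = 2 ∧ b = 1) ∧ (c = 0 ∧ d = 3 ∨ c = 3 ∧ d = 0) ∧
    V ≤ Λ.X a b ⊔ Λ.X c d ∧ Λ.Sd (Λ.z 1 2) V :=
  exists_sd (by decide) (by decide) (by decide) (by decide) (by decide) (by decide) Λ.zinv
    (Λ.z_symm (by decide))

variable (Λ) in
theorem sd₂ : ∃ V a b c d, (a = 0 ∧ b = 2 ∨ a = 2 ∧ b = 0) ∧ (c = 1 ∧ d = 3 ∨ c = 3 ∧ d = 1) ∧
    V ≤ Λ.X a b ⊔ Λ.X c d ∧ Λ.Sd (Λ.z 0 2) V :=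
  exists_sd (by decide) (by decide) (by decide) (by decide) (by decide) (by decide)
    (fun _ => Λ.invX' (by decide) (by decide) (by decide)) rfl

theorem comm_le (h : Λ.Cm 0 1 i j) (hn : Nb i j) (h' : Λ.Cm 0 1 k l) (hn' : Nb k l) :
    ⁅Λ.X i j, Λ.X k l⁆ ≤ Λ.X 0 1 := by
  obtain ⟨V₁, -, -, -, -, -, -, -, h₁⟩ := Λ.sd₁
  obtain ⟨V₂, -, -, -, -, -, -, -, h₂⟩ := Λ.sd₂
  exact commutator_le.2 fun _ ha _ hb => comm_mem h₁ h₂ (le_U h₁ h₂ (Λ.pgX _ _) (le_R h hn) ha)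
    (le_U h₁ h₂ (Λ.pgX _ _) (le_R h' hn') hb)

theorem not_TC : ¬ Λ.TC := fun hC => by
  have c : ∀ i j k, i ≠ j → i ≠ k → j ≠ k → Λ.Cm j k i j := fun i j k a b c => (hC i j k a b c).symm
  have h1 : ⁅Λ.X 2 3, Λ.X 1 3⁆ ≤ Λ.X 3 0 := comm_mo (comm_le (c 2 0 1 (by decide) (by decide) (by decide))
    (by decide) (c 3 0 1 (by decide) (by decide) (by decide)) (by decide)) (by decide +kernel)
  have h2 : ⁅Λ.X 3 2, Λ.X 3 0⁆ ≤ Λ.X 1 3 := comm_mo (comm_le (hC 0 1 2 (by decide) (by decide) (by decide))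
    (by decide) (hC 0 1 3 (by decide) (by decide) (by decide)) (by decide)) (by decide +kernel)
  have h3 : ∀ P : Subgroup G, ⁅P, Λ.X 1 3⁆ ≤ Λ.X 1 3 ⊔ Λ.X 3 0 → ⁅P, Λ.X 3 0⁆ ≤ Λ.X 1 3 ⊔ Λ.X 3 0 →
      P ≤ normalizer ((Λ.X 1 3 ⊔ Λ.X 3 0 : Subgroup G) : Set G) := fun P a b x hx =>
    mem_normalizer_of_cj_le (by
      rw [cj_sup]
      exact sup_le (cj_le_of_comm a le_sup_left hx) (cj_le_of_comm b le_sup_right hx))
  have h4 := sup_le (h3 (Λ.X 2 3) (h1.trans le_sup_right)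
      ((hC 2 3 0 (by decide) (by decide) (by decide)).le.trans bot_le))
    (h3 (Λ.X 3 2) ((c 1 3 2 (by decide) (by decide) (by decide)).le.trans bot_le)
      (h2.trans le_sup_left)) (Λ.map_mem (i := 2) (j := 3) (by decide) (slN 1))
  have h5 : Λ.X 1 2 ≤ Λ.X 1 3 ⊔ Λ.X 3 0 := by
    rw [← cj_eq_of_mem_normalizer h4]
    refine le_trans ?_ (cj_mono _ le_sup_left)
    rw [Λ.cj_N (by decide) (by decide), swap_apply_right, swap_apply_of_ne_of_ne (by decide) (by decide)]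
  have h6 := mem_XU (Λ.φ 1 2) 1
  refine Λ.U_ne (i := 1) (j := 2) (by decide) one_ne_zero (Λ.eq_one_of_orth (k := 3) (l := 0)
    (by decide) (by decide) (by decide) (by decide) (by decide) (by decide) h6 (Λ.X_le_range _ _ ?_))
  exact grade_inv (c 1 3 0 (by decide) (by decide) (by decide)).le_N (fun _ => Λ.oddX)
    (fun _ => Λ.invX' (k := 2) (by decide) (by decide) (by decide))
    (Λ.T_N (by decide) (Λ.z_mem (by decide))) (h5 h6) (Λ.fixX h6)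

omit [Finite G] in
theorem comm_of_mem {a g : G} (ha : a ∈ Λ.R) (hi : Λ.t * a * Λ.t⁻¹ = a⁻¹) (hg : Λ.t * g * Λ.t⁻¹ = g)
    (h : ⁅a, g⁆ ∈ Λ.X 0 1) : a * g = g * a := by
  refine commutatorElement_eq_one_iff_mul_comm.1 (eq_one_of_fix_inv (Λ.oddX h) (Λ.fixX h) ?_)
  have h1 := R_comm ha (inv_mem h)
  calc _ = Λ.t * a * Λ.t⁻¹ * (Λ.t * g * Λ.t⁻¹) * (Λ.t * a * Λ.t⁻¹)⁻¹ * (Λ.t * g * Λ.t⁻¹)⁻¹ := by
        rw [commutatorElement_def]; group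
    _ = a⁻¹ * (⁅a, g⁆⁻¹ * a) := by rw [hi, hg, commutatorElement_def]; group
    _ = _ := by rw [h1, inv_mul_cancel_left]

/-- If each piece lies in a single root group, one of these commutes with `X 2 3`. -/
theorem single {V₁ V₂ : Subgroup G} (h₁ : Λ.Sd (Λ.z 1 2) V₁) (h₂ : Λ.Sd (Λ.z 0 2) V₂)
    (hne : ¬ Λ.X 0 1 ⊔ V₁ ⊔ V₂ ≤ Λ.X 0 1) (n₁ : Nb i j) (n₂ : Nb k l) (l₁ : V₁ ≤ Λ.X i j)
    (l₂ : V₂ ≤ Λ.X k l) (c₁ : Λ.Cm 0 1 i j) (c₂ : Λ.Cm 0 1 k l) (c : Λ.Cm i j k l)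
    (f₁ : Λ.z 1 2 = Λ.z i j) (f₂ : ∀ x ∈ Λ.X k l, Λ.z 1 2 * x * (Λ.z 1 2)⁻¹ = x⁻¹) :
    Λ.Cm i j 2 3 ∨ Λ.Cm k l 2 3 := by
  have := Fact.mk Λ.prime
  have o : Λ.Cm 0 1 2 3 :=
    Λ.cm_orth (by decide) (by decide) (by decide) (by decide) (by decide) (by decide)
  obtain ⟨u, hu, h1, h2⟩ := exists_fix_mod (Λ.pgX 2 3) (sylow h₁ h₂).1.isPGroup
    (fun _ hx => N_U h₁ h₂ (o.le_N hx)) hne
  let W : Subgroup G :=
    { carrier := {u | u ∈ Λ.R ∧ ∀ g ∈ Λ.X 2 3, ⁅u, g⁆ ∈ Λ.X 0 1}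
      mul_mem' := fun {a b} ha hb => ⟨mul_mem ha.1 hb.1, fun g hg => by
        rw [show ⁅a * b, g⁆ = a * ⁅b, g⁆ * a⁻¹ * ⁅a, g⁆ by simp only [commutatorElement_def]; group,
          ← R_comm ha.1 (hb.2 g hg), mul_inv_cancel_right]
        exact mul_mem (hb.2 g hg) (ha.2 g hg)⟩
      one_mem' := ⟨one_mem _, fun g _ => by simp⟩
      inv_mem' := fun {a} ha => ⟨inv_mem ha.1, fun g hg => by
        rw [show ⁅a⁻¹, g⁆ = a⁻¹ * (⁅a, g⁆⁻¹ * a) by simp only [commutatorElement_def]; group,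
          R_comm ha.1 (inv_mem (ha.2 g hg)), inv_mul_cancel_left]
        exact inv_mem (ha.2 g hg)⟩ }
  have nW : Λ.T ≤ normalizer (W : Set G) := fun τ hτ => mem_normalizer_of_cj_le (cj_le_iff.2
    fun a ha => ⟨mem_normalizer_conj (Λ.T_N_R hτ) ha.1, fun g hg => by
      rw [show ⁅τ * a * τ⁻¹, g⁆ = τ * ⁅a, τ⁻¹ * g * τ⁆ * τ⁻¹ by simp only [commutatorElement_def]; group]
      exact mem_normalizer_conj (Λ.T_N (by decide) hτ)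
        (ha.2 _ (mem_normalizer_conj' (Λ.T_N (by decide) hτ) hg))⟩)
  have XW : Λ.X 0 1 ≤ W := fun x hx => ⟨Λ.X_le_R hx, fun g hg => by
    rw [commutatorElement_eq_one_iff_mul_comm.2 (o.comm hx hg)]; exact one_mem _⟩
  have fin : ∀ {i j}, Nb i j → ∀ a ∈ Λ.X i j, a ≠ 1 → a ∈ W → Λ.Cm i j 2 3 := fun n a ha h3 h4 =>
    comm_eq_bot_iff.2 fun b hb g hg =>
      have h5 := Λ.irr n.1 nW ha h3 h4 hb
      comm_of_mem h5.1 (t_inv n hb) (by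
        rw [t, ← show Λ.z 2 3 = Λ.z 0 1 from Λ.z23]; exact Λ.fixX hg) (h5.2 g hg)
  have uW : u ∈ W := ⟨(sylow h₁ h₂).1.le hu, h2⟩
  have h3 : u ∈ Λ.X k l ⊔ (Λ.X i j ⊔ Λ.X 0 1) := by
    rw [sup_comm, sup_comm (Λ.X i j)]
    exact sup_le_sup (sup_le_sup_left l₁ _) l₂ hu
  obtain ⟨b, hb, w, hw, rfl⟩ := exists_mul_of_mem_sup (fun _ hx => N_sup (c.le_N hx) (c₂.le_N hx)) h3
  obtain ⟨a, ha, x, hx, rfl⟩ := exists_mul_of_mem_sup c₁.le_N hw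
  rw [← mul_assoc, mul_mem_cancel_right (XW hx)] at uW
  have h4 := mul_mem uW (inv_mem (mem_normalizer_conj (nW h₁.mem) uW))
  rw [← conj_mul, f₂ b hb, f₁, Λ.fixX ha, _root_.mul_inv_rev, inv_inv, mul_assoc,
    mul_inv_cancel_left] at h4
  have bW := mem_of_mul_self_mem (Λ.oddX hb) h4
  by_cases e : a = 1
  · exact .inr (fin n₂ b hb (fun e' => h1 (by rwa [e, e', one_mul, one_mul])) bW)
  · exact .inl (fin n₁ a ha e ((mul_mem_cancel_left bW).1 uW))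

theorem not_le_of_far (h : Λ.Far1) {V₁ V₂ : Subgroup G} (h₁ : Λ.Sd (Λ.z 1 2) V₁)
    (h₂ : Λ.Sd (Λ.z 0 2) V₂) : ¬ Λ.X 0 1 ⊔ V₁ ⊔ V₂ ≤ Λ.X 0 1 := fun hle => h fun g hg => by
  have XC : Λ.X 0 1 ≤ centralizer {Λ.t} := fun x hx =>
    mem_centralizer_singleton_iff.2 (mul_inv_eq_iff_eq_mul.1 (Λ.fixX hx)).symm
  have RC : Λ.R ≤ centralizer {Λ.t} := le_of_sd h₁ h₂ le_rfl (Λ.T_N_R (Λ.z_mem (by decide)))
    (Λ.T_N_R h₁.mem) (fun r _ hr => sup_le XC (fun τ hτ => mem_centralizer_singleton_iff.2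
      (Λ.comm _ hτ _ (Λ.z_mem (by decide)))) hr)
    (inf_le_right.trans ((le_sup_right.trans le_sup_left).trans (hle.trans XC)))
    (inf_le_right.trans (le_sup_right.trans (hle.trans XC)))
  have h1 := zstar hg
  have h2 := mem_centralizer_singleton_iff.1 (RC h1)
  have h3 := eq_one_of_fix_inv (R_odd h1) (mul_inv_eq_iff_eq_mul.2 h2.symm) (by
    have e : ∀ x, Λ.t * (Λ.t * x) = x := fun x => by rw [← mul_assoc, Λ.z_sq, one_mul]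
    simp only [_root_.mul_inv_rev, inv_inv, mul_assoc, Λ.z_inv, e])
  rw [mul_inv_eq_one, mul_inv_eq_iff_eq_mul] at h3
  exact mem_centralizer_singleton_iff.2 h3.symm

theorem typ (h : Λ.Cm 0 1 i j) (hn : Nb i j) : Λ.TA ∧ i = 0 ∨ Λ.TB ∧ j = 1 := by
  rcases (by decide : ∀ i j, Nb i j → (i = 0 ∧ 0 ≠ j ∧ 1 ≠ j) ∨ (j = 0 ∧ i ≠ 0 ∧ i ≠ 1) ∨
    (i = 1 ∧ 0 ≠ j ∧ 1 ≠ j) ∨ (j = 1 ∧ 0 ≠ i ∧ 1 ≠ i)) i j hn with
    ⟨rfl, a, b⟩ | ⟨rfl, a, b⟩ | ⟨rfl, a, b⟩ | ⟨rfl, a, b⟩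
  · exact .inl ⟨h.tA (by decide) a b, rfl⟩
  · exact (not_TC (h.symm.tC a b (by decide))).elim
  · exact (not_TC (h.tC (by decide) a b)).elim
  · exact .inr ⟨h.tB (by decide) a b, rfl⟩

theorem comp {a : G} {V : Subgroup G} (h : Λ.Sd a V) (hn : Nb i j) (hx : x ∈ Λ.X i j) (hV : x ∈ V) :
    x = 1 ∨ Λ.TA ∧ i = 0 ∨ Λ.TB ∧ j = 1 :=
  (em (x = 1)).imp_right fun e => typ (cm_of_le ((Λ.irr hn.1 h.norm hx e hV).trans h.le)) hn

theorem a3_of (hA : Λ.TA) (hB : Λ.TB) : Λ.A3 where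
  c1 i j l hij hil := by
    by_cases e : j = l
    · exact comm_eq_bot_iff.2 fun _ hx _ hy => Λ.X_comm hx (e ▸ hy)
    · exact hA i j l hij hil e
  c2 i j k hij hkj := by
    by_cases e : i = k
    · exact comm_eq_bot_iff.2 fun _ hx _ hy => Λ.X_comm hx (e ▸ hy)
    · exact hB i j k hij e hkj.symm
  c3 i j k hij hik hkj := by
    obtain ⟨π, h1, h2, h3⟩ := exists_perm3 hij hik hkj.symm
    exact comm_mo (comm_le (hA 0 1 2 (by decide) (by decide) (by decide)) (by decide)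
      (hB 0 1 2 (by decide) (by decide) (by decide)) (by decide))
      ⟨by decide, by decide, by decide, π, h1, h3, h3, h2, h1, h2⟩

/-- The shape of a piece for `q > 3`. -/
theorem shape (big : 3 < Nat.card F) {a : G} {V : Subgroup G} (h : Λ.Sd a V) {i j k l : Fin 4}
    (hV : V ≤ Λ.X i j ⊔ Λ.X k l) (n₁ : Nb i j) (n₂ : Nb k l)
    (e : i ≠ k ∧ j ≠ k ∧ i ≠ l ∧ j ≠ l) {H : Subgroup G}
    (k₁ : Λ.TA ∧ i = 0 ∨ Λ.TB ∧ j = 1 → Λ.X i j ≤ H) (k₂ : Λ.TA ∧ k = 0 ∨ Λ.TB ∧ l = 1 → Λ.X k l ≤ H) :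
    V ≤ H := fun y hy => by
  obtain ⟨x, hx, w, hw, rfl⟩ := exists_mul_of_mem_sup
    (Λ.cm_orth n₁.1 e.1 e.2.1 e.2.2.1 e.2.2.2 n₂.1).symm.le_N (hV hy)
  obtain ⟨h1, h2⟩ := Λ.split big n₁.1 e.1 e.2.1 e.2.2.1 e.2.2.2 n₂.1 h.norm hx hw hy
  exact mul_mem ((comp h n₁ hx h1).elim (fun e => e ▸ one_mem _) fun e => k₁ e hx)
    ((comp h n₂ hw h2).elim (fun e => e ▸ one_mem _) fun e => k₂ e hw)

theorem big_case (big : 3 < Nat.card F) (hf : Λ.Far1) : Λ.TA ∧ Λ.TB := by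
  obtain ⟨V₁, a, b, c, d, e₁, e₂, l₁, h₁⟩ := Λ.sd₁
  obtain ⟨V₂, a', b', c', d', e₃, e₄, l₂, h₂⟩ := Λ.sd₂
  have hne := not_le_of_far hf h₁ h₂
  have s₁ : ∀ H, (Λ.TA → Λ.X 0 3 ≤ H) → (Λ.TB → Λ.X 2 1 ≤ H) → V₁ ≤ H := fun H hA hB => by
    rcases e₁ with ⟨rfl, rfl⟩ | ⟨rfl, rfl⟩ <;> rcases e₂ with ⟨rfl, rfl⟩ | ⟨rfl, rfl⟩ <;>
      exact shape big h₁ l₁ (by decide) (by decide) (by decide) (by simp <;> assumption)
        (by simp <;> assumption)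
  have s₂ : ∀ H, (Λ.TA → Λ.X 0 2 ≤ H) → (Λ.TB → Λ.X 3 1 ≤ H) → V₂ ≤ H := fun H hA hB => by
    rcases e₃ with ⟨rfl, rfl⟩ | ⟨rfl, rfl⟩ <;> rcases e₄ with ⟨rfl, rfl⟩ | ⟨rfl, rfl⟩ <;>
      exact shape big h₂ l₂ (by decide) (by decide) (by decide) (by simp <;> assumption)
        (by simp <;> assumption)
  by_cases hA : Λ.TA <;> by_cases hB : Λ.TB
  · exact ⟨hA, hB⟩
  · exact (single h₁ h₂ hne (by decide) (by decide) (s₁ _ (fun _ => le_rfl) (hB · |>.elim))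
      (s₂ _ (fun _ => le_rfl) (hB · |>.elim)) (hA 0 1 3 (by decide) (by decide) (by decide))
      (hA 0 1 2 (by decide) (by decide) (by decide)) (hA 0 3 2 (by decide) (by decide) (by decide))
      (Λ.z_orth (by decide) (by decide) (by decide) (by decide) (by decide) (by decide))
      (fun _ hx => by
        rw [← Λ.z_symm (by decide)]; exact Λ.invX (by decide) (by decide) (by decide) hx)).elim
      (fun h => (hB (h.tB (by decide) (by decide) (by decide))).elim)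
      fun h => (not_TC (h.tC (by decide) (by decide) (by decide))).elim
  · exact (single h₁ h₂ hne (by decide) (by decide) (s₁ _ (hA · |>.elim) fun _ => le_rfl)
      (s₂ _ (hA · |>.elim) fun _ => le_rfl) (hB 0 1 2 (by decide) (by decide) (by decide))
      (hB 0 1 3 (by decide) (by decide) (by decide)) (hB 2 1 3 (by decide) (by decide) (by decide))
      (Λ.z_symm (by decide)) (fun _ => Λ.invX (by decide) (by decide) (by decide))).elim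
      (fun h => (hA (h.tA (by decide) (by decide) (by decide))).elim)
      fun h => (not_TC (h.symm.tC (by decide) (by decide) (by decide))).elim
  · exact (hne (sup_le (sup_le le_rfl (s₁ _ (hA · |>.elim) (hB · |>.elim)))
      (s₂ _ (hA · |>.elim) (hB · |>.elim)))).elim

omit [Finite G] in
theorem exists_comp (h3 : Nat.card F = 3) {V : Subgroup G} (c : Λ.Cm k l i j) (hkl : k ≠ l)
    (hV : V ≤ Λ.X i j ⊔ Λ.X k l) (hx : x ∈ V) (hy : y ∈ V) (h1 : x ≠ 1) (h2 : y ∉ zpowers x) :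
    ∃ w ∈ Λ.X i j, w ∈ V ∧ w ≠ 1 := by
  have := Fact.mk Nat.prime_three
  obtain ⟨a, ha, b, hb, rfl⟩ := exists_mul_of_mem_sup c.le_N (hV hx)
  obtain ⟨a', ha', b', hb', rfl⟩ := exists_mul_of_mem_sup c.le_N (hV hy)
  by_cases e : b = 1
  · exact ⟨_, by rwa [e, mul_one], hx, h1⟩
  obtain ⟨m, hm⟩ := mem_zpowers_of_prime_card ((Λ.card_X hkl).trans h3) (g := ⟨b, hb⟩)
    (g' := ⟨b', hb'⟩) (fun e' => e (congrArg Subtype.val e'))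
  have h4 : b ^ m = b' := congrArg Subtype.val hm
  refine ⟨_, ?_, mul_mem hy (inv_mem (zpow_mem hx m)), fun e' => h2 ⟨m, (mul_inv_eq_one.1 e').symm⟩⟩
  rw [Commute.mul_zpow (c.comm hb ha).symm, h4, _root_.mul_inv_rev, mul_assoc, mul_inv_cancel_left]
  exact mul_mem ha' (inv_mem (zpow_mem ha m))

theorem three_case (h3 : Nat.card F = 3) (hf : Λ.Far9) : Λ.TA ∧ Λ.TB := by
  obtain ⟨V, a, b, c, d, e₁, e₂, hV, h⟩ := Λ.sd₁
  obtain ⟨x, y, h1, h2, hx, hy⟩ := hf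
  have m : ∀ y, Λ.Neg y → y ∈ V := fun y hy => (h.iff y).2
    ⟨mem_R hy.2.1 (Λ.odd_char.of_dvd_nat (orderOf_dvd_of_pow_eq_one hy.1)) hy.2.2.2, hy.2.2⟩
  have k : ∀ {i j k l}, Nb i j → k ≠ l → i ≠ k ∧ j ≠ k ∧ i ≠ l ∧ j ≠ l → V ≤ Λ.X i j ⊔ Λ.X k l →
      Λ.TA ∧ i = 0 ∨ Λ.TB ∧ j = 1 := fun n hkl e hV => by
    obtain ⟨w, hw, h4, h5⟩ := exists_comp h3 (Λ.cm_orth n.1 e.1 e.2.1 e.2.2.1 e.2.2.2 hkl).symm hkl hV
      (m x hx) (m y hy) h1 h2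
    exact (comp h n hw h4).resolve_left h5
  have hV' := hV.trans (sup_comm _ _).le
  rcases e₁ with ⟨rfl, rfl⟩ | ⟨rfl, rfl⟩ <;> rcases e₂ with ⟨rfl, rfl⟩ | ⟨rfl, rfl⟩ <;>
    have k₁ := k (by decide) (by decide) (by decide) hV <;>
    have k₂ := k (by decide) (by decide) (by decide) hV' <;> simp at k₁ k₂
  exact ⟨k₂, k₁⟩

end LS4

theorem w5b : W5b.{u, v} := fun _ _ _ _ _ _ _ h =>
  (h.elim (fun h => LS4.big_case h.1 h.2) fun h => LS4.three_case h.1 h.2).elim LS4.a3_of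

end Cfsg.Lib.L45
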