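import Cfsg.Agent.L45.Inv
import Cfsg.Agent.L45.Cent
import Cfsg.Agent.L45.Syl
import Cfsg.Agent.L45.RSBase
import Cfsg.Agent.G2T.FWCAc
import Cfsg.Agent.G2T.FWCSl

/-!
# Recognition of `L₄(q)`: the local data in the centralizer of `t`
-/

set_option autoImplicit false

namespace Cfsg.Lib.L45

open Matrix Cfsg.Lib.Class Cfsg.Lib.Rank2.Lin Cfsg.Lib.Trans Subgroup Equiv
open scoped MatrixGroups commutatorElement

universe u v

variable {G : Type u} [Group G] {F : Type v} [Field F]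

theorem upper_dec {A : M2 F} (h : A.det ≠ 0) (h0 : A 1 0 = 0) :
    ∃ s : F, A = (slU s : M2 F) * dg (A 0 0) (A 1 1) := by
  have : A 1 1 ≠ 0 := fun e => h (by simp [det_fin_two, h0, e])
  refine ⟨A 0 1 / A 1 1, ?_⟩
  ext i j
  fin_cases i <;> fin_cases j <;> simp [dg, h0, this]

theorem lower_dec {A : M2 F} (h : A.det ≠ 0) (h0 : A 0 1 = 0) :
    ∃ s : F, A = (slV s : M2 F) * dg (A 0 0) (A 1 1) := by
  have : A 0 0 ≠ 0 := fun e => h (by simp [det_fin_two, h0, e])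
  refine ⟨A 1 0 / A 0 0, ?_⟩
  ext i j
  fin_cases i <;> fin_cases j <;> simp [dg, h0, this]

namespace LD

variable [Finite G] (L : LD G F) {W : Subgroup G} {A B : M2 F}

theorem ne00 (ho : ∀ x ∈ W, Odd (orderOf x)) (hT : ∀ τ ∈ L.T, ∀ x ∈ W, τ * x * τ⁻¹ ∈ W)
    (hC : W ≤ L.C) (h : Ok A B) (hm : L.P A B ∈ W) : A 0 0 ≠ 0 := fun h0 => by
  obtain ⟨c, hc, i, hi, c1, i1, e⟩ := G2T.exists_dec ho L.z_sq (hT _ L.z_mem_T) hm
  obtain ⟨a, b, a', b', k, rfl⟩ := FWR.mem_of_mul_self_mem (ho c hc) (L.mul_self_mem_T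
    (L.mem_B0.2 ⟨L.mem_C.1 (hC hc), (mul_inv_eq_iff_eq_mul.1 c1).symm⟩))
  obtain ⟨X, Y, hX, rfl⟩ := L.mem_Γ_of_odd (hC hi) (ho i hi)
  rw [L.mul (ok_dg k) hX, L.P_eq_iff' h ((ok_dg k).mul hX)] at e
  obtain ⟨μ, hμ, e, -⟩ := e
  have x0 : X 0 0 = 0 := by
    have := congrFun (congrFun e 0) 0
    have ha : a ≠ 0 := left_ne_zero_of_mul (left_ne_zero_of_mul_eq_one k)
    have hμ : μ ≠ 0 := fun e => by simp [e] at hμ
    simpa [h0, dg, vecMul, dotProduct, ha, hμ] using this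
  have x1 : X 0 1 * X 1 0 ≠ 0 := fun e => hX.ne₁ (by simp [det_fin_two, x0, e])
  have x2 : X 1 1 = 0 := by
    rw [eq_inv_iff_mul_eq_one, z, L.P_conj ok_z hX, L.mul (ok_z.conj hX) hX,
      L.eq_one ((ok_z.conj hX).mul hX), inv_mJ] at i1
    obtain ⟨ν, e, -⟩ := i1
    have := congrFun (congrFun e 0) 1
    simpa [mJ, mul_apply, vecMul, dotProduct, x0, left_ne_zero_of_mul x1] using this
  have x3 : X ^ 2 = (X 0 1 * X 1 0) • 1 := by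
    rw [sq, cayley, x0, x2, det_fin_two, x0]; simp
  obtain ⟨n, hn⟩ := ho _ hi
  have := pow_orderOf_eq_one (L.P X Y)
  rw [hn, (L.P_pow hX _).2, L.eq_one (L.P_pow hX _).1, pow_succ, pow_mul, x3] at this
  obtain ⟨ν, e, -⟩ := this
  have := congrFun (congrFun e 0) 1
  simp [_root_.smul_pow, left_ne_zero_of_mul x1, right_ne_zero_of_mul x1] at this

theorem tri (ho : ∀ x ∈ W, Odd (orderOf x)) (hT : ∀ τ ∈ L.T, ∀ x ∈ W, τ * x * τ⁻¹ ∈ W)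
    (hC : W ≤ L.C) : (∀ A B, Ok A B → L.P A B ∈ W → A 1 0 = 0) ∨
      ∀ A B, Ok A B → L.P A B ∈ W → A 0 1 = 0 := by
  by_contra hn
  push Not at hn
  obtain ⟨⟨A, B, h, hm, h1⟩, A', B', h', hm', h2⟩ := hn
  have a0 := L.ne00 ho hT hC h hm
  have a1 := L.ne00 ho hT hC h' hm'
  let α := -(A' 0 1 * A 1 0) / (A' 0 0 * A 0 0)
  have hα : α ≠ 0 := by simp [α, a0, a1, h1, h2]
  have k : α * 1 * (α⁻¹ * 1) = 1 := by simp [hα]
  have := mul_mem hm' (hT _ (L.dg_mem_T k) _ hm)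
  rw [L.P_conj (ok_dg k) h, L.mul h' ((ok_dg k).conj h)] at this
  refine L.ne00 ho hT hC (h'.mul ((ok_dg k).conj h)) this ?_
  rw [inv_dg hα one_ne_zero]
  simp only [dg, mul_apply, Fin.sum_univ_two, of_apply, cons_val', cons_val_zero, cons_val_one,
    cons_val_fin_one, α]
  field_simp
  ring

theorem tri' (ho : ∀ x ∈ W, Odd (orderOf x)) (hT : ∀ τ ∈ L.T, ∀ x ∈ W, τ * x * τ⁻¹ ∈ W)
    (hC : W ≤ L.C) : (∀ A B, Ok A B → L.P A B ∈ W → B 1 0 = 0) ∨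
      ∀ A B, Ok A B → L.P A B ∈ W → B 0 1 = 0 := by
  have k : ∀ {A B}, Ok A B → L.P A B ∈ W → L.P B A ∈ W.comap (MulAut.conj L.σ).toMonoidHom :=
    fun h hm => by
      change L.σ * _ * L.σ⁻¹ ∈ W
      rwa [L.σ_conj h.symm]
  refine (L.tri (W := W.comap (MulAut.conj L.σ).toMonoidHom) (fun x hx => ?_) (fun τ hτ x hx => ?_)
    fun x hx => ?_).imp (fun h A B h1 hm => h _ _ h1.symm (k h1 hm))
    fun h A B h1 hm => h _ _ h1.symm (k h1 hm)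
  · exact (MulAut.conj L.σ).orderOf_eq x ▸ ho _ hx
  · have := hT _ (mem_normalizer_conj L.σ_N hτ) _ hx
    change L.σ * _ * L.σ⁻¹ ∈ W
    convert this using 1
    simp [mul_assoc]
  · have : L.σ * x * L.σ⁻¹ ∈ L.C := hC hx
    simpa [mul_assoc] using mul_mem (mul_mem (inv_mem L.σ_mem_C) this) L.σ_mem_C

omit [Finite G] in
theorem P_dec {a b : SL(2, F)} {x y x' y' : F} (h : Ok ((a : M2 F) * dg x y) ((b : M2 F) * dg x' y')) :
    ∃ τ ∈ L.T, L.P ((a : M2 F) * dg x y) ((b : M2 F) * dg x' y') = L.φ1 a * L.φ3 b * τ := by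
  have k : x * y * (x' * y') = 1 := by simpa [Ok] using h
  exact ⟨_, L.dg_mem_T k, by rw [← L.P_sl, L.mul (ok_sl a b) (ok_dg k)]⟩

theorem dia3 (α : Fˣ) : ∃ τ ∈ L.T, Dia L.φ3 τ α := by
  have k : (α : F) * 1 * ((α : F)⁻¹ * 1) = 1 := by simp
  have e3 : cjh L.σ L.φ1 = L.φ3 := MonoidHom.ext fun x => L.σ_φ1 x
  exact ⟨_, mem_normalizer_conj L.σ_N (L.dg_mem_T k), e3 ▸ (L.dia_T k α (mul_one _)).cjh L.σ⟩

theorem fill3 (hT : L.T ≤ normalizer (W : Set G)) {a : SL(2, F)} (h1 : a ≠ 1)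
    (hp : a ^ ringChar F = 1) (hm : L.φ3 a ∈ W) (hz : L.z * L.φ3 a * L.z⁻¹ = (L.φ3 a)⁻¹) :
    (∀ s, L.φ3 (slU s) ∈ W) ∨ ∀ s, L.φ3 (slV s) ∈ W := by
  have := L.finF
  rw [z, L.conj_φ3 ok_z, ← map_inv, L.inj3.eq_iff] at hz
  have e := congrArg (fun x : SL(2, F) => (x : M2 F)) hz
  simp only [coe_cs] at e
  rw [show (-mJ : M2 F)⁻¹ = -mJ from inv_eq_right_inv (by simp), neg_mul, neg_mul_neg] at e
  refine (unip_J L.two_ne hp e).imp (fun ⟨r, e⟩ s => ?_) fun ⟨r, e⟩ s => ?_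
  all_goals
    subst e
    have hr : r ≠ 0 := fun e => h1 (by simp [e, slU_zero, slV_zero])
    by_cases hs : s = 0
    · simp [hs, slU_zero, slV_zero]
  · obtain ⟨τ, hτ, d⟩ := L.dia3 (Units.mk0 (s / r) (div_ne_zero hs hr))
    have := mem_normalizer_conj (hT hτ) hm
    rwa [d.1, Units.val_mk0, div_mul_cancel₀ _ hr] at this
  · obtain ⟨τ, hτ, d⟩ := L.dia3 (Units.mk0 (r / s) (div_ne_zero hr hs))
    have := mem_normalizer_conj (hT hτ) hm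
    rwa [d.2, Units.val_mk0, inv_div, div_mul_cancel₀ _ hr] at this

theorem core {r : G} (hr : r ∈ FWR.Rc (XU L.φ1)) (h : r ∈ L.C) : r ∈ XU L.φ1 ⊔ L.T := by
  have := L.finF
  obtain ⟨a, s, B, k, rfl⟩ := L.C_U1 one_ne_zero h ((Rc_le hr _ (mem_XU _ 1)).symm)
  have hN : ∀ b, L.φ3 b ∈ normalizer (FWR.Rc (XU L.φ1) : Set G) := fun b =>
    N_Rc (centralizer_le_normalizer _ (by rintro _ ⟨x, rfl⟩; exact L.comm13 _ _))
  have hc : ∀ b : SL(2, F), b * cs B k.ne₂ b⁻¹ = 1 := fun b => by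
    by_contra hne
    have hm : -1 ∈ (FWR.Rc (XU L.φ1)).comap L.φ3 := by
      refine G2T.neg_one_mem L.odd ⟨fun x hx g => ?_⟩ ?_ hne
      · rw [mem_comap, map_mul, map_mul, map_inv]
        exact mem_normalizer_conj (hN g) hx
      · have := mul_mem (mem_normalizer_conj (hN b) hr) (inv_mem hr)
        rw [mem_comap, map_mul, ← L.conj_φ3 k, map_inv]
        convert this using 1
        have e := L.comm13 (slU s) (cs B k.ne₂ b⁻¹)
        rw [← L.conj_φ3 k, map_inv] at e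
        calc _ = L.φ3 b * (L.P (a • 1) B * (L.φ3 b)⁻¹ * (L.P (a • 1) B)⁻¹ * L.φ1 (slU s)) *
            (L.φ1 (slU s))⁻¹ := by group
          _ = _ := by rw [← e]; group
    rw [mem_comap, L.φ3_neg_one] at hm
    have := (Rc_odd (A := XU L.φ1)).of_dvd_nat (orderOf_dvd_natCard _ hm)
    rw [L.orderOf_t] at this
    exact absurd this (by decide)
  have hB : ∀ b : SL(2, F), B * (b : M2 F) = (b : M2 F) * B := fun b => by
    have e := congrArg (fun x : SL(2, F) => (x : M2 F)) (eq_inv_of_mul_eq_one_right (hc b⁻¹))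
    simp only [inv_inv, coe_cs] at e
    rw [← e, inv_mul_cancel_right_m k.ne₂, e]
  have e1 := hB (slU 1)
  have e2 := congrFun (congrFun (hB (slV 1)) 0) 0
  have e3 := congrFun (congrFun e1 0) 0
  have e4 := congrFun (congrFun e1 0) 1
  simp [mul_apply] at e2 e3 e4
  have e5 : B = dg (B 0 0) (B 0 0) := by
    ext i j
    fin_cases i <;> fin_cases j <;> simp [dg, e2, e3]
    linear_combination -e4
  refine mul_mem_sup (mem_XU _ s) ?_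
  rw [e5, ← dg_self] at k ⊢
  exact L.dg_mem_T (by simpa [Ok] using k)

end LD

theorem w5l : W5l.{u, v} := by
  intro G _ _ F _ _ Φ Λ h
  have hX : Λ.X 0 1 = XU Φ.φ1 := congrArg XU h.φ01
  have hz : Λ.z 0 1 = Φ.t := by rw [RS4.z, h.φ01, Φ.φ1_neg_one]
  have hf : ∀ i j : Fin 4, i ≠ j → (Λ.φ i j).range = Φ.φ3.range →
      (∀ x ∈ Λ.X i j, Φ.z * x * Φ.z⁻¹ = x⁻¹) →
      (∀ s, Φ.φ3 (slU s) ∈ Λ.X i j) ∨ ∀ s, Φ.φ3 (slV s) ∈ Λ.X i j := fun i j hij e hi => by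
    obtain ⟨a, ha⟩ := e.le ⟨slU 1, rfl⟩
    refine Φ.fill3 (a := a) (h.T ▸ Λ.T_N hij) (fun e => Λ.U_ne hij one_ne_zero ?_) (Φ.inj3 ?_)
      (ha ▸ mem_XU _ _) (hi _ (ha ▸ mem_XU _ _))
    · rw [← ha, e, map_one]
    · rw [map_pow, ha, ← map_pow, slU_pow_ringChar, map_one, map_one]
  have h23 := hf 2 3 (by decide) h.r23 fun x hx => by
    rw [← h.z12, Λ.z_symm (i := 2) (j := 1) (by decide)]
    exact Λ.invX' (by decide) (by decide) (by decide) hx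
  have h32 := hf 3 2 (by decide) ((Λ.range_symm (by decide)).trans h.r23) fun x hx => by
    rw [← h.z12, Λ.z_symm (i := 2) (j := 1) (by decide)]
    exact Λ.invX (by decide) (by decide) (by decide) hx
  have hd : ∀ {a}, Φ.φ3 a ∈ Λ.X 2 3 → Φ.φ3 a ∈ Λ.X 3 2 → a = 1 := fun ⟨s, e⟩ h2 => by
    obtain ⟨s', e'⟩ := Λ.exists_slV (i := 2) (j := 3) (by decide) h2
    have := Λ.inj' (i := 2) (j := 3) (by decide) (e.trans e')
    have := congrArg (fun x : SL(2, F) => (x : M2 F) 0 1) this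
    simp only [coe_slU, coe_slV, of_apply, cons_val', cons_val_one, cons_val_fin_one,
      cons_val_zero] at this
    rw [this, slU_zero, map_one, eq_comm, ← map_one Φ.φ3] at e
    exact Φ.inj3 e
  have hU : ∃ O ∈ ({Λ.X 2 3, Λ.X 3 2} : Set (Subgroup G)), ∀ s, Φ.φ3 (slU s) ∈ O := by
    rcases h23 with k | k
    · exact ⟨_, .inl rfl, k⟩
    refine ⟨_, .inr rfl, h32.resolve_right fun k' => ?_⟩
    simpa using congrArg (fun x : SL(2, F) => (x : M2 F) 1 0) (hd (k 1) (k' 1))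
  have hV : ∃ O ∈ ({Λ.X 2 3, Λ.X 3 2} : Set (Subgroup G)), ∀ s, Φ.φ3 (slV s) ∈ O := by
    rcases h23 with k | k
    swap
    · exact ⟨_, .inl rfl, k⟩
    refine ⟨_, .inr rfl, h32.resolve_left fun k' => ?_⟩
    simpa using congrArg (fun x : SL(2, F) => (x : M2 F) 0 1) (hd (k 1) (k' 1))
  refine ⟨⟨Λ, fun v hv h1 h2 => ?_, fun r hr h1 => ?_, fun W ho hT hC => ?_⟩, rfl⟩
  · rw [hz] at h1 h2 ⊢
    exact Φ.toL1.iso one_ne_zero (hv _ (hX ▸ mem_XU _ 1)).symm h1 h2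
  · rw [hX, h.T]
    exact Φ.core (hX ▸ hr) (Φ.mem_C.2 (hz ▸ h1))
  have ho' : ∀ x ∈ W, Odd (orderOf x) := fun x hx => ho.of_dvd_nat (orderOf_dvd_natCard _ hx)
  have hT' : ∀ τ ∈ Φ.T, ∀ x ∈ W, τ * x * τ⁻¹ ∈ W := fun τ hτ x hx =>
    mem_normalizer_conj (hT (h.T ▸ hτ)) hx
  rw [hz] at hC
  obtain ⟨E, hE, h1⟩ : ∃ E ∈ ({Λ.X 0 1, Λ.X 1 0} : Set (Subgroup G)), ∀ A B, Ok A B →
      Φ.P A B ∈ W → ∃ a : SL(2, F), Φ.φ1 a ∈ E ∧ A = (a : M2 F) * dg (A 0 0) (A 1 1) := by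
    rcases Φ.tri ho' hT' hC with k | k
    · exact ⟨_, .inl rfl, fun A B h1 hm => (upper_dec h1.ne₁ (k A B h1 hm)).elim fun s e =>
        ⟨_, hX ▸ mem_XU _ s, e⟩⟩
    · exact ⟨_, .inr rfl, fun A B h1 hm => (lower_dec h1.ne₁ (k A B h1 hm)).elim fun s e =>
        ⟨_, h.φ01 ▸ Λ.slV_mem' (by decide) s, e⟩⟩
  obtain ⟨O, hO, h3⟩ : ∃ O ∈ ({Λ.X 2 3, Λ.X 3 2} : Set (Subgroup G)), ∀ A B, Ok A B →
      Φ.P A B ∈ W → ∃ a : SL(2, F), Φ.φ3 a ∈ O ∧ B = (a : M2 F) * dg (B 0 0) (B 1 1) := by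
    rcases Φ.tri' ho' hT' hC with k | k
    · obtain ⟨O, hO, k'⟩ := hU
      exact ⟨O, hO, fun A B h1 hm => (upper_dec h1.ne₂ (k A B h1 hm)).elim fun s e => ⟨_, k' s, e⟩⟩
    · obtain ⟨O, hO, k'⟩ := hV
      exact ⟨O, hO, fun A B h1 hm => (lower_dec h1.ne₂ (k A B h1 hm)).elim fun s e => ⟨_, k' s, e⟩⟩
  refine ⟨E, hE, O, hO, fun x hx => ?_⟩
  obtain ⟨A, B, k, rfl⟩ := Φ.mem_Γ_of_odd (hC hx) (ho' x hx)
  obtain ⟨a, ha, e1⟩ := h1 A B k hx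
  obtain ⟨b, hb, e3⟩ := h3 A B k hx
  rw [e1, e3] at k ⊢
  obtain ⟨τ, hτ, e⟩ := Φ.P_dec k
  rw [e]
  exact mul_mem_sup (mul_mem_sup ha hb) (h.T ▸ hτ)

end Cfsg.Lib.L45
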