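import Cfsg.Agent.L45.RSBase
import Cfsg.Agent.Rank2.LinNat
import Cfsg.Agent.Chev.LaceNorm
import Cfsg.Agent.Class.SLCenter
import Cfsg.Agent.Trans.Quasisimple

/-!
# Recognition of `L₄(q)`: from the commutator relations to the Curtis–Tits system
-/

set_option autoImplicit false

namespace Cfsg.Lib.L45

open Matrix Cfsg.Lib.Class Cfsg.Lib.Rank2.Lin Cfsg.Lib.Trans Subgroup
open scoped MatrixGroups commutatorElement

universe u v

variable {G : Type u} [Group G] {F : Type v} [Field F]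

theorem range_sl3 [Finite F] (f : SL(3, F) →* G) (h : f.ker ≠ ⊤) :
    Nonempty (f.range ≃* SL(3, F)) ∨ Nonempty (f.range ≃* PSL(3, F)) := by
  have q : IsQuasisimple SL(3, F) :=
    ⟨⟨SL_commutator_eq_top (by simp)⟩, PSL_isSimpleGroup (ι := Fin 3) (F := F) (by simp)⟩
  have h1 := (IsQuasisimple.eq_top_or_le_center q _ inferInstance).resolve_left h
  by_cases h2 : f.ker = ⊥
  · exact Or.inl ⟨(MonoidHom.ofInjective ((MonoidHom.ker_eq_bot_iff f).1 h2)).symm⟩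
  have h3 : Nat.card (center SL(3, F)) ∣ 3 := by
    rw [card_center_SL (by simp), Fintype.card_fin]
    exact Nat.gcd_dvd_left _ _
  have h4 : Nat.card f.ker = 3 :=
    ((Nat.dvd_prime Nat.prime_three).1 ((card_dvd_of_le h1).trans h3)).resolve_left
      fun e => h2 (card_eq_one.1 e)
  have h5 : f.ker = center SL(3, F) :=
    eq_of_le_of_card_ge h1 (by rw [h4]; exact Nat.le_of_dvd (by norm_num) h3)
  exact Or.inr ⟨(QuotientGroup.quotientKerEquivRange f).symm.trans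
    (QuotientGroup.quotientMulEquivOfEq h5)⟩

namespace RS4

variable {Λ : RS4 G F} {i j k l : Fin 4} {x y : G}

theorem cj_Ns (Λ : RS4 G F) {a b : Fin 4} (h : i ≠ j) (hab : a ≠ b) (s : Fˣ) (hx : x ∈ Λ.X a b) :
    Λ.φ i j (slN s) * x * (Λ.φ i j (slN s))⁻¹ ∈ Λ.X (Equiv.swap i j a) (Equiv.swap i j b) := by
  rw [show slN s = slH s * slN 1 from Subtype.ext (by simp), map_mul,
    show ∀ p q : G, p * q * x * (p * q)⁻¹ = p * (q * x * q⁻¹) * p⁻¹ from fun p q => by group]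
  refine mem_normalizer_conj (Λ.T_N ((Equiv.swap i j).injective.ne hab) (Λ.H' h s)) ?_
  rw [← Λ.cj_N h hab]
  exact conj_mem_cj.2 hx

theorem disj_of (Λ : RS4 G F) {a b c d : Fin 4} (h : ∀ x ∈ Λ.X c d, Λ.z a b * x * (Λ.z a b)⁻¹ = x⁻¹) :
    Λ.X a b ⊓ Λ.X c d = ⊥ := eq_bot_iff.2 fun x hx => by
  have e := (Λ.fixX hx.1).symm.trans (h x hx.2)
  obtain ⟨n, hn⟩ := Λ.oddX hx.1
  have := pow_orderOf_eq_one x
  rwa [hn, pow_succ, pow_mul, sq, ← eq_inv_iff_mul_eq_one.1 e.symm.symm, eq_inv_iff_mul_eq_one.1 e,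
    one_pow, one_mul] at this

namespace A3

variable (h : Λ.A3)
include h

theorem m1 (hij : i ≠ j) (hil : i ≠ l) (hx : x ∈ Λ.X i j) (hy : y ∈ Λ.X i l) : x * y = y * x :=
  FWR.comm_eq_bot_iff.1 (h.c1 i j l hij hil) x hx y hy

theorem m2 (hij : i ≠ j) (hkj : k ≠ j) (hx : x ∈ Λ.X i j) (hy : y ∈ Λ.X k j) : x * y = y * x :=
  FWR.comm_eq_bot_iff.1 (h.c2 i j k hij hkj) x hx y hy

theorem m3 (hij : i ≠ j) (hik : i ≠ k) (hkj : k ≠ j) (hx : x ∈ Λ.X i k) (hy : y ∈ Λ.X k j) :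
    x * y * x⁻¹ * y⁻¹ ∈ Λ.X i j :=
  h.c3 i j k hij hik hkj (commutator_mem_commutator hx hy)

theorem m4 (hij : i ≠ j) (hik : i ≠ k) (hkj : k ≠ j) (hx : x ∈ Λ.X i k) (hy : y ∈ Λ.X k j) :
    y * x * y⁻¹ * x⁻¹ ∈ Λ.X i j := by
  simpa [mul_assoc] using inv_mem (h.m3 hij hik hkj hx hy)

theorem natPair (hij : i ≠ j) (hik : i ≠ k) (hjk : j ≠ k) :
    NatPair (Λ.φ i j) (Λ.X i k) (Λ.X j k) where
  UA s _ hg := h.m1 hij hik (mem_XU _ s) hg
  VB s _ hg := h.m1 hij.symm hjk (Λ.slV_mem' hij s) hg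
  AA _ hx _ hy := Λ.X_comm hy hx
  AB _ hx _ hy := h.m2 hjk hik hy hx
  UB s _ hg := h.m3 hik hij hjk (mem_XU _ s) hg
  VA s _ hg := h.m3 hjk hij.symm hik (Λ.slV_mem' hij s) hg
  NA s _ hg := by
    simpa [Equiv.swap_apply_of_ne_of_ne hik.symm hjk.symm] using Λ.cj_Ns hij hik s hg
  NB s _ hg := by
    simpa [Equiv.swap_apply_of_ne_of_ne hik.symm hjk.symm] using Λ.cj_Ns hij hjk s hg
  disj := Λ.disj_of fun x hx => by
    rw [← Λ.z_symm hik]; exact Λ.invX hjk hij.symm hik.symm hx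
  card := Λ.card_X hik

theorem natPair' (hij : i ≠ j) (hik : i ≠ k) (hjk : j ≠ k) :
    NatPair (Λ.φ i j) (Λ.X k j) (Λ.X k i) where
  UA s _ hg := h.m2 hij hjk.symm (mem_XU _ s) hg
  VB s _ hg := h.m2 hij.symm hik.symm (Λ.slV_mem' hij s) hg
  AA _ hx _ hy := Λ.X_comm hy hx
  AB _ hx _ hy := h.m1 hik.symm hjk.symm hy hx
  UB s _ hg := h.m4 hjk.symm hik.symm hij hg (mem_XU _ s)
  VA s _ hg := h.m4 hik.symm hjk.symm hij.symm hg (Λ.slV_mem' hij s)
  NA s _ hg := by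
    simpa [Equiv.swap_apply_of_ne_of_ne hik.symm hjk.symm] using Λ.cj_Ns hij hjk.symm s hg
  NB s _ hg := by
    simpa [Equiv.swap_apply_of_ne_of_ne hik.symm hjk.symm] using Λ.cj_Ns hij hik.symm s hg
  disj := Λ.disj_of fun x hx => Λ.invX' hik.symm hjk.symm hij hx
  card := Λ.card_X hjk.symm

omit h in
theorem exists_scal {B A' : Subgroup G} {a b a₁ b₁ : F → G} (hij : i ≠ j) (hik : i ≠ k)
    (P : NatPar (Λ.φ i j) (Λ.X i k) B a b) (P' : NatPar (Λ.φ i k) (Λ.X i j) A' a₁ b₁) {l : F}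
    (hl : l ≠ 0) : ∃ ν : F, ∀ r, ∀ g ∈ A', a 1 * g * (a 1)⁻¹ * g⁻¹ = Λ.φ i j (slU r) →
      a l * g * (a l)⁻¹ * g⁻¹ = Λ.φ i j (slU (ν * r)) := by
  obtain ⟨r₁, e₁⟩ := P.a_mem 1
  obtain ⟨r₂, e₂⟩ := P.a_mem l
  have h1 : r₁ ≠ 0 := fun e => P.a_ne one_ne_zero (by rw [← e₁, e, slU_zero, map_one])
  have h2 : r₂ ≠ 0 := fun e => P.a_ne hl (by rw [← e₂, e, slU_zero, map_one])
  obtain ⟨ν, h3⟩ := Λ.act' hij (Λ.H' hik (Units.mk0 (r₂ / r₁) (div_ne_zero h2 h1)))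
  refine ⟨ν, fun r g hg e => ?_⟩
  obtain ⟨s, rfl⟩ := P'.b_surj g hg
  rw [← e₁, P'.U_b, mul_inv_cancel_right] at e
  have h4 := h3.1 r
  rw [← e, P'.H_a] at h4
  rw [← e₂, P'.U_b, mul_inv_cancel_right]
  simpa [← mul_assoc, h1] using h4

theorem exists_stA [Finite F] (hij : i ≠ j) (hik : i ≠ k) (hjk : j ≠ k) :
    ∃ e : Fin 3 → Fin 3 → F → G, Chev.StA e ∧ ∀ a b, a ≠ b → ∀ g,
      g ∈ Λ.X (![i, j, k] a) (![i, j, k] b) ↔ ∃ s, e a b s = g := by
  obtain ⟨a, b, P⟩ := (h.natPair hij hik hjk).exists_par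
  obtain ⟨a₁, b₁, P₁⟩ := (h.natPair hik hij hjk.symm).exists_par
  obtain ⟨a', b', P'⟩ := (h.natPair' hij hik hjk).exists_par
  have U_inj : ∀ {s t : F}, Λ.φ i j (slU s) = Λ.φ i j (slU t) → s = t := fun e =>
    slU_inj (Λ.inj' hij e)
  have k0 : ∀ s t, ∃ r, Λ.φ i j (slU r) = a s * a' t * (a s)⁻¹ * (a' t)⁻¹ := fun s t =>
    h.m3 hij hik hjk.symm (P.a_mem s) (P'.a_mem t)
  choose β hβ using k0
  have k1 : β 1 1 ≠ 0 := fun e => by
    obtain ⟨r, e₁⟩ := P.a_mem 1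
    obtain ⟨s, e₂⟩ := P₁.b_surj _ (P'.a_mem 1)
    have h3 := hβ 1 1
    rw [e, slU_zero, map_one, ← e₁, ← e₂, P₁.U_b, mul_inv_cancel_right] at h3
    refine P₁.a_ne (mul_ne_zero (fun e => P.a_ne one_ne_zero (by rw [← e₁, e, slU_zero, map_one]))
      fun e => P'.a_ne one_ne_zero ?_) h3.symm
    rw [← e₂, e, P₁.b_eq, P₁.a_zero]; group
  have k2 := bilin (β := β) (fun s s' t => U_inj (by
      rw [add_comm (β s t), slU_add, map_mul, ← mul_inv_cancel_right (Λ.φ i j (slU (β s' t))) (a s),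
        h.m1 hij hik (mem_XU _ _) (P.a_mem s), hβ, hβ, hβ, P.a_add]
      group))
    (fun s t t' => U_inj (by
      rw [slU_add, map_mul, ← mul_inv_cancel_right (Λ.φ i j (slU (β s t'))) (a' t),
        h.m2 hij hjk.symm (mem_XU _ _) (P'.a_mem t), hβ, hβ, hβ, P'.a_add]
      group))
    (fun μ => U_inj (by
      by_cases hμ : μ = 0
      · simp [hβ, hμ, P.a_zero, slU_zero]
      lift μ to Fˣ using Ne.isUnit hμ
      rw [← slH_slU, map_mul, map_mul, map_inv, hβ, hβ, ← mul_one (μ : F), ← P.H_a, ← P'.H_a]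
      group))
    (fun l => by
      by_cases hl : l = 0
      · exact ⟨0, fun t => U_inj (by simp [hβ, hl, P.a_zero, slU_zero])⟩
      obtain ⟨ν, h3⟩ := exists_scal hij hik P P₁ hl
      exact ⟨ν, fun t => U_inj ((hβ l t).trans (h3 _ _ (P'.a_mem t) (hβ 1 t).symm))⟩) k1
  have k3 : ∀ s t, a s * a' ((β 1 1)⁻¹ * t) =
      Λ.φ i j (slU (s * t)) * a' ((β 1 1)⁻¹ * t) * a s := fun s t => by
    rw [show s * t = β s ((β 1 1)⁻¹ * t) by rw [k2]; field_simp, hβ]; group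
  have k4 : ∀ s t, b s * b' (-((β 1 1)⁻¹ * t)) =
      Λ.φ i j (slV (s * t)) * b' (-((β 1 1)⁻¹ * t)) * b s := fun s t => by
    rw [P.b_eq, P'.b_eq, conj_mul, ← mul_neg, k3, ← neg_neg (s * t), ← slN_slU, map_mul, map_mul,
      map_inv, mul_neg s]
    group
  obtain ⟨e, he⟩ : ∃ e : Fin 3 → Fin 3 → F → G, e =
    ![![fun _ => 1, fun s => Λ.φ i j (slU s), a], ![fun s => Λ.φ i j (slV s), fun _ => 1, b],
      ![fun s => b' (-((β 1 1)⁻¹ * s)), fun s => a' ((β 1 1)⁻¹ * s), fun _ => 1]] := ⟨_, rfl⟩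
  have mem : ∀ a b, a ≠ b → ∀ g, g ∈ Λ.X (![i, j, k] a) (![i, j, k] b) ↔ ∃ s, e a b s = g := by
    intro c d hcd g
    subst he
    fin_cases c <;> fin_cases d <;> try contradiction
    · exact Iff.rfl
    · exact ⟨P.a_surj g, fun ⟨s, e⟩ => e ▸ P.a_mem s⟩
    · exact ⟨fun hg => (Λ.exists_slV hij hg).imp fun _ e => e.symm,
        fun ⟨s, e⟩ => e ▸ Λ.slV_mem' hij s⟩
    · exact ⟨P.b_surj g, fun ⟨s, e⟩ => e ▸ P.b_mem s⟩
    · exact ⟨fun hg => (P'.b_surj g hg).elim fun s e => ⟨-(β 1 1 * s), by simpa [k1] using e⟩,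
        fun ⟨s, e⟩ => e ▸ P'.b_mem _⟩
    · exact ⟨fun hg => (P'.a_surj g hg).elim fun s e => ⟨β 1 1 * s, by simpa [k1] using e⟩,
        fun ⟨s, e⟩ => e ▸ P'.a_mem _⟩
  have ne : ∀ {c d : Fin 3}, c ≠ d → ![i, j, k] c ≠ ![i, j, k] d := fun {c d} hcd => by
    fin_cases c <;> fin_cases d <;> try contradiction
    exacts [hij, hik, hij.symm, hjk, hik.symm, hjk.symm]
  refine ⟨e, ⟨fun c d hcd s t => ?_, fun c d f h1 h2 h3 s t => ?_,
    fun c d f g h1 h2 h3 h4 s t => ?_⟩, mem⟩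
  · subst he
    fin_cases c <;> fin_cases d <;>
      simp [slU_add, slV_add, P.a_add, P.b_add, P'.a_add, mul_add, ← P'.b_add, add_comm]
  · subst he
    fin_cases c <;> fin_cases d <;> fin_cases f <;> try contradiction
    · exact mul_inv_eq_iff_eq_mul.1 (P.U_b s t)
    · exact k3 s t
    · exact mul_inv_eq_iff_eq_mul.1 (P.V_a s t)
    · exact k4 s t
    · simpa [mul_left_comm, mul_comm, mul_assoc] using P'.b_U (-((β 1 1)⁻¹ * s)) t
    · simpa [mul_left_comm, mul_comm, mul_assoc] using P'.a_V ((β 1 1)⁻¹ * s) t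
  · have m1 := (mem c d h1 _).2 ⟨s, rfl⟩
    have m2 := (mem f g h2 _).2 ⟨t, rfl⟩
    rcases (by decide : ∀ c d f g : Fin 3, c ≠ d → f ≠ g → d ≠ f → c ≠ g → c = f ∨ d = g)
      c d f g h1 h2 h3 h4 with rfl | rfl
    exacts [h.m1 (ne h1) (ne h2) m1 m2, h.m2 (ne h1) (ne h2) m1 m2]

theorem sl3 [Finite F] (hij : i ≠ j) (hik : i ≠ k) (hjk : j ≠ k) :
    Nonempty (↥((Λ.φ i j).range ⊔ (Λ.φ j k).range) ≃* SL(3, F)) ∨
      Nonempty (↥((Λ.φ i j).range ⊔ (Λ.φ j k).range) ≃* PSL(3, F)) := by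
  obtain ⟨e, he, mem⟩ := h.exists_stA hij hik hjk
  obtain ⟨f, hf⟩ := Known.stA_exists_hom he (by simp)
  have l : ∀ c d, c ≠ d → Λ.X (![i, j, k] c) (![i, j, k] d) ≤ f.range := fun c d hcd g hg => by
    obtain ⟨s, rfl⟩ := (mem c d hcd g).1 hg
    exact ⟨_, hf c d s hcd⟩
  have e1 : (Λ.φ i j).range ⊔ (Λ.φ j k).range = f.range := by
    refine le_antisymm ?_ ?_
    · rw [Λ.range_eq hij, Λ.range_eq hjk]
      exact sup_le (sup_le (l 0 1 (by decide)) (l 1 0 (by decide)))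
        (sup_le (l 1 2 (by decide)) (l 2 1 (by decide)))
    have a1 : Λ.X i j ⊔ Λ.X j i ≤ (Λ.φ i j).range ⊔ (Λ.φ j k).range :=
      (Λ.range_eq hij).ge.trans le_sup_left
    have a2 : Λ.X j k ⊔ Λ.X k j ≤ (Λ.φ i j).range ⊔ (Λ.φ j k).range :=
      (Λ.range_eq hjk).ge.trans le_sup_right
    have a3 : Λ.φ j k (slN 1) ∈ (Λ.φ i j).range ⊔ (Λ.φ j k).range := mem_sup_right ⟨_, rfl⟩
    have a4 := cj_le_of_mem_of_le a3 (le_sup_left.trans a1)
    have a5 := cj_le_of_mem_of_le a3 (le_sup_right.trans a1)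
    rw [Λ.cj_N hjk hij, Equiv.swap_apply_left, Equiv.swap_apply_of_ne_of_ne hij hik] at a4
    rw [Λ.cj_N hjk hij.symm, Equiv.swap_apply_left, Equiv.swap_apply_of_ne_of_ne hij hik] at a5
    rintro _ ⟨g, rfl⟩
    refine (Chev.closure_slE (((Λ.φ i j).range ⊔ (Λ.φ j k).range).comap f) fun c d hcd t => ?_).ge
      (mem_top g)
    have := (mem c d hcd _).2 ⟨t, rfl⟩
    rw [mem_comap, hf c d t hcd]
    fin_cases c <;> fin_cases d <;> try contradiction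
    exacts [a1 (mem_sup_left this), a4 this, a1 (mem_sup_right this), a2 (mem_sup_left this),
      a5 this, a2 (mem_sup_right this)]
  rw [e1]
  refine range_sl3 f fun e => Λ.U_ne hij (one_ne_zero (α := F)) ?_
  obtain ⟨g, hg⟩ := l 0 1 (by decide) (mem_XU _ 1)
  exact hg.symm.trans (e.ge (mem_top g))

end A3

end RS4

theorem w6a : W6a.{u, v} := by
  intro G _ _ F _ _ Λ h
  have := Fintype.ofFinite F
  have ne : ∀ i : Fin 3, i.castSucc ≠ i.succ := fun i => Fin.castSucc_lt_succ.ne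
  let R : Fin 3 → Subgroup G := fun i => (Λ.φ i.castSucc i.succ).range
  have le : ∀ i, R i ≤ Λ.G0 := fun i => Λ.range_le (ne i)
  let z : Fin 3 → Λ.G0 := fun i => ⟨Λ.z i.castSucc i.succ, le i ⟨_, rfl⟩⟩
  have hz : ∀ i, z i ∈ (R i).subgroupOf Λ.G0 ∧
      z i ∈ centralizer (((R i).subgroupOf Λ.G0 : Subgroup Λ.G0) : Set Λ.G0) ∧ z i ≠ 1 ∧
      z i * z i = 1 := fun i => ⟨⟨_, rfl⟩, fun g ⟨s, hs⟩ => Subtype.ext (by
        change (g : G) * Λ.z _ _ = Λ.z _ _ * g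
        rw [show (g : G) = _ from hs.symm, Λ.z_comm_map]),
      fun e => Λ.z_ne_one (ne i) (congrArg Subtype.val e), Subtype.ext (Λ.z_sq _ _)⟩
  have zc : ∀ i j, z i * z j = z j * z i := fun i j => Subtype.ext (Λ.z_comm (ne i) (ne j))
  have key : ∀ i j, Nonempty (↥(R i ⊔ R j) ≃* SL(3, F)) ∨ Nonempty (↥(R i ⊔ R j) ≃* PSL(3, F)) →
      Nonempty (↥((R i).subgroupOf Λ.G0 ⊔ (R j).subgroupOf Λ.G0) ≃* SL(3, F)) ∨
        Nonempty (↥((R i).subgroupOf Λ.G0 ⊔ (R j).subgroupOf Λ.G0) ≃* PSL(3, F)) := fun i j k => by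
    rw [← subgroupOf_sup (le i) (le j)]
    have e := subgroupOfEquivOfLe (sup_le (le i) (le j))
    exact k.imp (fun ⟨f⟩ => ⟨e.trans f⟩) fun ⟨f⟩ => ⟨e.trans f⟩
  have s01 : _ ∨ _ := key 0 1 (h.sl3 (i := 0) (j := 1) (k := 2) (by decide) (by decide) (by decide))
  have s12 : _ ∨ _ := key 1 2 (h.sl3 (i := 1) (j := 2) (k := 3) (by decide) (by decide) (by decide))
  have z20 : z 2 = z 0 := Subtype.ext Λ.z23
  have c4 : Nat.card (closure (Set.range z)) ≤ 4 := by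
    have e : closure (Set.range z) = zpowers (z 0) ⊔ zpowers (z 1) := by
      rw [zpowers_eq_closure, zpowers_eq_closure, ← Subgroup.closure_union]
      congr 1
      ext x
      simp only [Set.mem_range, Set.mem_union, Set.mem_singleton_iff]
      constructor
      · rintro ⟨i, rfl⟩
        fin_cases i
        exacts [Or.inl rfl, Or.inr rfl, Or.inl z20]
      · rintro (rfl | rfl) <;> exact ⟨_, rfl⟩
    rw [e, Gold.Tl.card_zpowers_sup (hz 0).2.2.2 (hz 0).2.2.1 (hz 1).2.2.2 (hz 1).2.2.1 (fun e =>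
      Λ.z_ne_one (i := 0) (j := 2) (by decide) (by
        rw [RS4.z, ← Λ.zmul, show Λ.φ 1 2 (-1) = Λ.φ 0 1 (-1) from congrArg Subtype.val e]
        exact Λ.z_sq 0 1)) (zc 1 0)]
  obtain ⟨p, m, hl, hg⟩ := Chev.exists_lace (G := Λ.G0) (Nat.card_eq_fintype_card (α := F) ▸ Λ.odd)
    (Adj := fun i j : Fin 3 => j.val = i.val + 1 ∨ i.val = j.val + 1)
    ![0, 0, 1] Fin.val 0 ⟨1, Or.inl rfl⟩ (by decide) (fun i j h => h.symm)
    (by decide) (by decide) (fun i => (R i).subgroupOf Λ.G0)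
    (fun i => (MonoidHom.ofInjective (Λ.inj' (ne i))).trans (subgroupOfEquivOfLe (le i)).symm)
    (by
      rw [eq_top_iff, ← subgroupOf_self]
      change (R 0 ⊔ R 1 ⊔ R 2).subgroupOf Λ.G0 ≤ _
      rw [subgroupOf_sup (sup_le (le 0) (le 1)) (le 2), subgroupOf_sup (le 0) (le 1)]
      exact sup_le (sup_le (le_iSup (fun i => (R i).subgroupOf Λ.G0) 0)
        (le_iSup (fun i => (R i).subgroupOf Λ.G0) 1)) (le_iSup (fun i => (R i).subgroupOf Λ.G0) 2))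
    z hz
    (fun i j _ a => by
      fin_cases i <;> fin_cases j <;> try (exact absurd a (by decide))
      · exact s01
      · rw [sup_comm]; exact s01
      · exact s12
      · rw [sup_comm]; exact s12)
    (fun i j h1 h2 a ha b hb => Subtype.ext (by
      fin_cases i <;> fin_cases j <;> try (first | exact absurd rfl h1 | exact (h2 (by decide)).elim)
      · exact Λ.orth' (i := 0) (j := 1) (k := 2) (l := 3) (by decide) (by decide) (by decide)
          (by decide) (by decide) (by decide) ha hb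
      · exact (Λ.orth' (i := 0) (j := 1) (k := 2) (l := 3) (by decide) (by decide) (by decide)
          (by decide) (by decide) (by decide) hb ha).symm))
    zc _ rfl
    (fun i => by
      have h1 := card_mul_index ((closure (Set.range z) ⊓ centralizer
        (((R i).subgroupOf Λ.G0 : Subgroup Λ.G0) : Set Λ.G0)).subgroupOf (closure (Set.range z)))
      have h2 := (one_lt_card_iff_ne_bot ((closure (Set.range z) ⊓ centralizer
        (((R i).subgroupOf Λ.G0 : Subgroup Λ.G0) : Set Λ.G0)).subgroupOf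
          (closure (Set.range z)))).2 (ne_bot_iff_exists_ne_one.2
        ⟨⟨⟨z i, subset_closure ⟨i, rfl⟩⟩, subset_closure ⟨i, rfl⟩, (hz i).2.1⟩, fun e =>
          (hz i).2.2.1 (congrArg (fun x => x.1.1) e)⟩)
      nlinarith)
  exact Chev.sl_lace_exists_hom_quotient (n := 3) (by norm_num) hl hg

end Cfsg.Lib.L45
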