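import Cfsg.Agent.L45.Aut

/-!
# Recognition of `L₄(q)`: the flipped frame
-/

set_option autoImplicit false

namespace Cfsg.Lib.L45

open Matrix Cfsg.Lib.Class Cfsg.Lib.Rank2.Lin Cfsg.Lib.Trans Subgroup
open scoped MatrixGroups

universe u v

variable {G : Type u} [Group G] {F : Type v} [Field F]

theorem LD.flip_sw (L : LD G F) {A : M2 F} (hA : A.det ≠ 0) :
    L.flip.P A A⁻¹ * L.flip.σ = L.P (A * mJ) (A * mJ)⁻¹ * L.σ := by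
  have h : Ok A (mJ * A⁻¹ * mJ) := by
    rw [Ok, det_mul, det_mul, det_mJ, det_inv_m]; field_simp
  rw [L.flip_P, L.flip_σ, L.tz_eq, L.P_mul_sw h ok_JJ, mul_assoc (mJ * A⁻¹), mJ_mJ, mul_one,
    Matrix.mul_inv_rev, inv_mJ]

theorem LD.flip_ZC (L : LD G F) {v : G} : L.flip.ZC v ↔ L.ZC v := by
  rw [LD.ZC, L.flip_C, L.flip_z, LD.ZC]

theorem det_mul_J {A : M2 F} (hA : A.det ≠ 0) : (A * mJ).det ≠ 0 := by simpa using hA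

/-- The frame in the flipped coordinates. -/
noncomputable def Fr.flip (Φ : Fr G F) : Fr G F where
  toLD := Φ.toLD.flip
  ρ := Φ.ρ
  ρ_t := by rw [LD.flip_t, LD.flip_z, Φ.ρ_t]
  ρ_z := by rw [LD.flip_t, LD.flip_z, Φ.ρ_z]
  nsw v := by rw [LD.flip_Γ, LD.flip_t, LD.flip_ZC]; exact Φ.nsw v
  sw A hA := by rw [LD.flip_sw _ hA, LD.flip_t]; exact Φ.sw _ (det_mul_J hA)
  ρ_T := by rw [LD.flip_T]; exact Φ.ρ_T
  ρ_ww := by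
    rw [LD.flip_T, LD.flip_ww, LD.flip_σ, ← conj_mul, Φ.ρ_t]
    have e : Φ.t * Φ.ww * (Φ.t * Φ.z * Φ.σ) = Φ.z * (Φ.ww * Φ.σ) := by
      rw [← Φ.ww_t, mul_assoc, mul_assoc Φ.t, Φ.t_t, ← mul_assoc, Φ.ww_z, mul_assoc]
    rw [e, _root_.mul_inv_rev, ← mul_assoc, mul_assoc Φ.z]
    exact mul_mem (mul_mem Φ.z_mem_T Φ.ρ_ww) (inv_mem Φ.z_mem_T)
  ρ_σ := by
    rw [LD.flip_T, LD.flip_ww, LD.flip_σ, ← conj_mul, ← conj_mul, Φ.ρ_t, Φ.ρ_z,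
      _root_.mul_inv_rev, ← mul_assoc, mul_assoc (Φ.z * _)]
    exact mul_mem (mul_mem (mul_mem Φ.z_mem_T (mul_mem Φ.t_mem_T Φ.z_mem_T)) Φ.ρ_σ)
      (inv_mem Φ.t_mem_T)
  nsw2 h A hA := by rw [LD.flip_sw _ hA, LD.flip_t]; exact Φ.nsw2 h _ (det_mul_J hA)

theorem Fr.flip_eq_1' : type_of% @Fr.flip.eq_1 := @Fr.flip.eq_1

theorem Fr.flip_toLD (Φ : Fr G F) : Φ.flip.toLD = Φ.toLD.flip := rfl

theorem Fr.flip_ρ (Φ : Fr G F) : Φ.flip.ρ = Φ.ρ := rfl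

end Cfsg.Lib.L45
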