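import Cfsg.Agent.L45.W4cB
import Cfsg.Agent.L45.Flip
import Cfsg.Agent.L45.Inv
import Cfsg.Agent.FWR.FrLoc

/-!
# Recognition of `L₄(3)`: the centralizer of a root group
-/

set_option autoImplicit false

namespace Cfsg.Lib.L45

open Matrix Cfsg.Lib.Class Cfsg.Lib.Rank2.Lin Subgroup

universe u v

namespace Q3

/-- The matrix with a given index. -/
def gz (e : Bool) (j : ℕ) : M2 (ZMod 3) :=
  !![(dG e j : ZMod 3), (dG e j / 3 : ℕ); (dG e j / 9 : ℕ), (dG e j / 27 : ℕ)]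

/-- The code `x` stands for the pair `A`, `B`. -/
abbrev Rp (x : Cd) (A B : M2 (ZMod 3)) : Prop :=
  (gz x.e (Nat.mul 2 x.i) = A ∧ gz x.e x.j = B) ∨ (gz x.e (Nat.mul 2 x.i) = -A ∧ gz x.e x.j = -B)

theorem mul_chk : ∀ e f : Bool, ∀ j < 24, ∀ k < 24,
    mG e j f k < 24 ∧ gz (xor e f) (mG e j f k) = gz e j * gz f k := by decide +kernel

theorem mk_chk : ∀ e s : Bool, ∀ p < 24, ∀ q < 24, Rp (mk' e p q s) (gz e p) (gz e q) := by decide +kernel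

theorem det_chk : ∀ e : Bool, ∀ j < 24, ∀ k < 24,
    (gz e j 0 0 * gz e j 1 1 - gz e j 0 1 * gz e j 1 0) *
      (gz e k 0 0 * gz e k 1 1 - gz e k 0 1 * gz e k 1 0) = 1 := by decide +kernel

theorem surj_chk : ∀ a b c d : ZMod 3, a * d - b * c ≠ 0 →
    ∃ j < 24, gz (a * d - b * c == -1) j = !![a, b; c, d] := by decide +kernel

theorem inj_chk : ∀ e f : Bool, (∀ j k : Fin 24, gz e j = gz f k → j = k ∧ e = f) ∧ ∀ i k : Fin 12,
    (gz e (Nat.mul 2 i) = gz f (Nat.mul 2 k) → i = k) ∧ gz e (Nat.mul 2 i) ≠ -gz f (Nat.mul 2 k) := by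
  decide +kernel

theorem T_chk : ∀ a b c d : ZMod 3, a * b * (c * d) = 1 →
    ∃ τ ∈ LT, τ.s = false ∧ Rp τ !![a, 0; 0, b] !![c, 0; 0, d] := by decide +kernel

theorem two_lt (i : Fin 12) : Nat.mul 2 i < 24 := (Nat.mul_lt_mul_left two_pos).2 i.2

variable {G : Type u} [Group G] {F : Type v} [Field F] (L : LD G F) (f : ZMod 3 ≃+* F)

/-- The evaluation of the codes. -/
def ev (x : Cd) : G := L.P (f.mapMatrix (gz x.e (Nat.mul 2 x.i))) (f.mapMatrix (gz x.e x.j)) * cond x.s L.σ 1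

theorem ok_iff {A B : M2 (ZMod 3)} : Ok (f.mapMatrix A) (f.mapMatrix B) ↔
    (A 0 0 * A 1 1 - A 0 1 * A 1 0) * (B 0 0 * B 1 1 - B 0 1 * B 1 0) = 1 := by
  rw [Ok, ← f.map_det, ← f.map_det, ← map_mul, f.map_eq_one_iff, det_fin_two, det_fin_two]

theorem ok (e : Bool) {j k : ℕ} (hj : j < 24) (hk : k < 24) :
    Ok (f.mapMatrix (gz e j)) (f.mapMatrix (gz e k)) := (ok_iff f).2 (det_chk e j hj k hk)

theorem ok' (x : Cd) : Ok (f.mapMatrix (gz x.e (Nat.mul 2 x.i))) (f.mapMatrix (gz x.e x.j)) :=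
  ok f _ (two_lt _) x.j.2

theorem ev_eq (x : Cd) (A B : M2 (ZMod 3)) (h : Rp x A B := by decide +kernel) :
    ev L f x = L.P (f.mapMatrix A) (f.mapMatrix B) * cond x.s L.σ 1 := by
  have h1 := ok' f x
  rcases h with ⟨h2, h3⟩ | ⟨h2, h3⟩
  · rw [ev, h2, h3]
  · rw [← L.P_neg_neg (A := f.mapMatrix A) (by simpa only [h2, h3, map_neg, neg_neg] using h1.neg₁.neg₂), ev,
      h2, h3, map_neg, map_neg]

theorem ev_mul (x y : Cd) : ev L f (x * y) = ev L f x * ev L f y := by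
  have h1 := ok' f x
  have h2 := ok' f y
  obtain ⟨i, j, e, s⟩ := x
  obtain ⟨i', j', e', s'⟩ := y
  have k := fun a ha b hb c hc d hd => (ev_eq L f _ _ _ (mk_chk (xor e e') (xor s s') _
    (mul_chk e e' a ha b hb).1 _ (mul_chk e e' c hc d hd).1)).trans
      (by rw [(mul_chk e e' a ha b hb).2, (mul_chk e e' c hc d hd).2, map_mul, map_mul])
  cases s
  · refine (k _ (two_lt i) _ (two_lt i') _ j.2 _ j'.2).trans ?_
    rw [ev, ev, ← mul_assoc, cond_false, mul_one, L.mul h1 h2, Bool.false_xor]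
    rfl
  · refine (k _ (two_lt i) _ j'.2 _ j.2 _ (two_lt i')).trans ?_
    rw [ev, ev, ← mul_assoc, cond_true, L.sw_mul_P h1 h2, mul_assoc]
    cases s'
    exacts [by rw [cond_false, mul_one]; rfl, by rw [cond_true, L.σ_sq]; rfl]

theorem ev_inj : Function.Injective (ev L f) := by
  intro x y h
  have h1 := ok' f x
  have h2 := ok' f y
  obtain ⟨i, j, e, s⟩ := x
  obtain ⟨i', j', e', s'⟩ := y
  obtain rfl : s = s' := by
    cases s <;> cases s' <;> simp only [ev, cond_true, cond_false, mul_one] at h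
    exacts [rfl, (L.P_ne_sw h1 h2 h).elim, (L.P_ne_sw h2 h1 h.symm).elim, rfl]
  obtain ⟨c, h3, h4, h5⟩ := (L.P_eq_iff' h1 h2).1 (mul_right_cancel h)
  obtain ⟨c, rfl⟩ := f.surjective c
  rw [← map_pow, f.map_eq_one_iff] at h3
  rcases (by decide : ∀ c : ZMod 3, c ^ 4 = 1 → c = 1 ∨ c = -1) c h3 with rfl | rfl
  · rw [map_one, one_smul, f.mapMatrix.injective.eq_iff] at h4 h5
    obtain ⟨rfl, rfl⟩ := (inj_chk e e').1 j j' h5
    rw [((inj_chk e e).2 i i').1 h4]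
  · rw [map_neg, map_one, neg_one_smul, ← map_neg, f.mapMatrix.injective.eq_iff] at h4
    exact absurd h4 ((inj_chk e e').2 i i').2

theorem ev_surj {g : G} (h : g ∈ L.C) : ∃ c, ev L f c = g := by
  obtain ⟨A, B, h1, h2⟩ := L.mem_C_iff.1 h
  obtain ⟨A, rfl⟩ := f.mapMatrix.surjective A
  obtain ⟨B, rfl⟩ := f.mapMatrix.surjective B
  have h3 := (ok_iff f).1 h1
  obtain ⟨p, hp, e⟩ := surj_chk _ _ _ _ (left_ne_zero_of_mul_eq_one h3)
  obtain ⟨q, hq, e'⟩ := surj_chk _ _ _ _ (right_ne_zero_of_mul_eq_one h3)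
  rw [← eta_fin_two] at e e'
  rw [← (by decide : ∀ a b : ZMod 3, a * b = 1 → a = b) _ _ h3] at e'
  have k := fun s => (ev_eq L f _ _ _ (mk_chk _ s p hp q hq)).trans (by rw [e, e'])
  rcases h2 with rfl | rfl
  exacts [⟨_, (k false).trans (mul_one _)⟩, ⟨_, k true⟩]

theorem map_fin (a b c d : ZMod 3) : f.mapMatrix !![a, b; c, d] = !![f a, f b; f c, f d] := by
  ext i j; fin_cases i <;> fin_cases j <;> rfl

theorem ev_T {x : G} (h : x ∈ L.T) : ∃ τ ∈ LT, ev L f τ = x := by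
  obtain ⟨a, b, c, d, h, rfl⟩ := h
  obtain ⟨a, rfl⟩ := f.surjective a
  obtain ⟨b, rfl⟩ := f.surjective b
  obtain ⟨c, rfl⟩ := f.surjective c
  obtain ⟨d, rfl⟩ := f.surjective d
  obtain ⟨τ, h1, h2, h3⟩ := T_chk a b c d (f.injective (by simpa using h))
  exact ⟨τ, h1, by rw [ev_eq L f τ _ _ h3, h2, map_fin, map_fin, map_zero, cond_false, mul_one, dg, dg]⟩

theorem ev_t : ev L f ct = L.t := by
  rw [ev_eq L f ct (-1) 1, map_neg, map_one]; exact mul_one _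

theorem ev_z : ev L f cz = L.z := by
  rw [ev_eq L f cz !![1, 0; 0, -1] (-!![1, 0; 0, -1]), map_neg, map_fin, map_neg, map_one, map_zero]
  exact mul_one _

theorem ev_w : ev L f cw = L.ww := by
  rw [ev_eq L f cw !![0, 1; -1, 0] !![0, 1; -1, 0], map_fin, map_neg, map_one, map_zero]; exact mul_one _

theorem ev_s : ev L f cs = L.σ := by rw [ev_eq L f cs 1 1, map_one, L.P_one]; exact one_mul _

theorem ev_u : ev L f (cx * cr) = L.φ1 (slU (-1)) := by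
  rw [ev_eq L f _ !![1, -1; 0, 1] 1, map_one, map_fin, map_neg, map_one, map_zero]; exact mul_one _

theorem ev_cls (Φ : Fr G F) (h3 : Nat.card F % 4 = 3) (x : Cd) (h1 : x * x = c1) (h2 : x ≠ c1) :
    IsConj (ev Φ.toLD f ct) (ev Φ.toLD f x) ↔ tc x = true := by
  obtain ⟨n, -, e, h⟩ := (inv_chk x h1).resolve_left h2
  replace e := congrArg (ev Φ.toLD f) e
  rw [ev_mul, ev_mul, ← mul_inv_eq_iff_eq_mul] at e
  have h4 := isConj_iff.2 ⟨_, e⟩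
  have h5 := Φ.sw 1 (by simp)
  have h6 := Φ.sw mJ LD.J_ne
  have h7 := Φ.nsw2 h3 1 (by simp)
  have h8 := Φ.nsw2 h3 mJ LD.J_ne
  rw [inv_one, Φ.P_one, one_mul] at h5 h7
  rw [inv_mJ, ← Φ.tz_eq] at h6 h8
  rw [mul_assoc, Φ.t_t] at h8
  rw [h, ev_t, ← show IsConj Φ.t _ ↔ _ from ⟨fun h => h.trans h4, fun h => h.trans h4.symm⟩]
  have h9 := Nat.mod_lt n (by decide : 0 < 7)
  generalize n % 7 = k at h9
  interval_cases k <;> simp [rep, ev_mul, ev_t, ev_z, ev_w, ev_s, h5, h6, h7, h8, -isConj_iff, Φ.isConj_z, IsConj.refl,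
    Φ.not_isConj_of_BC h3 Φ.BC_ww]

/-- The model attached to a frame. -/
def mo (Φ : Fr G F) (h3 : Nat.card F % 4 = 3) : Mo G where
  ev := ev Φ.toLD f
  mul := ev_mul _ f
  inj := ev_inj _ f
  cent g h := ev_surj _ f (Φ.mem_C.2 (by rwa [ev_t] at h))
  cls := ev_cls f Φ h3
  ρ := Φ.ρ
  ρt := by rw [ev_t, ev_z, ← Φ.ρ_t, inv_mul_cancel_right]
  ρz := by rw [ev_mul, ev_t, ev_z, ← Φ.ρ_z, inv_mul_cancel_right]
  ρw := let ⟨τ, h, e⟩ := ev_T _ f Φ.ρ_ww; ⟨τ, h, by rw [ev_mul, ev_mul, e, ev_w, ev_s]; group⟩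
  ρs := let ⟨τ, h, e⟩ := ev_T _ f Φ.ρ_σ; ⟨τ, h, by rw [ev_mul, e, ev_w, ev_s]; group⟩

theorem exists_neg [Finite G] [Finite F] (Φ : Fr G F) (h : Nat.card F = 3) :
    ∃ y, y ≠ 1 ∧ y ^ 3 = 1 ∧ Φ.Neg y ∧ Φ.σ * y * Φ.σ⁻¹ = y := by
  have := Fintype.ofFinite F
  have f := ZMod.ringEquivOfPrime F Nat.prime_three (Fintype.card_eq_nat_card.trans h)
  obtain ⟨y, h1, h2, h3, h4, h5, h6⟩ := (mo f Φ (by rw [h])).main
  simp only [mo, ev_u, ev_t, ev_z, ev_s] at h3 h4 h5 h6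
  refine ⟨y, h1, h2, ⟨FWR.FL.char_of_three h ▸ h2, ?_, h4, h5⟩, h6⟩
  rintro _ ⟨s, rfl⟩
  rcases FWR.FL.cases_of_three h (neg_ne_zero.2 one_ne_zero) s with rfl | rfl | rfl
  exacts [by rw [slU_zero, map_one, one_mul, mul_one], h3, by rw [slU_neg, map_inv]; exact h3.inv_left]

end Q3

theorem w4c : W4c.{u, v} := fun G _ _ F _ _ Φ h => by
  obtain ⟨y, h1, -, h2, h3⟩ := Q3.exists_neg Φ h
  obtain ⟨y', h4, h5, h6, h7⟩ := Q3.exists_neg Φ.flip h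
  simp only [LD.Neg, Fr.flip_toLD, LD.flip_σ, LD.flip_t, LD.flip_z, LD.flip_φ1] at h6 h7
  refine ⟨y, y', h1, ?_, h2, h6⟩
  rintro ⟨n, rfl⟩
  have h8 : Φ.σ * y ^ n * Φ.σ⁻¹ = y ^ n := by rw [← conj_zpow, h3]
  rw [show Φ.t * Φ.z * Φ.σ * y ^ n * (Φ.t * Φ.z * Φ.σ)⁻¹ =
    Φ.t * (Φ.z * (Φ.σ * y ^ n * Φ.σ⁻¹) * Φ.z⁻¹) * Φ.t⁻¹ by group, h8, h6.2.2.1, h6.2.2.2,
    inv_eq_iff_mul_eq_one] at h7
  exact h4 (by rwa [pow_three, h7, mul_one] at h5)

end Cfsg.Lib.L45
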