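import Cfsg.Agent.L45.Basic
import Mathlib.NumberTheory.LegendreSymbol.QuadraticChar.Basic

/-!
# Recognition of `L₄(q)`: changes of coordinates
-/

set_option autoImplicit false

namespace Cfsg.Lib.L45

open Matrix Cfsg.Lib.Class Cfsg.Lib.Rank2.Lin Cfsg.Lib.Trans Subgroup
open scoped MatrixGroups

universe u v

variable {G : Type u} [Group G] {F : Type v} [Field F]

namespace LD

variable (L : LD G F)

/-- Replace `σ` by `t σ`. -/
def tw : LD G F where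
  P := L.P
  σ := L.t * L.σ
  odd := L.odd
  mul := L.mul
  eq_one := L.eq_one
  σ_sq := by rw [mul_assoc, ← mul_assoc L.σ, L.σ_t, mul_assoc, L.σ_sq, mul_one, L.t_sq]
  swap h := by
    rw [mul_assoc, L.swap h, ← mul_assoc, ← mul_assoc, L.t_mul h.symm, L.mul_t h.symm]
  cent x := (L.cent x).trans ⟨fun ⟨A, B, h, e⟩ => e.elim (fun e => ⟨A, B, h, .inl e⟩) fun e =>
      ⟨-A, B, h.neg₁, .inr (by rw [← mul_assoc, L.mul_t h.neg₁, neg_neg, e])⟩,
    fun ⟨A, B, h, e⟩ => e.elim (fun e => ⟨A, B, h, .inl e⟩) fun e =>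
      ⟨-A, B, h.neg₁, .inr (by rw [e, ← mul_assoc, L.mul_t h])⟩⟩

theorem tw_P : L.tw.P = L.P := rfl

theorem tw_σ : L.tw.σ = L.t * L.σ := rfl

theorem ok_cj {A X Y : M2 F} (hA : A.det ≠ 0) : Ok X (A⁻¹ * Y * A) ↔ Ok X Y := by
  rw [Ok, Ok, det_mul, det_mul, det_inv_m, mul_right_comm _ Y.det, inv_mul_cancel₀ hA, one_mul]

/-- Conjugate the second block by `A`. -/
noncomputable def cj2 (A : M2 F) (hA : A.det ≠ 0) : LD G F where
  P X Y := L.P X (A⁻¹ * Y * A)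
  σ := L.P A A⁻¹ * L.σ
  odd := L.odd
  mul h h' := by
    rw [L.mul ((ok_cj hA).2 h) ((ok_cj hA).2 h')]
    simp only [mul_assoc, mul_inv_cancel_left_m hA]
  eq_one {X Y} h := by
    rw [L.eq_one ((ok_cj hA).2 h)]
    refine exists_congr fun c => and_congr_right fun _ => ⟨fun e => ?_, fun e => ?_⟩
    · rw [← mul_inv_cancel_left_m hA Y, ← mul_inv_cancel_right_m hA (A⁻¹ * Y), e]
      simp [mul_inv_m hA]
    · simp [e, inv_mul_m hA]
  σ_sq := by rw [L.sw_mul_sw (ok_inv hA) (ok_inv hA), mul_inv_m hA, inv_mul_m hA, L.P_one]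
  swap h := by
    rw [L.sw_mul_P (ok_inv hA) ((ok_cj hA).2 h), L.P_mul_sw ((ok_cj hA).2 h.symm) (ok_inv hA)]
    simp only [mul_assoc, mul_inv_cancel_left_m hA, mul_inv_m hA, mul_one]
  cent x := by
    rw [mul_one, inv_mul_m hA, L.cent]
    have k : ∀ Y : M2 F, A⁻¹ * (A * Y * A⁻¹) * A = Y := fun Y => by
      simp only [mul_assoc, inv_mul_cancel_left_m hA, inv_mul_m hA, mul_one]
    constructor
    · rintro ⟨X, Y, h, rfl | rfl⟩
      · exact ⟨X, A * Y * A⁻¹, (ok_cj hA).1 (by rwa [k]), .inl (by rw [k])⟩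
      · have h1 := h.mul (ok_inv hA).inv
        refine ⟨X * A⁻¹, A * (Y * A⁻¹⁻¹) * A⁻¹, (ok_cj hA).1 (by rwa [k]), .inr ?_⟩
        rw [k, L.P_mul_sw h1 (ok_inv hA), inv_mul_cancel_right_m hA, inv_inv_m hA,
          mul_inv_cancel_right_m hA]
    · rintro ⟨X, Y, h, rfl | rfl⟩
      · exact ⟨_, _, (ok_cj hA).2 h, .inl rfl⟩
      · exact ⟨_, _, ((ok_cj hA).2 h).mul (ok_inv hA),
          .inr (L.P_mul_sw ((ok_cj hA).2 h) (ok_inv hA))⟩

section cj2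

variable {A : M2 F} (hA : A.det ≠ 0)

theorem cj2_P (X Y : M2 F) : (L.cj2 A hA).P X Y = L.P X (A⁻¹ * Y * A) := rfl

theorem cj2_σ : (L.cj2 A hA).σ = L.P A A⁻¹ * L.σ := rfl

theorem cj2_t : (L.cj2 A hA).t = L.t := by rw [t, cj2_P, mul_one, inv_mul_m hA, t]

theorem cj2_C : (L.cj2 A hA).C = L.C := by rw [C, cj2_t]

theorem cj2_φ1 : (L.cj2 A hA).φ1 = L.φ1 := MonoidHom.ext fun s => by
  rw [φ1_apply, cj2_P, mul_one, inv_mul_m hA, φ1_apply]

theorem cj2_Γ : (L.cj2 A hA).Γ = L.Γ := by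
  ext x
  refine ⟨fun ⟨X, Y, h, e⟩ => ⟨_, _, (ok_cj hA).2 h, e⟩, fun ⟨X, Y, h, e⟩ => ?_⟩
  have k : A⁻¹ * (A * Y * A⁻¹) * A = Y := by
    simp only [mul_assoc, inv_mul_cancel_left_m hA, inv_mul_m hA, mul_one]
  exact ⟨X, A * Y * A⁻¹, (ok_cj hA).1 (by rwa [k]), by rw [cj2_P, k, e]⟩

theorem cj2_H0 : (L.cj2 A hA).H0 = L.H0 := by
  ext x
  refine ⟨fun ⟨a, b, e⟩ => e ▸ L.mem_H0_of_det a.det_coe (by simp [hA]), fun ⟨a, b, e⟩ => ?_⟩
  refine ⟨a, cs A hA b, ?_⟩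
  rw [cj2_P, coe_cs, e]
  simp only [mul_assoc, inv_mul_cancel_left_m hA, inv_mul_m hA, mul_one]

end cj2

theorem J_ne : (mJ : M2 F).det ≠ 0 := by simp

/-- Conjugate the second block by `diag (1, -1)`. -/
noncomputable def flip : LD G F := L.cj2 mJ J_ne

theorem flip_P (X Y : M2 F) : L.flip.P X Y = L.P X (mJ * Y * mJ) := by rw [flip, cj2_P, inv_mJ]

theorem flip_σ : L.flip.σ = L.t * L.z * L.σ := by rw [flip, cj2_σ, inv_mJ, tz_eq]

theorem flip_t : L.flip.t = L.t := L.cj2_t _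

theorem flip_C : L.flip.C = L.C := L.cj2_C _

theorem flip_φ1 : L.flip.φ1 = L.φ1 := L.cj2_φ1 _

theorem flip_Γ : L.flip.Γ = L.Γ := L.cj2_Γ _

theorem flip_z : L.flip.z = L.z := by rw [z, flip_P, z]; simp

theorem flip_ww : L.flip.ww = L.t * L.ww := by
  rw [ww, flip_P, ww, L.t_mul ok_WW, ← L.P_neg₂ ok_WW, mJ_mW, neg_mul, mul_assoc, mJ_mJ, mul_one]

theorem J_dg_J (a b : F) : mJ * dg a b * mJ = dg a b := by simp [mJ, dg]

theorem flip_T : L.flip.T = L.T := by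
  ext x
  simp only [mem_T, flip_P, J_dg_J]

section tw2

variable [Fintype F] [DecidableEq F]

/-- The quadratic character of the determinant. -/
def χ (A : M2 F) : F := quadraticChar F A.det

theorem χ_mul (A B : M2 F) : χ (A * B) = χ A * χ B := by
  rw [χ, det_mul, map_mul, Int.cast_mul, χ, χ]

theorem χ_sq {A : M2 F} (h : A.det ≠ 0) : χ A * χ A = 1 := by
  rw [χ, ← Int.cast_mul, ← sq, quadraticChar_sq_one h, Int.cast_one]

theorem χ_four {A : M2 F} (h : A.det ≠ 0) : χ A ^ 4 = 1 := by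
  linear_combination (χ A * χ A + 1) * χ_sq h

theorem χ_of_sq {A : M2 F} (h : A.det ≠ 0) (h1 : IsSquare A.det) : χ A = 1 := by
  rw [χ, (quadraticChar_one_iff_isSquare h).2 h1, Int.cast_one]

theorem χ_of_not {A : M2 F} (h1 : ¬ IsSquare A.det) : χ A = -1 := by
  rw [χ, quadraticChar_neg_one_iff_not_isSquare.2 h1]; simp

theorem det_χ {A : M2 F} (h : A.det ≠ 0) : (χ A • A).det = A.det := by
  rw [det_smul2, χ_sq h, one_mul]

theorem ok_χ {A B : M2 F} (h : Ok A B) : Ok (χ A • A) B := by rwa [Ok, det_χ h.ne₁]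

theorem χ_χ {A : M2 F} (h : A.det ≠ 0) : χ (χ A • A) • χ A • A = A := by
  rw [χ, det_χ h, ← χ, smul_smul, χ_sq h, one_smul]

theorem χ_ok {A B : M2 F} (h : Ok A B) : χ B = χ A := by
  have h1 : χ A * χ B = 1 := by rw [← χ_mul, χ, det_mul, h]; simp
  linear_combination (-χ B) * χ_sq h.ne₁ + χ A * h1

/-- Twist the first block by the quadratic character of its determinant. -/
def tw2 : LD G F where
  P A B := L.P (χ A • A) B
  σ := L.σ
  odd := L.odd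
  mul h h' := by
    rw [L.mul (ok_χ h) (ok_χ h'), χ_mul, smul_mul_smul_comm]
  eq_one {A B} h := by
    rw [L.eq_one (ok_χ h)]
    refine exists_congr fun c => and_congr_left fun _ => ⟨fun e => ?_, fun e => ?_⟩
    · rwa [χ_of_sq h.ne₁ ⟨c, by rw [← det_χ h.ne₁, e, det_smul2]; simp⟩, one_smul] at e
    · rwa [χ_of_sq h.ne₁ ⟨c, by rw [e, det_smul2]; simp⟩, one_smul]
  σ_sq := L.σ_sq
  swap {A B} h := by
    rw [L.swap (ok_χ h), ← L.P_smul (ok_χ h).symm (χ_four h.ne₁), smul_smul, χ_sq h.ne₁, one_smul,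
      χ_ok h]
  cent x := by
    rw [χ_of_sq (A := -1) (by simp [det_neg2]) ⟨1, by simp [det_neg2]⟩, one_smul, L.cent]
    exact ⟨fun ⟨A, B, h, e⟩ => ⟨_, B, ok_χ h, by rwa [χ_χ h.ne₁]⟩,
      fun ⟨A, B, h, e⟩ => ⟨_, B, ok_χ h, e⟩⟩

theorem tw2_P (A B : M2 F) : L.tw2.P A B = L.P (χ A • A) B := rfl

theorem tw2_σ : L.tw2.σ = L.σ := rfl

theorem tw2_P_of_det {A : M2 F} (h : A.det = 1) (B : M2 F) : L.tw2.P A B = L.P A B := by
  rw [tw2_P, χ_of_sq (by simp [h]) ⟨1, by simp [h]⟩, one_smul]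

theorem tw2_t : L.tw2.t = L.t := L.tw2_P_of_det (by simp [det_neg2]) _

theorem tw2_C : L.tw2.C = L.C := by rw [C, tw2_t]

theorem tw2_ww : L.tw2.ww = L.ww := L.tw2_P_of_det det_mW _

theorem tw2_z (h : ¬ IsSquare (-1 : F)) : L.tw2.z = L.t * L.z := by
  rw [z, tw2_P, χ_of_not (by simpa using h), neg_one_smul, z, L.t_mul ok_z]

theorem tw2_Γ : L.tw2.Γ = L.Γ := by
  ext x
  exact ⟨fun ⟨A, B, h, e⟩ => ⟨_, B, ok_χ h, e⟩,
    fun ⟨A, B, h, e⟩ => ⟨_, B, ok_χ h, by rwa [tw2_P, χ_χ h.ne₁]⟩⟩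

theorem tw2_T : L.tw2.T = L.T := by
  ext x
  have k : ∀ a b : F, a * b ≠ 0 → χ (dg a b) * a * (χ (dg a b) * b) = a * b := fun a b h => by
    linear_combination a * b * χ_sq (A := dg a b) (by simpa using h)
  refine ⟨fun ⟨a, b, c, d, h, e⟩ => ⟨_, _, c, d, ?_, by rwa [tw2_P, smul_dg] at e⟩,
    fun ⟨a, b, c, d, h, e⟩ => ⟨χ (dg a b) * a, χ (dg a b) * b, c, d, ?_, ?_⟩⟩
  · rwa [k a b (left_ne_zero_of_mul_eq_one h)]
  · rwa [k a b (left_ne_zero_of_mul_eq_one h)]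
  · rwa [tw2_P, ← smul_dg, χ_χ (ok_dg h).ne₁]

end tw2

end LD

end Cfsg.Lib.L45
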