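import Cfsg.Agent.L45.Defs

/-!
# Recognition of `L₄(q)`: calculus in the centralizer of `t`
-/

set_option autoImplicit false

namespace Cfsg.Lib.L45

open Matrix Cfsg.Lib.Class Cfsg.Lib.Rank2.Lin Cfsg.Lib.Trans Subgroup
open scoped MatrixGroups commutatorElement

universe u v

section Mat

variable {F : Type v} [Field F] {A B A' B' X Y : M2 F} {a b c d : F}

theorem Ok.symm (h : Ok A B) : Ok B A := (mul_comm _ _).trans h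

theorem Ok.ne₁ (h : Ok A B) : A.det ≠ 0 := left_ne_zero_of_mul_eq_one h

theorem Ok.ne₂ (h : Ok A B) : B.det ≠ 0 := right_ne_zero_of_mul_eq_one h

theorem mul_inv_m (h : A.det ≠ 0) : A * A⁻¹ = 1 := mul_nonsing_inv _ h.isUnit

theorem inv_mul_m (h : A.det ≠ 0) : A⁻¹ * A = 1 := nonsing_inv_mul _ h.isUnit

theorem inv_inv_m (h : A.det ≠ 0) : A⁻¹⁻¹ = A := nonsing_inv_nonsing_inv _ h.isUnit

theorem det_inv_m (A : M2 F) : A⁻¹.det = A.det⁻¹ := by rw [det_nonsing_inv, Ring.inverse_eq_inv']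

theorem mul_inv_cancel_left_m (h : A.det ≠ 0) (B : M2 F) : A * (A⁻¹ * B) = B := by
  rw [← mul_assoc, mul_inv_m h, one_mul]

theorem inv_mul_cancel_left_m (h : A.det ≠ 0) (B : M2 F) : A⁻¹ * (A * B) = B := by
  rw [← mul_assoc, inv_mul_m h, one_mul]

theorem mul_inv_cancel_right_m (h : A.det ≠ 0) (B : M2 F) : B * A * A⁻¹ = B := by
  rw [mul_assoc, mul_inv_m h, mul_one]

theorem inv_mul_cancel_right_m (h : A.det ≠ 0) (B : M2 F) : B * A⁻¹ * A = B := by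
  rw [mul_assoc, inv_mul_m h, mul_one]

theorem mul_left_cancel_m (h : A.det ≠ 0) (e : A * X = A * Y) : X = Y := by
  rw [← inv_mul_cancel_left_m h X, e, inv_mul_cancel_left_m h]

theorem mul_right_cancel_m (h : A.det ≠ 0) (e : X * A = Y * A) : X = Y := by
  rw [← mul_inv_cancel_right_m h X, e, mul_inv_cancel_right_m h]

theorem Ok.inv (h : Ok A B) : Ok A⁻¹ B⁻¹ := by
  rw [Ok, det_inv_m, det_inv_m, ← mul_inv, h, inv_one]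

theorem ok_inv (h : A.det ≠ 0) : Ok A A⁻¹ := by rw [Ok, det_inv_m, mul_inv_cancel₀ h]

theorem ok_one : Ok (1 : M2 F) 1 := by simp [Ok]

theorem Ok.neg₁ (h : Ok A B) : Ok (-A) B := by rwa [Ok, det_neg2]

theorem Ok.neg₂ (h : Ok A B) : Ok A (-B) := by rwa [Ok, det_neg2]

theorem Ok.smul (h : Ok A B) (hc : c ^ 4 = 1) : Ok (c • A) (c • B) := by
  rw [Ok] at h
  rw [Ok, det_smul2, det_smul2]
  linear_combination c ^ 4 * h + hc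

theorem Ok.pow_four (h : Ok A B) (h' : Ok (c • A) (c • B)) : c ^ 4 = 1 := by
  rw [Ok, det_smul2, det_smul2] at h'
  rw [Ok] at h
  linear_combination h' - c ^ 4 * h

theorem Ok.conj (h : Ok X Y) (h' : Ok A B) : Ok (X * A * X⁻¹) (Y * B * Y⁻¹) := (h.mul h').mul h.inv

theorem Ok.conj' (h : Ok X Y) (h' : Ok A B) : Ok (X * A * Y⁻¹) (Y * B * X⁻¹) :=
  (h.mul h').mul h.inv.symm

theorem ok_t : Ok (-1 : M2 F) 1 := ok_one.neg₁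

theorem ok_JJ : Ok (mJ : M2 F) mJ := by simp [Ok]

theorem ok_z : Ok (mJ : M2 F) (-mJ) := ok_JJ.neg₂

theorem ok_WW : Ok (mW : M2 F) mW := by simp [Ok]

theorem ok_W1 : Ok (mW : M2 F) 1 := by simp [Ok]

theorem ok_1W : Ok (1 : M2 F) mW := by simp [Ok]

@[simp] theorem mJ_mJ : (mJ : M2 F) * mJ = 1 := by simp [mJ, one_fin_two]

@[simp] theorem mW_mW : (mW : M2 F) * mW = -1 := by simp [mW, one_fin_two]

theorem mJ_mW : (mJ : M2 F) * mW = -(mW * mJ) := by simp [mJ, mW]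

theorem inv_mJ : (mJ : M2 F)⁻¹ = mJ := inv_eq_right_inv mJ_mJ

theorem inv_mW : (mW : M2 F)⁻¹ = -mW := inv_eq_right_inv (by simp)

theorem mJ_eq : (mJ : M2 F) = dg 1 (-1) := rfl

theorem coe_slN_one : (slN (1 : Fˣ) : M2 F) = mW := by simp [mW]

theorem coe_slH_eq (t : Fˣ) : (slH t : M2 F) = dg (t : F) (t : F)⁻¹ := by simp [dg]

theorem dg_mW (a b : F) : dg a b * mW = mW * dg b a := by simp [dg, mW]

theorem dg_self (a : F) : dg a a = a • (1 : M2 F) := by simp [dg, one_fin_two]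

theorem smul_dg (c a b : F) : c • dg a b = dg (c * a) (c * b) := by simp [dg]

theorem neg_dg (a b : F) : -dg a b = dg (-a) (-b) := by simp [dg]

theorem dg_inj : dg a b = dg c d ↔ a = c ∧ b = d :=
  ⟨fun h => ⟨congrFun (congrFun h 0) 0, congrFun (congrFun h 1) 1⟩, fun h => h.1 ▸ h.2 ▸ rfl⟩

theorem inv_dg (ha : a ≠ 0) (hb : b ≠ 0) : (dg a b)⁻¹ = dg a⁻¹ b⁻¹ :=
  inv_eq_right_inv (by rw [dg_mul, mul_inv_cancel₀ ha, mul_inv_cancel₀ hb, dg_one])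

theorem coe_inv_sl (s : SL(2, F)) : ((s⁻¹ : SL(2, F)) : M2 F) = (s : M2 F)⁻¹ :=
  (inv_eq_right_inv (by
    rw [← Matrix.SpecialLinearGroup.coe_mul, mul_inv_cancel, Matrix.SpecialLinearGroup.coe_one])).symm

theorem smul_one_inj (h : a • (1 : M2 F) = b • 1) : a = b := by
  simpa using congrFun (congrFun h 0) 0

/-- The Cayley-Hamilton theorem. -/
theorem cayley (A : M2 F) : A * A = (A 0 0 + A 1 1) • A - A.det • 1 := by
  ext i j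
  fin_cases i <;> fin_cases j <;> simp [mul_apply, Fin.sum_univ_two, det_fin_two] <;> ring

/-- The conjugate of an element of `SL₂` by an invertible matrix. -/
noncomputable def cs (A : M2 F) (h : A.det ≠ 0) (s : SL(2, F)) : SL(2, F) :=
  ⟨A * s * A⁻¹, by simp [h]⟩

theorem coe_cs (h : A.det ≠ 0) (s : SL(2, F)) : (cs A h s : M2 F) = A * s * A⁻¹ := rfl

end Mat

variable {G : Type u} [Group G] {F : Type v} [Field F]

namespace LD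

variable (L : LD G F) {A B A' B' X Y : M2 F} {c : F} {x y g : G}

include L in
theorem finF : Finite F := Nat.finite_of_card_ne_zero L.odd.pos.ne'

include L in
theorem two_ne : (2 : F) ≠ 0 := have := L.finF; Rank2.two_ne_zero_of_odd_card L.odd

include L in
theorem neg_one_ne : (-1 : F) ≠ 1 := fun e => L.two_ne (by linear_combination -e)

theorem P_inv (h : Ok A B) : (L.P A B)⁻¹ = L.P A⁻¹ B⁻¹ :=
  inv_eq_of_mul_eq_one_right (by rw [L.mul h h.inv, mul_inv_m h.ne₁, mul_inv_m h.ne₂, L.P_one])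

theorem P_eq_iff (h : Ok A B) (h' : Ok A' B') :
    L.P A B = L.P A' B' ↔ ∃ c : F, A = c • A' ∧ B = c • B' := by
  rw [← mul_inv_eq_one, L.P_inv h', L.mul h h'.inv, L.eq_one (h.mul h'.inv)]
  refine exists_congr fun c => ⟨fun ⟨h1, h2⟩ => ⟨?_, ?_⟩, fun ⟨h1, h2⟩ => ⟨?_, ?_⟩⟩
  · rw [← inv_mul_cancel_right_m h'.ne₁ A, h1, smul_mul_assoc, one_mul]
  · rw [← inv_mul_cancel_right_m h'.ne₂ B, h2, smul_mul_assoc, one_mul]
  · rw [h1, smul_mul_assoc, mul_inv_m h'.ne₁]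
  · rw [h2, smul_mul_assoc, mul_inv_m h'.ne₂]

theorem P_eq_iff' (h : Ok A B) (h' : Ok A' B') :
    L.P A B = L.P A' B' ↔ ∃ c : F, c ^ 4 = 1 ∧ A = c • A' ∧ B = c • B' := by
  rw [L.P_eq_iff h h']
  exact exists_congr fun c => ⟨fun e => ⟨h'.pow_four (e.1 ▸ e.2 ▸ h), e⟩, fun e => e.2⟩

theorem P_smul (h : Ok A B) (hc : c ^ 4 = 1) : L.P (c • A) (c • B) = L.P A B :=
  (L.P_eq_iff (h.smul hc) h).2 ⟨c, rfl, rfl⟩

theorem P_neg_neg (h : Ok A B) : L.P (-A) (-B) = L.P A B :=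
  (L.P_eq_iff h.neg₁.neg₂ h).2 ⟨-1, by simp, by simp⟩

theorem t_mul (h : Ok A B) : L.t * L.P A B = L.P (-A) B := by
  rw [t, L.mul ok_t h, neg_one_mul, one_mul]

theorem mul_t (h : Ok A B) : L.P A B * L.t = L.P (-A) B := by
  rw [t, L.mul h ok_t, mul_neg_one, mul_one]

theorem P_neg₂ (h : Ok A B) : L.P A (-B) = L.P (-A) B := by
  rw [← L.P_neg_neg h.neg₂, neg_neg]

theorem comm_iff (h : Ok A B) (h' : Ok A' B') : L.P A B * L.P A' B' = L.P A' B' * L.P A B ↔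
    ∃ c : F, c ^ 4 = 1 ∧ A * A' = c • (A' * A) ∧ B * B' = c • (B' * B) := by
  rw [L.mul h h', L.mul h' h, L.P_eq_iff' (h.mul h') (h'.mul h)]

theorem P_conj (h : Ok X Y) (h' : Ok A B) :
    L.P X Y * L.P A B * (L.P X Y)⁻¹ = L.P (X * A * X⁻¹) (Y * B * Y⁻¹) := by
  rw [L.P_inv h, L.mul h h', L.mul (h.mul h') h.inv]

theorem P_pow (h : Ok A B) (n : ℕ) : Ok (A ^ n) (B ^ n) ∧ L.P A B ^ n = L.P (A ^ n) (B ^ n) := by
  induction n with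
  | zero => exact ⟨by simpa using ok_one, by simp [L.P_one]⟩
  | succ n ih => exact ⟨by simpa [pow_succ] using ih.1.mul h,
      by rw [pow_succ, pow_succ, pow_succ, ih.2, L.mul ih.1 h]⟩

theorem σ_inv : L.σ⁻¹ = L.σ := inv_eq_of_mul_eq_one_right L.σ_sq

theorem σ_σ (x : G) : L.σ * (L.σ * x) = x := by rw [← mul_assoc, L.σ_sq, one_mul]

theorem mul_σ_σ (x : G) : x * L.σ * L.σ = x := by rw [mul_assoc, L.σ_sq, mul_one]

theorem σ_conj (h : Ok A B) : L.σ * L.P A B * L.σ⁻¹ = L.P B A := by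
  rw [L.swap h, mul_inv_cancel_right]

theorem sw_mul_P (h : Ok A B) (h' : Ok A' B') :
    L.P A B * L.σ * L.P A' B' = L.P (A * B') (B * A') * L.σ := by
  rw [mul_assoc, L.swap h', ← mul_assoc, L.mul h h'.symm]

theorem P_mul_sw (h : Ok A B) (h' : Ok A' B') :
    L.P A B * (L.P A' B' * L.σ) = L.P (A * A') (B * B') * L.σ := by
  rw [← mul_assoc, L.mul h h']

theorem sw_mul_sw (h : Ok A B) (h' : Ok A' B') :
    L.P A B * L.σ * (L.P A' B' * L.σ) = L.P (A * B') (B * A') := by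
  rw [← mul_assoc, L.sw_mul_P h h', L.mul_σ_σ]

theorem sw_inv (h : Ok A B) : (L.P A B * L.σ)⁻¹ = L.P B⁻¹ A⁻¹ * L.σ := by
  rw [_root_.mul_inv_rev, L.σ_inv, L.P_inv h, L.swap h.inv]

theorem P_conj_sw (h : Ok X Y) (h' : Ok A B) :
    L.P X Y * (L.P A B * L.σ) * (L.P X Y)⁻¹ = L.P (X * A * Y⁻¹) (Y * B * X⁻¹) * L.σ := by
  rw [L.P_inv h, L.P_mul_sw h h', L.sw_mul_P (h.mul h') h.inv]

theorem sw_conj_P (h : Ok X Y) (h' : Ok A B) :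
    L.P X Y * L.σ * L.P A B * (L.P X Y * L.σ)⁻¹ = L.P (X * B * X⁻¹) (Y * A * Y⁻¹) := by
  rw [L.sw_inv h, L.sw_mul_P h h', L.sw_mul_sw (h.mul h'.symm) h.inv.symm]

theorem mem_C : x ∈ L.C ↔ x * L.t = L.t * x := mem_centralizer_singleton_iff

theorem mem_C' : x ∈ L.C ↔ x * L.t * x⁻¹ = L.t := L.mem_C.trans mul_inv_eq_iff_eq_mul.symm

theorem mem_C_iff : x ∈ L.C ↔ ∃ A B, Ok A B ∧ (x = L.P A B ∨ x = L.P A B * L.σ) :=
  L.mem_C.trans (L.cent x)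

theorem mem_Γ : x ∈ L.Γ ↔ ∃ A B, Ok A B ∧ x = L.P A B := Iff.rfl

theorem mem_H0 : x ∈ L.H0 ↔ ∃ a b : SL(2, F), x = L.P a b := Iff.rfl

theorem mem_T : x ∈ L.T ↔ ∃ a b c d : F, a * b * (c * d) = 1 ∧ x = L.P (dg a b) (dg c d) := Iff.rfl

theorem mem_B0 : x ∈ L.B0 ↔ x * L.t = L.t * x ∧ x * L.z = L.z * x :=
  mem_inf.trans (and_congr mem_centralizer_singleton_iff mem_centralizer_singleton_iff)

theorem P_mem_Γ (h : Ok A B) : L.P A B ∈ L.Γ := ⟨A, B, h, rfl⟩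

theorem P_mem_C (h : Ok A B) : L.P A B ∈ L.C := L.mem_C_iff.2 ⟨A, B, h, .inl rfl⟩

theorem σ_mem_C : L.σ ∈ L.C := L.mem_C_iff.2 ⟨1, 1, ok_one, .inr (by rw [L.P_one, one_mul])⟩

theorem Γ_le_C : L.Γ ≤ L.C := by rintro _ ⟨A, B, h, rfl⟩; exact L.P_mem_C h

theorem H0_le_Γ : L.H0 ≤ L.Γ := by rintro _ ⟨a, b, rfl⟩; exact L.P_mem_Γ (ok_sl a b)

theorem T_le_Γ : L.T ≤ L.Γ := by rintro _ ⟨a, b, c, d, h, rfl⟩; exact L.P_mem_Γ (ok_dg h)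

theorem mem_H0_of_det (h1 : A.det = 1) (h2 : B.det = 1) : L.P A B ∈ L.H0 := ⟨⟨A, h1⟩, ⟨B, h2⟩, rfl⟩

theorem mem_or (hx : x ∈ L.C) : x ∈ L.Γ ∨ x * L.σ ∈ L.Γ := by
  obtain ⟨A, B, h, rfl | rfl⟩ := L.mem_C_iff.1 hx
  exacts [.inl (L.P_mem_Γ h), .inr (by rw [L.mul_σ_σ]; exact L.P_mem_Γ h)]

theorem φ1_apply (s : SL(2, F)) : L.φ1 s = L.P s 1 := rfl

theorem φ3_apply (s : SL(2, F)) : L.φ3 s = L.P 1 s := rfl

theorem κ_apply (s : SL(2, F)) : L.κ s = L.P s s := rfl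

theorem P_sl (a b : SL(2, F)) : L.P a b = L.φ1 a * L.φ3 b := by
  rw [φ1_apply, φ3_apply, L.mul (ok_sl1 a) (ok_1sl b), mul_one, one_mul]

theorem comm13 (a b : SL(2, F)) : L.φ1 a * L.φ3 b = L.φ3 b * L.φ1 a := by
  rw [← P_sl, φ1_apply, φ3_apply, L.mul (ok_1sl b) (ok_sl1 a), mul_one, one_mul]

theorem φ1_neg_one : L.φ1 (-1) = L.t := by rw [φ1_apply]; rfl

theorem φ3_neg_one : L.φ3 (-1) = L.t := by
  rw [φ3_apply, t, ← L.P_neg₂ ok_one]; rfl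

theorem inj1 : Function.Injective L.φ1 := (injective_iff_map_eq_one _).2 fun s h => by
  obtain ⟨c, h1, h2⟩ := (L.eq_one (ok_sl1 s)).1 h
  exact Subtype.ext (h1.trans h2.symm)

theorem inj3 : Function.Injective L.φ3 := (injective_iff_map_eq_one _).2 fun s h => by
  obtain ⟨c, h1, h2⟩ := (L.eq_one (ok_1sl s)).1 h
  exact Subtype.ext (h2.trans h1.symm)

theorem φ1_mem_H0 (s : SL(2, F)) : L.φ1 s ∈ L.H0 := ⟨s, 1, rfl⟩

theorem φ3_mem_H0 (s : SL(2, F)) : L.φ3 s ∈ L.H0 := ⟨1, s, rfl⟩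

theorem κ_mem_H0 (s : SL(2, F)) : L.κ s ∈ L.H0 := ⟨s, s, rfl⟩

theorem φ1_mem_C (s : SL(2, F)) : L.φ1 s ∈ L.C := L.P_mem_C (ok_sl1 s)

theorem φ3_mem_C (s : SL(2, F)) : L.φ3 s ∈ L.C := L.P_mem_C (ok_1sl s)

theorem H0_eq : L.H0 = L.φ1.range ⊔ L.φ3.range := le_antisymm
  (by rintro _ ⟨a, b, rfl⟩; rw [P_sl]; exact mul_mem_sup ⟨a, rfl⟩ ⟨b, rfl⟩)
  (sup_le (by rintro _ ⟨a, rfl⟩; exact L.φ1_mem_H0 a) (by rintro _ ⟨a, rfl⟩; exact L.φ3_mem_H0 a))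

theorem σ_φ1 (s : SL(2, F)) : L.σ * L.φ1 s * L.σ⁻¹ = L.φ3 s := L.σ_conj (ok_sl1 s)

theorem σ_φ3 (s : SL(2, F)) : L.σ * L.φ3 s * L.σ⁻¹ = L.φ1 s := L.σ_conj (ok_1sl s)

theorem σ_κ (s : SL(2, F)) : L.σ * L.κ s = L.κ s * L.σ := L.swap (ok_sl s s)

theorem conj_φ1 (h : Ok A B) (s : SL(2, F)) :
    L.P A B * L.φ1 s * (L.P A B)⁻¹ = L.φ1 (cs A h.ne₁ s) := by
  rw [φ1_apply, L.P_conj h (ok_sl1 s), mul_one, mul_inv_m h.ne₂]; rfl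

theorem conj_φ3 (h : Ok A B) (s : SL(2, F)) :
    L.P A B * L.φ3 s * (L.P A B)⁻¹ = L.φ3 (cs B h.ne₂ s) := by
  rw [φ3_apply, L.P_conj h (ok_1sl s), mul_one, mul_inv_m h.ne₁]; rfl

theorem eq_of_φ1_eq_φ3 {a b : SL(2, F)} (h : L.φ1 a = L.φ3 b) :
    a = 1 ∧ b = 1 ∨ a = -1 ∧ b = -1 := by
  obtain ⟨c, h1, h2⟩ := (L.P_eq_iff (ok_sl1 a) (ok_1sl b)).1 h
  have h3 := congrArg det h1
  rw [det_smul2, a.det_coe, det_one, mul_one, eq_comm, mul_self_eq_one_iff] at h3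
  rcases h3 with rfl | rfl
  · exact .inl ⟨Subtype.ext (by simpa using h1), Subtype.ext (by simpa using h2.symm)⟩
  · exact .inr ⟨Subtype.ext (by simpa using h1),
      Subtype.ext (by simpa [neg_eq_iff_eq_neg] using h2.symm)⟩

theorem σ_not_mem : L.σ ∉ L.Γ := by
  rintro ⟨A, B, h, e⟩
  have h1 := L.σ_φ1 (slU 1)
  rw [e, L.conj_φ1 h] at h1
  rcases L.eq_of_φ1_eq_φ3 h1 with h2 | h2 <;>
    simpa using congrArg (fun g : SL(2, F) => g 0 1) h2.2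

theorem sw_not_mem (hx : x ∈ L.Γ) : x * L.σ ∉ L.Γ := fun h =>
  L.σ_not_mem ((mul_mem_cancel_left hx).1 h)

theorem P_ne_sw (h : Ok A B) (h' : Ok A' B') : L.P A B ≠ L.P A' B' * L.σ := fun e =>
  L.sw_not_mem (L.P_mem_Γ h') (e ▸ L.P_mem_Γ h)

theorem exists_sw (hx : x ∈ L.C) (h : x ∉ L.Γ) : ∃ A B, Ok A B ∧ x = L.P A B * L.σ := by
  obtain ⟨A, B, h1, rfl | rfl⟩ := L.mem_C_iff.1 hx
  exacts [(h (L.P_mem_Γ h1)).elim, ⟨A, B, h1, rfl⟩]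

theorem mul_mem_Γ (hx : x ∈ L.C) (hy : y ∈ L.C) (h : x ∉ L.Γ) (h' : y ∉ L.Γ) : x * y ∈ L.Γ := by
  obtain ⟨A, B, h1, rfl⟩ := L.exists_sw hx h
  obtain ⟨A', B', h2, rfl⟩ := L.exists_sw hy h'
  rw [L.sw_mul_sw h1 h2]
  exact L.P_mem_Γ (h1.mul h2.symm)

theorem conj_Γ (hg : g ∈ L.C) (hx : x ∈ L.Γ) : g * x * g⁻¹ ∈ L.Γ := by
  obtain ⟨A, B, h, rfl⟩ := hx
  obtain ⟨X, Y, h1, rfl | rfl⟩ := L.mem_C_iff.1 hg
  · rw [L.P_conj h1 h]; exact L.P_mem_Γ (h1.conj h)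
  · rw [L.sw_conj_P h1 h]; exact L.P_mem_Γ (h1.conj h.symm)

theorem conj_Γ_iff (hg : g ∈ L.C) : g * x * g⁻¹ ∈ L.Γ ↔ x ∈ L.Γ :=
  ⟨fun h => by simpa [mul_assoc] using L.conj_Γ (inv_mem hg) h, L.conj_Γ hg⟩

theorem conj_H0 (hg : g ∈ L.C) (hx : x ∈ L.H0) : g * x * g⁻¹ ∈ L.H0 := by
  obtain ⟨a, b, rfl⟩ := hx
  obtain ⟨X, Y, h1, rfl | rfl⟩ := L.mem_C_iff.1 hg
  · rw [L.P_conj h1 (ok_sl a b)]; exact ⟨cs X h1.ne₁ a, cs Y h1.ne₂ b, rfl⟩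
  · rw [L.sw_conj_P h1 (ok_sl a b)]; exact ⟨cs X h1.ne₁ b, cs Y h1.ne₂ a, rfl⟩

theorem conj_H0_iff (hg : g ∈ L.C) : g * x * g⁻¹ ∈ L.H0 ↔ x ∈ L.H0 :=
  ⟨fun h => by simpa [mul_assoc] using L.conj_H0 (inv_mem hg) h, L.conj_H0 hg⟩

theorem mem_Γ_of_odd (hx : x ∈ L.C) (ho : Odd (orderOf x)) : x ∈ L.Γ :=
  FWR.mem_of_mul_self_mem ho (by
    by_cases h : x ∈ L.Γ
    exacts [mul_mem h h, L.mul_mem_Γ hx hx h h])

theorem relIndex_Γ : L.Γ.relIndex L.C = 2 :=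
  index_eq_two_iff.2 ⟨⟨L.σ, L.σ_mem_C⟩, fun b => by
    simp only [mem_subgroupOf, Subgroup.coe_mul]
    by_cases h : (b : G) ∈ L.Γ
    · exact .inr ⟨h, L.sw_not_mem h⟩
    · exact .inl ⟨(L.mem_or b.2).resolve_left h, h⟩⟩

theorem t_sq : L.t * L.t = 1 := by rw [← L.φ1_neg_one, ← map_mul]; simp

theorem t_inv : L.t⁻¹ = L.t := inv_eq_of_mul_eq_one_right L.t_sq

theorem t_t (x : G) : L.t * (L.t * x) = x := by rw [← mul_assoc, L.t_sq, one_mul]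

theorem t_ne_one : L.t ≠ 1 := fun e => by
  obtain ⟨c, h1, h2⟩ := (L.eq_one ok_t).1 e
  exact L.neg_one_ne (by simpa using congrFun (congrFun (h1.trans h2.symm) 0) 0)

theorem orderOf_t : orderOf L.t = 2 := orderOf_eq_prime (by rw [sq, L.t_sq]) L.t_ne_one

theorem t_mem_C : L.t ∈ L.C := L.mem_C.2 rfl

theorem t_mem_H0 : L.t ∈ L.H0 := L.φ1_neg_one ▸ L.φ1_mem_H0 _

theorem tz_eq : L.t * L.z = L.P mJ mJ := by rw [z, L.t_mul ok_z, L.P_neg_neg ok_JJ]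

theorem z_sq : L.z * L.z = 1 := by rw [z, L.mul ok_z ok_z]; simp [L.P_one]

theorem z_inv : L.z⁻¹ = L.z := inv_eq_of_mul_eq_one_right L.z_sq

theorem ww_sq : L.ww * L.ww = 1 := by
  rw [ww, L.mul ok_WW ok_WW, mW_mW, L.P_neg_neg ok_one, L.P_one]

theorem ww_inv : L.ww⁻¹ = L.ww := inv_eq_of_mul_eq_one_right L.ww_sq

theorem z_mem_Γ : L.z ∈ L.Γ := L.P_mem_Γ ok_z

theorem ww_mem_H0 : L.ww ∈ L.H0 := L.mem_H0_of_det det_mW det_mW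

theorem z_mem_C : L.z ∈ L.C := L.P_mem_C ok_z

theorem ww_mem_C : L.ww ∈ L.C := L.P_mem_C ok_WW

theorem z_t : L.z * L.t = L.t * L.z := L.mem_C.1 L.z_mem_C

theorem ww_t : L.ww * L.t = L.t * L.ww := L.mem_C.1 L.ww_mem_C

theorem σ_t : L.σ * L.t = L.t * L.σ := L.mem_C.1 L.σ_mem_C

theorem σ_z : L.σ * L.z = L.z * L.σ := by rw [z, L.swap ok_z, L.P_neg₂ ok_JJ]

theorem σ_ww : L.σ * L.ww = L.ww * L.σ := L.swap ok_WW

theorem ww_z : L.ww * L.z = L.z * L.ww :=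
  (L.comm_iff ok_WW ok_z).2 ⟨-1, by norm_num, by simp [mJ_mW], by simp [mJ_mW]⟩

theorem z_ne_one : L.z ≠ 1 := fun e => by
  obtain ⟨c, h1, h2⟩ := (L.eq_one ok_z).1 e
  have h3 := congrFun (congrFun h1 0) 0
  have h4 := congrFun (congrFun h1 1) 1
  exact L.neg_one_ne (by simp [mJ] at h3 h4; rw [h4, h3])

theorem tz_ne_one : L.t * L.z ≠ 1 := fun e => by
  obtain ⟨c, h1, h2⟩ := (L.eq_one ok_JJ).1 (L.tz_eq ▸ e)
  have h3 := congrFun (congrFun h1 0) 0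
  have h4 := congrFun (congrFun h1 1) 1
  exact L.neg_one_ne (by simp [mJ] at h3 h4; rw [h4, h3])

theorem z_ne_t : L.z ≠ L.t := fun e => L.tz_ne_one (by rw [e, L.t_sq])

theorem n1_eq : L.n1 = L.P mW 1 := by rw [n1, φ1_apply, coe_slN_one]

theorem n3_eq : L.n3 = L.P 1 mW := by rw [n3, φ3_apply, coe_slN_one]

theorem n1_n3 : L.n1 * L.n3 = L.ww := by rw [n1_eq, n3_eq, L.mul ok_W1 ok_1W, mul_one, one_mul, ww]

theorem n3_n1 : L.n3 * L.n1 = L.ww := by rw [n1_eq, n3_eq, L.mul ok_1W ok_W1, mul_one, one_mul, ww]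

theorem n1_sq : L.n1 * L.n1 = L.t := by rw [n1, ← map_mul, slN_mul_self, φ1_neg_one]

theorem n3_sq : L.n3 * L.n3 = L.t := by rw [n3, ← map_mul, slN_mul_self, φ3_neg_one]

theorem n1_mem_C : L.n1 ∈ L.C := L.φ1_mem_C _

theorem n3_mem_C : L.n3 ∈ L.C := L.φ3_mem_C _

theorem n1_z : L.n1 * L.z * L.n1⁻¹ = L.t * L.z := by
  rw [mul_inv_eq_iff_eq_mul, tz_eq, n1_eq, z, L.mul ok_W1 ok_z, L.mul ok_JJ ok_W1, mJ_mW,
    one_mul, mul_one, L.P_neg₂ (by simp [Ok])]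

theorem n3_z : L.n3 * L.z * L.n3⁻¹ = L.t * L.z := by
  rw [mul_inv_eq_iff_eq_mul, tz_eq, n3_eq, z, L.mul ok_1W ok_z, L.mul ok_JJ ok_1W, mJ_mW,
    one_mul, mul_one, mul_neg]

theorem n1_tz : L.n1 * (L.t * L.z) * L.n1⁻¹ = L.z := by
  rw [← conj_mul, L.n1_z, L.mem_C'.1 L.n1_mem_C, L.t_t]

theorem n3_tz : L.n3 * (L.t * L.z) * L.n3⁻¹ = L.z := by
  rw [← conj_mul, L.n3_z, L.mem_C'.1 L.n3_mem_C, L.t_t]

theorem n1_ww : L.n1 * L.ww * L.n1⁻¹ = L.ww := by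
  rw [mul_inv_eq_iff_eq_mul, ← L.n3_n1, ← mul_assoc, n1_n3, n3_n1]

theorem n3_ww : L.n3 * L.ww * L.n3⁻¹ = L.ww := by
  rw [mul_inv_eq_iff_eq_mul, ← L.n1_n3, ← mul_assoc, n3_n1, n1_n3]

theorem σ_n1 : L.σ * L.n1 * L.σ⁻¹ = L.n3 := L.σ_φ1 _

theorem n1_σ : L.n1 * L.σ * L.n1⁻¹ = L.t * (L.ww * L.σ) := by
  rw [n1_eq, ← one_mul L.σ, ← L.P_one, L.P_conj_sw ok_W1 ok_one, ww, L.P_one, one_mul, ← mul_assoc,
    L.t_mul ok_WW, ← L.P_neg₂ ok_WW]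
  simp [inv_mW]

theorem n3_σ : L.n3 * L.σ * L.n3⁻¹ = L.t * (L.ww * L.σ) := by
  rw [n3_eq, ← one_mul L.σ, ← L.P_one, L.P_conj_sw ok_1W ok_one, ww, L.P_one, one_mul, ← mul_assoc,
    L.t_mul ok_WW]
  simp [inv_mW]

theorem dg_mem_T {a b c d : F} (h : a * b * (c * d) = 1) : L.P (dg a b) (dg c d) ∈ L.T :=
  ⟨a, b, c, d, h, rfl⟩

theorem T_comm (hx : x ∈ L.T) (hy : y ∈ L.T) : x * y = y * x := by
  obtain ⟨a, b, c, d, h, rfl⟩ := hx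
  obtain ⟨a', b', c', d', h', rfl⟩ := hy
  rw [L.mul (ok_dg h) (ok_dg h'), L.mul (ok_dg h') (ok_dg h)]
  simp only [dg_mul, mul_comm]

theorem t_mem_T : L.t ∈ L.T := ⟨-1, -1, 1, 1, by simp, by rw [← neg_dg, dg_one, t]⟩

theorem z_mem_T : L.z ∈ L.T := ⟨1, -1, -1, 1, by simp, by rw [z, mJ_eq, neg_dg, neg_neg]⟩

theorem T_le_B0 : L.T ≤ L.B0 := fun _ hx =>
  L.mem_B0.2 ⟨L.T_comm hx L.t_mem_T, L.T_comm hx L.z_mem_T⟩

theorem ww_mem_B0 : L.ww ∈ L.B0 := L.mem_B0.2 ⟨L.ww_t, L.ww_z⟩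

theorem σ_mem_B0 : L.σ ∈ L.B0 := L.mem_B0.2 ⟨L.σ_t, L.σ_z⟩

theorem φ1_slH_mem (a : Fˣ) : L.φ1 (slH a) ∈ L.T :=
  ⟨a, (a : F)⁻¹, 1, 1, by simp, by rw [φ1_apply, coe_slH_eq, dg_one]⟩

theorem φ3_slH_mem (a : Fˣ) : L.φ3 (slH a) ∈ L.T :=
  ⟨1, 1, a, (a : F)⁻¹, by simp, by rw [φ3_apply, coe_slH_eq, dg_one]⟩

theorem n1_dg {a b c d : F} (h : a * b * (c * d) = 1) :
    L.n1 * L.P (dg a b) (dg c d) * L.n1⁻¹ = L.P (dg b a) (dg c d) := by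
  have h' : b * a * (c * d) = 1 := by linear_combination h
  rw [mul_inv_eq_iff_eq_mul, n1_eq, L.mul ok_W1 (ok_dg h), L.mul (ok_dg h') ok_W1, dg_mW,
    one_mul, mul_one]

theorem n3_dg {a b c d : F} (h : a * b * (c * d) = 1) :
    L.n3 * L.P (dg a b) (dg c d) * L.n3⁻¹ = L.P (dg a b) (dg d c) := by
  have h' : a * b * (d * c) = 1 := by linear_combination h
  rw [mul_inv_eq_iff_eq_mul, n3_eq, L.mul ok_1W (ok_dg h), L.mul (ok_dg h') ok_1W, dg_mW,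
    one_mul, mul_one]

theorem ww_dg {a b c d : F} (h : a * b * (c * d) = 1) :
    L.ww * L.P (dg a b) (dg c d) * L.ww⁻¹ = L.P (dg b a) (dg d c) := by
  rw [← L.n1_dg (a := a) (b := b) (c := d) (d := c) (by linear_combination h), ← L.n3_dg h, ← L.n1_n3]
  group

theorem σ_dg {a b c d : F} (h : a * b * (c * d) = 1) :
    L.σ * L.P (dg a b) (dg c d) * L.σ⁻¹ = L.P (dg c d) (dg a b) := L.σ_conj (ok_dg h)

variable [Finite G]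

theorem n1_N : L.n1 ∈ normalizer (L.T : Set G) := mem_normalizer_fintype (by
  rintro _ ⟨a, b, c, d, h, rfl⟩
  exact L.n1_dg h ▸ L.dg_mem_T (by linear_combination h))

theorem n3_N : L.n3 ∈ normalizer (L.T : Set G) := mem_normalizer_fintype (by
  rintro _ ⟨a, b, c, d, h, rfl⟩
  exact L.n3_dg h ▸ L.dg_mem_T (by linear_combination h))

theorem ww_N : L.ww ∈ normalizer (L.T : Set G) := L.n1_n3 ▸ mul_mem L.n1_N L.n3_N

theorem σ_N : L.σ ∈ normalizer (L.T : Set G) := mem_normalizer_fintype (by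
  rintro _ ⟨a, b, c, d, h, rfl⟩
  exact L.σ_dg h ▸ L.dg_mem_T (by linear_combination h))

end LD

end Cfsg.Lib.L45
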