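import Cfsg.Agent.L45.Inv
import Cfsg.Agent.L45.Cent

/-!
# Recognition of `L₄(q)`: the Coxeter relations in the normalizer of the torus
-/

set_option autoImplicit false

namespace Cfsg.Lib.L45

open Matrix Cfsg.Lib.Class Cfsg.Lib.Rank2.Lin Cfsg.Lib.Trans Subgroup
open scoped MatrixGroups commutatorElement

universe u v

variable {G : Type u} [Group G] {F : Type v} [Field F]

namespace Fr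

variable (Φ : Fr G F)

/-- The Weyl element `(23)`. -/
def n2 : G := Φ.ρ * Φ.n1 * Φ.ρ⁻¹

theorem n2_eq_1' : type_of% @n2.eq_1 := @n2.eq_1

theorem n2_def : Φ.n2 = Φ.ρ * Φ.n1 * Φ.ρ⁻¹ := rfl

theorem n2_z : Φ.n2 * Φ.z * Φ.n2⁻¹ = Φ.z := by
  rw [← Φ.ρ_t, n2_def]
  calc _ = Φ.ρ * (Φ.n1 * Φ.t * Φ.n1⁻¹) * Φ.ρ⁻¹ := by group
    _ = _ := by rw [Φ.mem_C'.1 Φ.n1_mem_C]

theorem n2_t : Φ.n2 * Φ.t * Φ.n2⁻¹ = Φ.t * Φ.z := by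
  calc _ = Φ.n2 * (Φ.ρ * (Φ.t * Φ.z) * Φ.ρ⁻¹) * Φ.n2⁻¹ := by rw [Φ.toL1.ρ_tz]
    _ = Φ.ρ * (Φ.n1 * (Φ.t * Φ.z) * Φ.n1⁻¹) * Φ.ρ⁻¹ := by rw [n2_def]; group
    _ = _ := by rw [Φ.n1_tz, Φ.ρ_z]

theorem n2_tz : Φ.n2 * (Φ.t * Φ.z) * Φ.n2⁻¹ = Φ.t := by
  rw [← conj_mul, n2_t, n2_z, mul_assoc, Φ.z_sq, mul_one]

theorem n2_sq : Φ.n2 * Φ.n2 = Φ.z := by rw [n2_def, conj_mul, Φ.n1_sq, Φ.ρ_t]

/-- A three-cycle on `t, z, t z`. -/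
theorem cube_mem_B0 {g : G} (h1 : g * Φ.t * g⁻¹ = Φ.z) (h2 : g * Φ.z * g⁻¹ = Φ.t * Φ.z) :
    g ^ 3 ∈ Φ.B0 := by
  have h3 : g * (Φ.t * Φ.z) * g⁻¹ = Φ.t := by
    rw [← conj_mul, h1, h2, ← Φ.z_t, ← mul_assoc, Φ.z_sq, one_mul]
  refine Φ.mem_B0.2 ⟨mul_inv_eq_iff_eq_mul.1 ?_, mul_inv_eq_iff_eq_mul.1 ?_⟩
  · calc _ = g * (g * (g * Φ.t * g⁻¹) * g⁻¹) * g⁻¹ := by rw [pow_three]; group
      _ = _ := by rw [h1, h2, h3]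
  · calc _ = g * (g * (g * Φ.z * g⁻¹) * g⁻¹) * g⁻¹ := by rw [pow_three]; group
      _ = _ := by rw [h2, h3, h1]

theorem n12_t : Φ.n1 * Φ.n2 * Φ.t * (Φ.n1 * Φ.n2)⁻¹ = Φ.z := by
  rw [← Φ.n1_tz, ← Φ.n2_t]; group

theorem n12_z : Φ.n1 * Φ.n2 * Φ.z * (Φ.n1 * Φ.n2)⁻¹ = Φ.t * Φ.z := by
  rw [← Φ.n1_z]; nth_rw 2 [← Φ.n2_z]; group

theorem n32_t : Φ.n3 * Φ.n2 * Φ.t * (Φ.n3 * Φ.n2)⁻¹ = Φ.z := by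
  rw [← Φ.n3_tz, ← Φ.n2_t]; group

theorem n32_z : Φ.n3 * Φ.n2 * Φ.z * (Φ.n3 * Φ.n2)⁻¹ = Φ.t * Φ.z := by
  rw [← Φ.n3_z]; nth_rw 2 [← Φ.n2_z]; group

variable [Finite G]

theorem n2_N : Φ.n2 ∈ normalizer (Φ.T : Set G) := mul_mem (mul_mem Φ.ρ_T Φ.n1_N) (inv_mem Φ.ρ_T)

theorem n2_B0 : Φ.n2 ∈ normalizer (Φ.B0 : Set G) := mem_normalizer_fintype fun x hx => by
  obtain ⟨h1, h2⟩ := Φ.mem_B0.1 hx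
  refine Φ.mem_B0.2 ⟨?_, ?_⟩
  · rw [← Φ.n2_tz, conj_mul, conj_mul, ← mul_assoc x, h1, mul_assoc _ x, h2, mul_assoc Φ.t]
  · rw [← Φ.n2_z, conj_mul, conj_mul, h2]

theorem cox : Φ.n2 * Φ.ww * Φ.n2⁻¹ * Φ.σ⁻¹ ∈ Φ.T ∧ Φ.n2 * Φ.σ * Φ.n2⁻¹ * Φ.ww⁻¹ ∈ Φ.T ∧
    (Φ.n1 * Φ.n2) ^ 3 ∈ Φ.T ∧ (Φ.n3 * Φ.n2) ^ 3 ∈ Φ.T := by
  let π := QuotientGroup.mk' (Φ.T.subgroupOf (normalizer (Φ.T : Set G)))
  have k : ∀ x, π x = 1 ↔ (x : G) ∈ Φ.T := fun x => QuotientGroup.eq_one_iff x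
  let r := π ⟨_, Φ.ρ_T⟩
  let a := π ⟨_, Φ.n1_N⟩
  let c := π ⟨_, Φ.n3_N⟩
  let w := π ⟨_, Φ.ww_N⟩
  let s := π ⟨_, Φ.σ_N⟩
  have w2 : w * w = 1 := (k (_ * _)).2 (Φ.ww_sq.symm ▸ one_mem _ : Φ.ww * Φ.ww ∈ Φ.T)
  have s2 : s * s = 1 := (k (_ * _)).2 (Φ.σ_sq.symm ▸ one_mem _ : Φ.σ * Φ.σ ∈ Φ.T)
  have sw : s * w = w * s := congrArg π (Subtype.ext Φ.σ_ww : (_ * _ : normalizer _) = _ * _)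
  have rw' : r * w * r⁻¹ = w * s := mul_inv_eq_one.1 ((k (_ * _ * _⁻¹ * (_ * _)⁻¹)).2 Φ.ρ_ww)
  have rs : r * s * r⁻¹ = w := mul_inv_eq_one.1 ((k (_ * _ * _⁻¹ * _⁻¹)).2 Φ.ρ_σ)
  have aw : a * w * a⁻¹ = w := congrArg π (Subtype.ext Φ.n1_ww : (_ * _ * _⁻¹ : normalizer _) = _)
  have cw : c * w * c⁻¹ = w := congrArg π (Subtype.ext Φ.n3_ww : (_ * _ * _⁻¹ : normalizer _) = _)
  have as : a * s * a⁻¹ = w * s := mul_inv_eq_one.1 ((k (_ * _ * _⁻¹ * (_ * _)⁻¹)).2 (by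
    change Φ.n1 * Φ.σ * Φ.n1⁻¹ * (Φ.ww * Φ.σ)⁻¹ ∈ Φ.T
    rw [Φ.n1_σ, mul_inv_cancel_right]; exact Φ.t_mem_T))
  have cs : c * s * c⁻¹ = w * s := mul_inv_eq_one.1 ((k (_ * _ * _⁻¹ * (_ * _)⁻¹)).2 (by
    change Φ.n3 * Φ.σ * Φ.n3⁻¹ * (Φ.ww * Φ.σ)⁻¹ ∈ Φ.T
    rw [Φ.n3_σ, mul_inv_cancel_right]; exact Φ.t_mem_T))
  have wsw : w * s * w = s := by rw [← sw, mul_assoc, w2, mul_one]
  have wws : w * (w * s) = s := by rw [← mul_assoc, w2, one_mul]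
  have rws : r * (w * s) * r⁻¹ = s := by rw [← conj_mul, rw', rs, wsw]
  have bw : r * a * r⁻¹ * w * (r * a * r⁻¹)⁻¹ = s := by
    calc _ = r * a * r⁻¹ * (r * s * r⁻¹) * (r * a * r⁻¹)⁻¹ := by rw [rs]
      _ = r * (a * s * a⁻¹) * r⁻¹ := by group
      _ = s := by rw [as, rws]
  have bs : r * a * r⁻¹ * s * (r * a * r⁻¹)⁻¹ = w := by
    calc _ = r * a * r⁻¹ * (r * (w * s) * r⁻¹) * (r * a * r⁻¹)⁻¹ := by rw [rws]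
      _ = r * (a * w * a⁻¹ * (a * s * a⁻¹)) * r⁻¹ := by group
      _ = w := by rw [aw, as, wws, rs]
  have key : ∀ (n : normalizer (Φ.T : Set G)), π n * w * (π n)⁻¹ = w → π n * s * (π n)⁻¹ = w * s →
      ((n : G) * Φ.n2) ^ 3 ∈ Φ.B0 → ((n : G) * Φ.n2) ^ 3 ∈ Φ.T := fun n h1 h2 h3 => by
    let g := n * ⟨_, Φ.n2_N⟩
    have g1 : π g * w * (π g)⁻¹ = w * s := by
      rw [← h2, ← bw]
      change π n * (r * a * r⁻¹) * w * (π n * (r * a * r⁻¹))⁻¹ = _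
      group
    have g2 : π g * s * (π g)⁻¹ = w := by
      rw [← h1, ← bs]
      change π n * (r * a * r⁻¹) * s * (π n * (r * a * r⁻¹))⁻¹ = _
      group
    have g3 : π g * π (g ^ 3) * (π g)⁻¹ = π (g ^ 3) := by rw [map_pow]; group
    obtain ⟨τ, hτ, e⟩ := Φ.B0_cases h3
    have hτ' : π ⟨τ, le_normalizer hτ⟩ = 1 := (k _).2 hτ
    rcases e with e | e | e | e
    · exact e ▸ hτ
    · have e1 : π (g ^ 3) = π ⟨τ, le_normalizer hτ⟩ * w :=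
        congrArg π (Subtype.ext e : g ^ 3 = _ * _)
      rw [e1, hτ', one_mul, g1, mul_eq_left] at g3
      exact absurd ((k _).1 g3) Φ.σ_not_mem_T
    · have e1 : π (g ^ 3) = π ⟨τ, le_normalizer hτ⟩ * s :=
        congrArg π (Subtype.ext e : g ^ 3 = _ * _)
      rw [e1, hτ', one_mul, g2] at g3
      exact absurd ((k (_ * _)).1 (show w * s = 1 by rw [g3, s2])) Φ.wwσ_not_mem
    · have e1 : π (g ^ 3) = π ⟨τ, le_normalizer hτ⟩ * (w * s) :=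
        congrArg π (Subtype.ext e : g ^ 3 = _ * (_ * _))
      rw [e1, hτ', one_mul, ← conj_mul, g1, g2, mul_eq_left] at g3
      exact absurd ((k _).1 g3) Φ.ww_not_mem
  exact ⟨(k (⟨_, Φ.n2_N⟩ * _ * _⁻¹ * _⁻¹)).1 (mul_inv_eq_one.2 bw),
    (k (⟨_, Φ.n2_N⟩ * _ * _⁻¹ * _⁻¹)).1 (mul_inv_eq_one.2 bs),
    key ⟨_, Φ.n1_N⟩ aw as (Φ.cube_mem_B0 Φ.n12_t Φ.n12_z),
    key ⟨_, Φ.n3_N⟩ cw cs (Φ.cube_mem_B0 Φ.n32_t Φ.n32_z)⟩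

theorem n2_ww : Φ.n2 * Φ.ww * Φ.n2⁻¹ * Φ.σ⁻¹ ∈ Φ.T := Φ.cox.1

theorem n2_σ : Φ.n2 * Φ.σ * Φ.n2⁻¹ * Φ.ww⁻¹ ∈ Φ.T := Φ.cox.2.1

theorem n12_cube : (Φ.n1 * Φ.n2) ^ 3 ∈ Φ.T := Φ.cox.2.2.1

theorem n32_cube : (Φ.n3 * Φ.n2) ^ 3 ∈ Φ.T := Φ.cox.2.2.2

theorem n23_cube : (Φ.n2 * Φ.n3) ^ 3 ∈ Φ.T := by
  have := mem_normalizer_conj Φ.n2_N Φ.n32_cube
  rwa [← conj_pow, ← mul_assoc, mul_inv_cancel_right] at this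

end Fr

end Cfsg.Lib.L45
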