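import Cfsg.Agent.FWR.LSBase

/-!
# Recognition of `L₄(q)`, `q` odd, by the centralizer of a 2-central involution: structures

`LD`: coordinates on `C(t)`; `L1`, `L2`, `Fr`: the fusion pattern and the frame;
`RS4`, `LS4`: twelve root groups permuted by the symmetric group of degree four.
-/

set_option autoImplicit false

namespace Cfsg.Lib.L45

open Matrix Cfsg.Lib.Class Cfsg.Lib.Rank2.Lin Cfsg.Lib.Trans Subgroup
open scoped MatrixGroups commutatorElement

universe u v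

/-- Square matrices of size two. -/
scoped notation "M2 " F:max => Matrix (Fin 2) (Fin 2) F

section Mat

variable {F : Type v} [Field F]

/-- The block diagonal matrix with blocks `A`, `B` has determinant one. -/
def Ok (A B : M2 F) : Prop := A.det * B.det = 1

/-- `diag (1, -1)`. -/
def mJ : M2 F := !![1, 0; 0, -1]

/-- The monomial matrix of order four. -/
def mW : M2 F := !![0, 1; -1, 0]

/-- A diagonal matrix. -/
def dg (a b : F) : M2 F := !![a, 0; 0, b]

@[simp] theorem det_mJ : (mJ : M2 F).det = -1 := by simp [mJ, det_fin_two]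

@[simp] theorem det_mW : (mW : M2 F).det = 1 := by simp [mW, det_fin_two]

@[simp] theorem det_dg (a b : F) : (dg a b).det = a * b := by simp [dg, det_fin_two]

theorem det_neg2 (A : M2 F) : (-A).det = A.det := by simp [det_neg]

theorem det_smul2 (c : F) (A : M2 F) : (c • A).det = c * c * A.det := by simp [sq]

theorem ok_sl (a b : SL(2, F)) : Ok (a : M2 F) (b : M2 F) := by simp [Ok]

theorem ok_sl1 (a : SL(2, F)) : Ok (a : M2 F) 1 := by simp [Ok]

theorem ok_1sl (a : SL(2, F)) : Ok 1 (a : M2 F) := by simp [Ok]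

theorem ok_dg {a b c d : F} (h : a * b * (c * d) = 1) : Ok (dg a b) (dg c d) := by simpa [Ok]

theorem Ok.mul {A B A' B' : M2 F} (h : Ok A B) (h' : Ok A' B') : Ok (A * A') (B * B') := by
  rw [Ok, det_mul, det_mul, mul_mul_mul_comm, h, h', one_mul]

theorem dg_mul (a b c d : F) : dg a b * dg c d = dg (a * c) (b * d) := by simp [dg]

theorem dg_one : (dg 1 1 : M2 F) = 1 := by simp [dg, one_fin_two]

end Mat

/-- Coordinates on the centralizer of `t = P (-1) 1`: `P A B` is the image of the block diagonal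
matrix with blocks `A`, `B`, and `σ` interchanges the two blocks. -/
structure LD (G : Type u) [Group G] (F : Type v) [Field F] where
  /-- the block diagonal elements -/
  P : M2 F → M2 F → G
  /-- the interchanging involution -/
  σ : G
  odd : Odd (Nat.card F)
  mul : ∀ {A B A' B' : M2 F}, Ok A B → Ok A' B' → P A B * P A' B' = P (A * A') (B * B')
  eq_one : ∀ {A B : M2 F}, Ok A B → (P A B = 1 ↔ ∃ c : F, A = c • (1 : M2 F) ∧ B = c • (1 : M2 F))
  σ_sq : σ * σ = 1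
  swap : ∀ {A B : M2 F}, Ok A B → σ * P A B = P B A * σ
  cent : ∀ x, x * P (-1) 1 = P (-1) 1 * x ↔ ∃ A B, Ok A B ∧ (x = P A B ∨ x = P A B * σ)

variable {G : Type u} [Group G] {F : Type v} [Field F]

namespace LD

variable (L : LD G F)

/-- The 2-central involution. -/
def t : G := L.P (-1) 1

/-- A second involution of the torus. -/
def z : G := L.P mJ (-mJ)

/-- The Weyl element `(12)(34)`. -/
def ww : G := L.P mW mW

/-- The centralizer of `t`. -/
abbrev C : Subgroup G := centralizer ({L.t} : Set G)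

/-- The centralizer of the four-group `⟨t, z⟩`. -/
abbrev B0 : Subgroup G := centralizer ({L.t} : Set G) ⊓ centralizer ({L.z} : Set G)

/-- The first factor. -/
def φ1 : SL(2, F) →* G := MonoidHom.mk' (fun s => L.P s 1) fun a b => by
  rw [L.mul (ok_sl1 a) (ok_sl1 b), mul_one]; rfl

/-- The second factor. -/
def φ3 : SL(2, F) →* G := MonoidHom.mk' (fun s => L.P 1 s) fun a b => by
  rw [L.mul (ok_1sl a) (ok_1sl b), mul_one]; rfl

/-- The diagonal. -/
def κ : SL(2, F) →* G := MonoidHom.mk' (fun s => L.P s s) fun a b => by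
  rw [L.mul (ok_sl a a) (ok_sl b b)]; rfl

/-- The Weyl element `(12)`. -/
def n1 : G := L.φ1 (slN 1)

/-- The Weyl element `(34)`. -/
def n3 : G := L.φ3 (slN 1)

theorem P_one : L.P 1 1 = 1 := (L.eq_one (by simp [Ok])).2 ⟨1, by simp⟩

/-- The block diagonal elements. -/
def Γ : Subgroup G where
  carrier := {x | ∃ A B, Ok A B ∧ x = L.P A B}
  mul_mem' := by
    rintro _ _ ⟨A, B, h, rfl⟩ ⟨A', B', h', rfl⟩
    exact ⟨_, _, h.mul h', L.mul h h'⟩
  one_mem' := ⟨1, 1, by simp [Ok], L.P_one.symm⟩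
  inv_mem' := by
    rintro _ ⟨A, B, h, rfl⟩
    have h1 : IsUnit A.det := .of_mul_eq_one _ h
    have h2 : IsUnit B.det := .of_mul_eq_one_right _ h
    have h3 : Ok A⁻¹ B⁻¹ := by
      rw [Ok, det_nonsing_inv, det_nonsing_inv, Ring.inverse_eq_inv', ← mul_inv, h, inv_one]
    exact ⟨_, _, h3, inv_eq_of_mul_eq_one_right (by
      rw [L.mul h h3, mul_nonsing_inv _ h1, mul_nonsing_inv _ h2, L.P_one])⟩

/-- The product of the two factors. -/
def H0 : Subgroup G where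
  carrier := {x | ∃ a b : SL(2, F), x = L.P a b}
  mul_mem' := by
    rintro _ _ ⟨a, b, rfl⟩ ⟨a', b', rfl⟩
    exact ⟨a * a', b * b', L.mul (ok_sl _ _) (ok_sl _ _)⟩
  one_mem' := ⟨1, 1, L.P_one.symm⟩
  inv_mem' := by
    rintro _ ⟨a, b, rfl⟩
    refine ⟨a⁻¹, b⁻¹, inv_eq_of_mul_eq_one_right ?_⟩
    rw [L.mul (ok_sl _ _) (ok_sl _ _), ← Matrix.SpecialLinearGroup.coe_mul,
      ← Matrix.SpecialLinearGroup.coe_mul,
      mul_inv_cancel, mul_inv_cancel]
    exact L.P_one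

/-- The diagonal torus. -/
def T : Subgroup G where
  carrier := {x | ∃ a b c d : F, a * b * (c * d) = 1 ∧ x = L.P (dg a b) (dg c d)}
  mul_mem' := by
    rintro _ _ ⟨a, b, c, d, h, rfl⟩ ⟨a', b', c', d', h', rfl⟩
    exact ⟨a * a', b * b', c * c', d * d', by linear_combination a' * b' * (c' * d') * h + h',
      by rw [L.mul (ok_dg h) (ok_dg h'), dg_mul, dg_mul]⟩
  one_mem' := ⟨1, 1, 1, 1, by simp, by rw [dg_one, L.P_one]⟩
  inv_mem' := by
    rintro _ ⟨a, b, c, d, h, rfl⟩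
    have h' : b * c * d * (a * c * d) * (a * b * d * (a * b * c)) = 1 := by
      linear_combination (a * b * (c * d) * (a * b * (c * d)) + a * b * (c * d) + 1) * h
    refine ⟨_, _, _, _, h', inv_eq_of_mul_eq_one_right ?_⟩
    rw [L.mul (ok_dg h) (ok_dg h'), dg_mul, dg_mul, show a * (b * c * d) = 1 by linear_combination h,
      show b * (a * c * d) = 1 by linear_combination h, show c * (a * b * d) = 1 by linear_combination h,
      show d * (a * b * c) = 1 by linear_combination h, dg_one, L.P_one]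

/-- Conjugate to `z` in `C(t)`. -/
def ZC (v : G) : Prop := ∃ c ∈ L.C, c * L.z * c⁻¹ = v

/-- Conjugate to `ww` in `C(t)`. -/
def BC (v : G) : Prop := ∃ c ∈ L.C, c * L.ww * c⁻¹ = v

/-- One block is scalar, the other one is not. -/
def UC (v : G) : Prop := ∃ (a : F) (B : M2 F), a ^ 4 = -1 ∧ Ok (a • 1) B ∧
  (v = L.P (a • 1) B ∨ v = L.P B (a • 1))

/-- The centralizer of the first root group moves `t`. -/
def Far1 : Prop := ¬ centralizer (XU L.φ1 : Set G) ≤ L.C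

/-- `y` centralizes the first root group and `z`, and is inverted by `t`. -/
def Neg (y : G) : Prop := y ^ ringChar F = 1 ∧ y ∈ centralizer (XU L.φ1 : Set G) ∧
  L.z * y * L.z⁻¹ = y ∧ L.t * y * L.t⁻¹ = y⁻¹

/-- A nontrivial element as in `Neg`. -/
def FarY : Prop := ∃ y, y ≠ 1 ∧ L.Neg y

/-- Two independent elements as in `Neg`. -/
def Far9 : Prop := ∃ y₁ y₂, y₁ ≠ 1 ∧ y₂ ∉ zpowers y₁ ∧ L.Neg y₁ ∧ L.Neg y₂

end LD

/-- The involutions `t, z, t z` are permuted by `ρ`. -/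
structure L1 (G : Type u) [Group G] (F : Type v) [Field F] extends LD G F where
  /-- the three-cycle -/
  ρ : G
  ρ_t : ρ * toLD.t * ρ⁻¹ = toLD.z
  ρ_z : ρ * toLD.z * ρ⁻¹ = toLD.t * toLD.z
  nsw : ∀ v ∈ toLD.Γ, IsConj toLD.t v → v = toLD.t ∨ toLD.ZC v

/-- The interchanging involutions of the first kind are conjugate to `t`. -/
structure L2 (G : Type u) [Group G] (F : Type v) [Field F] extends L1 G F where
  sw : ∀ A : M2 F, A.det ≠ 0 → IsConj toLD.t (P A A⁻¹ * σ)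

/-- A frame: `ρ` normalizes the torus. -/
structure Fr (G : Type u) [Group G] (F : Type v) [Field F] extends L2 G F where
  ρ_T : ρ ∈ normalizer (toLD.T : Set G)
  ρ_ww : ρ * toLD.ww * ρ⁻¹ * (toLD.ww * σ)⁻¹ ∈ toLD.T
  ρ_σ : ρ * σ * ρ⁻¹ * toLD.ww⁻¹ ∈ toLD.T
  nsw2 : Nat.card F % 4 = 3 → ∀ A : M2 F, A.det ≠ 0 → ¬ IsConj toLD.t (toLD.t * (P A A⁻¹ * σ))

/-- `τ` acts on the image of `φ` as the diagonal automorphism with character `α`. -/
def Dia (φ : SL(2, F) →* G) (τ : G) (α : Fˣ) : Prop :=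
  (∀ s, τ * φ (slU s) * τ⁻¹ = φ (slU (α * s))) ∧ ∀ s, τ * φ (slV s) * τ⁻¹ = φ (slV ((α : F)⁻¹ * s))

/-- Twelve root groups permuted by the symmetric group of degree four. -/
structure RS4 (G : Type u) [Group G] (F : Type v) [Field F] where
  /-- the rank one groups -/
  φ : Fin 4 → Fin 4 → SL(2, F) →* G
  /-- the torus -/
  T : Subgroup G
  odd : Odd (Nat.card F)
  inj : Function.Injective (φ 0 1)
  comm : ∀ a ∈ T, ∀ b ∈ T, a * b = b * a
  cop : (Nat.card T).Coprime (Nat.card F)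
  W : ∀ i j k l, i ≠ j → k ≠ l → ∃ τ ∈ T, cjh (φ i j (slN 1)) (φ k l) =
    cjh τ (φ (Equiv.swap i j k) (Equiv.swap i j l))
  N : ∀ i j, i ≠ j → φ i j (slN 1) ∈ normalizer (T : Set G)
  act : ∀ τ ∈ T, ∃ α, Dia (φ 0 1) τ α
  surj : ∀ α, ∃ τ ∈ T, Dia (φ 0 1) τ α
  H : ∀ a, φ 0 1 (slH a) ∈ T
  orth : ∀ a b, φ 0 1 a * φ 2 3 b = φ 2 3 b * φ 0 1 a
  z23 : φ 2 3 (-1) = φ 0 1 (-1)
  zmul : φ 0 1 (-1) * φ 1 2 (-1) = φ 0 2 (-1)
  zinv : ∀ x ∈ XU (φ 0 1), φ 1 2 (-1) * x * (φ 1 2 (-1))⁻¹ = x⁻¹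

namespace RS4

variable (Λ : RS4 G F)

/-- The root groups. -/
abbrev X (i j : Fin 4) : Subgroup G := XU (Λ.φ i j)

/-- The involutions of the rank one groups. -/
abbrev z (i j : Fin 4) : G := Λ.φ i j (-1)

/-- The group generated by the three fundamental rank one groups. -/
def G0 : Subgroup G := (Λ.φ 0 1).range ⊔ (Λ.φ 1 2).range ⊔ (Λ.φ 2 3).range

/-- The commutator relations of type `A₃`. -/
structure A3 : Prop where
  c1 : ∀ i j l, i ≠ j → i ≠ l → ⁅Λ.X i j, Λ.X i l⁆ = ⊥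
  c2 : ∀ i j k, i ≠ j → k ≠ j → ⁅Λ.X i j, Λ.X k j⁆ = ⊥
  c3 : ∀ i j k, i ≠ j → i ≠ k → k ≠ j → ⁅Λ.X i k, Λ.X k j⁆ ≤ Λ.X i j

/-- The centralizer of the first root group moves the involution. -/
def Far1 : Prop := ¬ centralizer (Λ.X 0 1 : Set G) ≤ centralizer {Λ.z 0 1}

/-- `y` centralizes `X 0 1` and `z 1 2`, and is inverted by `z 0 1`. -/
def Neg (y : G) : Prop := y ^ ringChar F = 1 ∧ y ∈ centralizer (Λ.X 0 1 : Set G) ∧
  Λ.z 1 2 * y * (Λ.z 1 2)⁻¹ = y ∧ Λ.z 0 1 * y * (Λ.z 0 1)⁻¹ = y⁻¹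

/-- Two independent elements as in `Neg`. -/
def Far9 : Prop := ∃ y₁ y₂, y₁ ≠ 1 ∧ y₂ ∉ zpowers y₁ ∧ Λ.Neg y₁ ∧ Λ.Neg y₂

end RS4

/-- The root groups together with the local data in the centralizer of `z 0 1`. -/
structure LS4 (G : Type u) [Group G] (F : Type v) [Field F] extends RS4 G F where
  iso : ∀ v ∈ centralizer (toRS4.X 0 1 : Set G), v * toRS4.z 0 1 = toRS4.z 0 1 * v →
    IsConj (toRS4.z 0 1) v → v = toRS4.z 0 1
  core : ∀ r ∈ FWR.Rc (toRS4.X 0 1), r * toRS4.z 0 1 = toRS4.z 0 1 * r → r ∈ toRS4.X 0 1 ⊔ T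
  oddl : ∀ W : Subgroup G, Odd (Nat.card W) → T ≤ normalizer (W : Set G) →
    W ≤ centralizer {toRS4.z 0 1} → ∃ E ∈ ({toRS4.X 0 1, toRS4.X 1 0} : Set (Subgroup G)),
      ∃ O ∈ ({toRS4.X 2 3, toRS4.X 3 2} : Set (Subgroup G)), W ≤ E ⊔ O ⊔ T

/-- The root groups live in the frame. -/
structure Fr.Has (Φ : Fr G F) (Λ : RS4 G F) : Prop where
  φ01 : Λ.φ 0 1 = Φ.φ1
  T : Λ.T = Φ.T
  r23 : (Λ.φ 2 3).range = Φ.φ3.range
  z12 : Λ.z 1 2 = Φ.z
  n12 : Λ.φ 1 2 (slN 1) * (Φ.ρ * Φ.n1 * Φ.ρ⁻¹)⁻¹ ∈ Φ.T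

/-- No subgroup of index two. -/
abbrev Nix (G : Type u) [Group G] : Prop := ∀ H : Subgroup G, H.index ≠ 2

/-! ### The work packages -/

/-- The coordinates exist. -/
def W0 : Prop := ∀ (G : Type u) [Group G] (F : Type v) [Field F] [Fintype F],
  Odd (Fintype.card F) → ∀ d : SL(4, F), (d : Matrix (Fin 4) (Fin 4) F) = diagonal ![-1, -1, 1, 1] →
  ∀ t : G, orderOf t = 2 → (centralizer ({t} : Set G) ≃*
    centralizer ({(QuotientGroup.mk d : PSL(4, F))} : Set PSL(4, F))) → Nonempty (LD G F)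

/-- Fusion for `q ≡ 1 (mod 4)`. -/
def W1a : Prop := ∀ (G : Type u) [Group G] [Finite G] (F : Type v) [Field F] [Finite F]
  (_ : LD G F), Nix G → Nat.card F % 4 = 1 → Nonempty (L1 G F)

/-- Fusion for `q ≡ 3 (mod 4)`. -/
def W1b : Prop := ∀ (G : Type u) [Group G] [Finite G] (F : Type v) [Field F] [Finite F]
  (_ : LD G F), Nix G → Nat.card F % 4 = 3 → Nonempty (L1 G F)

/-- The torus is invariant, `q ≠ 5`. -/
def W2a : Prop := ∀ (G : Type u) [Group G] [Finite G] (F : Type v) [Field F] [Finite F]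
  (Δ : L1 G F), Nat.card F ≠ 5 → Δ.ρ ∈ normalizer (Δ.T : Set G)

/-- The torus is invariant, `q = 5`. -/
def W2b : Prop := ∀ (G : Type u) [Group G] [Finite G] (F : Type v) [Field F] [Finite F]
  (Δ : L1 G F), Nat.card F = 5 → Δ.FarY → Δ.ρ ∈ normalizer (Δ.T : Set G)

/-- For `q = 5` the interchanging involutions are conjugate to `t`. -/
def W2c : Prop := ∀ (G : Type u) [Group G] [Finite G] (F : Type v) [Field F] [Finite F]
  (Δ : L1 G F), Nix G → Nat.card F = 5 → ∃ Δ' : L2 G F, Δ'.toL1 = Δ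

/-- The frame. -/
def W2d : Prop := ∀ (G : Type u) [Group G] [Finite G] (F : Type v) [Field F] [Finite F]
  (Δ : L1 G F), Δ.ρ ∈ normalizer (Δ.T : Set G) → Nonempty (Fr G F)

/-- The centralizer of a root group, `q ≡ 1 (mod 4)`. -/
def W4a : Prop := ∀ (G : Type u) [Group G] [Finite G] (F : Type v) [Field F] [Finite F]
  (Δ : L2 G F), Nat.card F % 4 = 1 → Δ.FarY

/-- The centralizer of a root group, `q ≡ 3 (mod 4)`, `q > 3`. -/
def W4b : Prop := ∀ (G : Type u) [Group G] [Finite G] (F : Type v) [Field F] [Finite F]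
  (Φ : Fr G F), Nat.card F % 4 = 3 → 3 < Nat.card F → Φ.Far1

/-- The centralizer of a root group, `q = 3`. -/
def W4c : Prop := ∀ (G : Type u) [Group G] [Finite G] (F : Type v) [Field F] [Finite F]
  (Φ : Fr G F), Nat.card F = 3 → Φ.Far9

/-- The root groups. -/
def W5a : Prop := ∀ (G : Type u) [Group G] [Finite G] (F : Type v) [Field F] [Finite F]
  (Φ : Fr G F), ∃ Λ : RS4 G F, Φ.Has Λ

/-- The local data. -/
def W5l : Prop := ∀ (G : Type u) [Group G] [Finite G] (F : Type v) [Field F] [Finite F]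
  (Φ : Fr G F) (Λ : RS4 G F), Φ.Has Λ → ∃ Λ' : LS4 G F, Λ'.toRS4 = Λ

/-- The commutator relations. -/
def W5b : Prop := ∀ (G : Type u) [Group G] [Finite G] (F : Type v) [Field F] [Finite F]
  (Λ : LS4 G F), (3 < Nat.card F ∧ Λ.Far1) ∨ (Nat.card F = 3 ∧ Λ.Far9) → Λ.A3

/-- Curtis-Tits. -/
def W6a : Prop := ∀ (G : Type u) [Group G] [Finite G] (F : Type v) [Field F] [Finite F]
  (Λ : RS4 G F), Λ.A3 → ∃ f : SL(4, F) →* Λ.G0 ⧸ center Λ.G0, Function.Surjective f

/-- The group generated by the root groups is everything. -/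
def W6b : Prop := ∀ (G : Type u) [Group G] [Finite G] (F : Type v) [Field F] [Finite F]
  (Φ : Fr G F) (Λ : RS4 G F), Nix G → Φ.Has Λ →
  (∃ f : SL(4, F) →* Λ.G0 ⧸ center Λ.G0, Function.Surjective f) → Nonempty (G ≃* PSL(4, F))

end Cfsg.Lib.L45
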