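import Cfsg.Agent.L45.RSBase
import Cfsg.Agent.Bender.CoreBasic2
import Cfsg.Agent.Bender.TwoRank
import Cfsg.Agent.Solv.PGroupNormal

/-!
# Twelve root groups: the odd core of the centralizer of a root group
-/

set_option autoImplicit false

namespace Cfsg.Lib.L45

open Matrix Cfsg.Lib.Class Cfsg.Lib.Rank2.Lin Cfsg.Lib.Trans Subgroup Equiv Cfsg.Lib.FWR Cfsg.Lib.G2T
open scoped MatrixGroups commutatorElement

universe u v

variable {G : Type u} [Group G] {F : Type v} [Field F]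

theorem exists_fix_mod [Finite G] {p : ℕ} [Fact p.Prime] {P U V : Subgroup G} (hP : IsPGroup p P)
    (hU : IsPGroup p U) (hPU : P ≤ normalizer (U : Set G)) (hn : ¬ U ≤ V) :
    ∃ u ∈ U, u ∉ V ∧ ∀ g ∈ P, ⁅u, g⁆ ∈ V := by
  induction hc : Nat.card U using Nat.strong_induction_on generalizing U with
  | _ n ih =>
  by_cases h : ⁅U, P⁆ ≤ V
  · obtain ⟨u, hu, hv⟩ := SetLike.not_le_iff_exists.1 hn
    exact ⟨u, hu, hv, fun p hp => h (commutator_mem_commutator hu hp)⟩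
  · have hlt := Solv.PG.commutator_lt hP hU hPU (fun e => hn (e ▸ bot_le))
    obtain ⟨u, hu, r⟩ := ih _ (hc ▸ card_lt_of_lt hlt) (hU.to_le hlt.le)
      (fun p hp => cj_eq_self_iff.1 (by
        rw [cj_commutator, cj_eq_of_mem_normalizer (hPU hp), cj_eq_of_mem hp])) h rfl
    exact ⟨u, hlt.le hu, r⟩

theorem pgroup_zpowers' {p k : ℕ} {a : G} (h : a ^ p ^ k = 1) : IsPGroup p (zpowers a) := by
  rintro ⟨_, m, rfl⟩
  refine ⟨k, Subtype.ext ?_⟩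
  change (a ^ m) ^ p ^ k = 1
  rw [← zpow_natCast, ← _root_.zpow_mul, mul_comm, _root_.zpow_mul, zpow_natCast, h, _root_.one_zpow]

theorem le_of_three [Finite G] {W H : Subgroup G} (ho : Odd (Nat.card W)) {a b : G}
    (ha : orderOf a = 2) (hb : orderOf b = 2) (hne : a ≠ b) (hab : a * b = b * a)
    (na : a ∈ normalizer (W : Set G)) (nb : b ∈ normalizer (W : Set G))
    (h1 : ∀ x ∈ W, a * x * a⁻¹ = x → x ∈ H) (h2 : ∀ x ∈ W, b * x * b⁻¹ = x → x ∈ H)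
    (h3 : ∀ x ∈ W, a * b * x * (a * b)⁻¹ = x → x ∈ H) : W ≤ H := by
  refine Bender.le_of_four_group ha hb hne hab ho na nb fun c hc h4 x hx => ?_
  have e1 : a * a = 1 := by rw [← sq, ← ha, pow_orderOf_eq_one]
  have e2 : b * b = 1 := by rw [← sq, ← hb, pow_orderOf_eq_one]
  have e3 : ∀ x, a * (a * x) = x := fun x => by rw [← mul_assoc, e1, one_mul]
  have e4 : ∀ x, b * (a * x) = a * (b * x) := fun x => by rw [← mul_assoc, ← hab, mul_assoc]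
  have h5 : c = 1 ∨ c = a ∨ c = b ∨ c = a * b := by
    clear h4 hx
    induction hc using closure_induction_left with
    | one => exact .inl rfl
    | mul_left g hg c _ ih =>
      rcases hg with rfl | rfl <;> rcases ih with rfl | rfl | rfl | rfl <;> simp [e1, e2, e3, e4, ← hab]
    | inv_mul_cancel g hg c _ ih =>
      rcases hg with rfl | rfl <;> rcases ih with rfl | rfl | rfl | rfl <;>
        simp [inv_eq_of_mul_eq_one_right e1, inv_eq_of_mul_eq_one_right e2, e1, e2, e3, e4, ← hab]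
  have h6 := mul_inv_eq_iff_eq_mul.2 (mem_centralizer_singleton_iff.1 hx.2).symm
  rcases h5 with rfl | rfl | rfl | rfl
  exacts [by simp at h4, h1 x hx.1 h6, h2 x hx.1 h6, h3 x hx.1 h6]

namespace RS4

variable (Λ : RS4 G F) {i j k l : Fin 4} {n τ x y : G} {π : Perm (Fin 4)}

theorem zmul' : Λ.z 0 1 * Λ.z 1 2 = Λ.z 0 2 := Λ.zmul

include Λ in
theorem prime : (ringChar F).Prime := have := Λ.finF; CharP.char_is_prime F _

theorem pgX (i j : Fin 4) : IsPGroup (ringChar F) (Λ.X i j) := by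
  rintro ⟨_, s, rfl⟩
  exact ⟨1, Subtype.ext (by
    change Λ.φ i j (slU s) ^ ringChar F ^ 1 = 1
    rw [pow_one, ← map_pow, slU_pow_char, map_one])⟩

include Λ in
theorem odd_char : Odd (ringChar F) := by
  have := Λ.finF
  have := Fintype.ofFinite F
  obtain ⟨n, -, h⟩ := FiniteField.card F (ringChar F)
  have h1 := Λ.odd
  rw [Nat.card_eq_fintype_card, h] at h1
  exact (Nat.odd_pow_iff n.ne_zero).1 h1

theorem eq_one_of_T [Finite G] (hτ : τ ∈ Λ.T) {m : ℕ} (h : τ ^ ringChar F ^ m = 1) : τ = 1 := by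
  have := Λ.finF
  have := Fintype.ofFinite F
  obtain ⟨n, -, h1⟩ := FiniteField.card F (ringChar F)
  have h2 := Λ.cop
  rw [Nat.card_eq_fintype_card (α := F), h1, Nat.coprime_pow_right_iff n.pos] at h2
  exact orderOf_eq_one_iff.1 (Nat.eq_one_of_dvd_coprimes (h2.pow_right m) (orderOf_dvd_natCard _ hτ)
    (orderOf_dvd_of_pow_eq_one h))

/-- A `p`-element of `P T` lies in `P`. -/
theorem mem_of_pow [Finite G] {P : Subgroup G} (hP : IsPGroup (ringChar F) P)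
    (hT : Λ.T ≤ normalizer (P : Set G)) (hx : x ∈ P ⊔ Λ.T) {m : ℕ} (h : x ^ ringChar F ^ m = 1) :
    x ∈ P := by
  obtain ⟨τ, hτ, g, hg, rfl⟩ := exists_mul_of_mem_sup hT (sup_comm P _ ▸ hx)
  have h1 : τ * g = τ * g * τ⁻¹ * τ := by group
  obtain ⟨a, ha, e⟩ := exists_mul_pow (hT hτ) (mem_normalizer_conj (hT hτ) hg) (ringChar F ^ m)
  rw [← h1, h, eq_comm, mul_eq_one_iff_eq_inv] at e
  obtain ⟨k, hk⟩ := hP ⟨_, inv_mem ha⟩
  have h2 : τ ^ ringChar F ^ (m + k) = 1 := by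
    rw [pow_add, pow_mul, ← inv_inv (τ ^ _), ← e]; exact congrArg Subtype.val hk
  rwa [Λ.eq_one_of_T hτ h2, one_mul]

/-- The root groups commute. -/
def Cm (i j k l : Fin 4) : Prop := ⁅Λ.X i j, Λ.X k l⁆ = ⊥

variable {Λ}

theorem Cm.symm (h : Λ.Cm i j k l) : Λ.Cm k l i j := by rwa [Cm, commutator_comm]

theorem Cm.mo (h : Λ.Cm i j k l) (hij : i ≠ j) (hkl : k ≠ l) (π : Perm (Fin 4)) :
    Λ.Cm (π i) (π j) (π k) (π l) := by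
  obtain ⟨n, -, hn⟩ := Λ.exists_mo π
  rw [Cm, ← hn.cjX hij, ← hn.cjX hkl, ← cj_commutator, h, cj_bot]

theorem Cm.comm (h : Λ.Cm i j k l) (hx : x ∈ Λ.X i j) (hy : y ∈ Λ.X k l) : x * y = y * x :=
  comm_eq_bot_iff.1 h x hx y hy

theorem Cm.le_C (h : Λ.Cm i j k l) : Λ.X k l ≤ centralizer (Λ.X i j : Set G) :=
  fun _ hy _ hx => h.comm hx hy

theorem Cm.le_N (h : Λ.Cm i j k l) : Λ.X k l ≤ normalizer (Λ.X i j : Set G) :=
  h.le_C.trans (centralizer_le_normalizer _)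

variable (Λ)

theorem cm_orth (hij : i ≠ j) (hik : i ≠ k) (hjk : j ≠ k) (hil : i ≠ l) (hjl : j ≠ l) (hkl : k ≠ l) :
    Λ.Cm i j k l := comm_eq_bot_iff.2 fun _ hx _ hy =>
  Λ.orth' hij hik hjk hil hjl hkl (Λ.X_le_range _ _ hx) (Λ.X_le_range _ _ hy)

/-- A torus invariant subgroup contains the components of its elements. -/
theorem split (big : 3 < Nat.card F) (hij : i ≠ j) (hik : i ≠ k) (hjk : j ≠ k) (hil : i ≠ l)
    (hjl : j ≠ l) (hkl : k ≠ l) {W : Subgroup G} (hW : Λ.T ≤ normalizer (W : Set G))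
    (hx : x ∈ Λ.X i j) (hy : y ∈ Λ.X k l) (h : x * y ∈ W) : x ∈ W ∧ y ∈ W := by
  have := Λ.finF
  suffices h1 : y ∈ W from ⟨(mul_mem_cancel_right h1).1 h, h1⟩
  obtain ⟨s, rfl⟩ := hy
  obtain ⟨a, ha⟩ := FL.exists_sq_ne (F := F) Λ.odd big.ne'
  have h2 := mul_mem (inv_mem h) (mem_normalizer_conj (hW (Λ.H' hkl a)) h)
  rw [← conj_mul, (dia_H _ a).1, ← Λ.orth' hij hik hjk hil hjl hkl (Λ.X_le_range _ _ hx) ⟨_, rfl⟩,
    mul_inv_cancel_right, _root_.mul_inv_rev, mul_assoc, inv_mul_cancel_left, ← map_inv, ← map_mul,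
    ← slU_neg, ← slU_add] at h2
  by_cases hs : s = 0
  · rw [hs, slU_zero, map_one]; exact one_mem _
  refine Λ.irr hkl hW (mem_XU _ _) (Λ.U_ne hkl fun e => ?_) h2 (mem_XU _ _)
  exact ha (mul_right_cancel₀ hs (by push_cast at e; linear_combination e))

end RS4

namespace LS4

variable (Λ : LS4 G F) {i j k l : Fin 4} {n τ r x y : G}

theorem oddl' (hij : i ≠ j) (hik : i ≠ k) (hjk : j ≠ k) (hil : i ≠ l) (hjl : j ≠ l) (hkl : k ≠ l)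
    {W : Subgroup G} (ho : Odd (Nat.card W)) (hT : Λ.T ≤ normalizer (W : Set G))
    (hC : W ≤ centralizer {Λ.z i j}) : ∃ a b c d, (a = i ∧ b = j ∨ a = j ∧ b = i) ∧
      (c = k ∧ d = l ∨ c = l ∧ d = k) ∧ W ≤ Λ.X a b ⊔ Λ.X c d ⊔ Λ.T := by
  obtain ⟨π, rfl, rfl, rfl, rfl⟩ := exists_perm4 hij hik hjk hil hjl hkl
  obtain ⟨n, -, hn⟩ := Λ.exists_mo π
  obtain ⟨E, hE, O, hO, h⟩ := Λ.oddl (cj n⁻¹ W) (by rwa [card_cj])
    (by rw [← cj_normalizer, ← cj_le_iff_le_cj_inv, cj_eq_of_mem_normalizer hn.1]; exact hT)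
    (fun x hx => mem_centralizer_singleton_iff.2 (by
      have := mem_centralizer_singleton_iff.1 (hC (mem_cj_inv.1 hx))
      rwa [← hn.z (by decide), conj_mul, conj_mul, conj_inj'] at this))
  rw [cj_inv_le_iff_le_cj, cj_sup, cj_sup, cj_eq_of_mem_normalizer hn.1] at h
  rcases hE with rfl | rfl <;> rcases hO with rfl | rfl <;>
    rw [hn.cjX (by decide), hn.cjX (by decide)] at h
  exacts [⟨_, _, _, _, .inl ⟨rfl, rfl⟩, .inl ⟨rfl, rfl⟩, h⟩, ⟨_, _, _, _, .inl ⟨rfl, rfl⟩, .inr ⟨rfl, rfl⟩, h⟩,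
    ⟨_, _, _, _, .inr ⟨rfl, rfl⟩, .inl ⟨rfl, rfl⟩, h⟩, ⟨_, _, _, _, .inr ⟨rfl, rfl⟩, .inr ⟨rfl, rfl⟩, h⟩]

/-- The odd core of the centralizer of the first root group. -/
abbrev R : Subgroup G := Rc (Λ.X 0 1)

/-- The involution of the first rank one group. -/
abbrev t : G := Λ.z 0 1

variable {Λ}

theorem R_le_C (hr : r ∈ Λ.R) : r ∈ centralizer (Λ.X 0 1 : Set G) := map_subtype_le _ hr

theorem R_comm (hr : r ∈ Λ.R) (hx : x ∈ Λ.X 0 1) : x * r = r * x := R_le_C hr x hx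

theorem N_R (hn : n ∈ normalizer (Λ.X 0 1 : Set G)) : n ∈ normalizer (Λ.R : Set G) :=
  ((normalizer_le_normalizer_centralizer _).trans
    (Solv.normalizer_le_normalizer_map_pPrimeCore 2 _)) hn

variable (Λ) in
theorem T_N_R : Λ.T ≤ normalizer (Λ.R : Set G) := fun _ h => N_R (Λ.T_N (by decide) h)

variable [Finite G]

variable (Λ) in
theorem odd_R : Odd (Nat.card Λ.R) := by
  rw [R, Rc, card_map_of_injective (subtype_injective _)]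
  exact Solv.odd_card_oddCore _

theorem R_odd (hr : r ∈ Λ.R) : Odd (orderOf r) := FL.Rc_odd hr

variable (Λ) in
theorem X_le_R : Λ.X 0 1 ≤ Λ.R := have := Λ.finF; FL.X_le_Rc Λ.odd Λ.inj

theorem zstar {g : G} (hg : g ∈ centralizer (Λ.X 0 1 : Set G)) : Λ.t * g * Λ.t⁻¹ * g⁻¹ ∈ Λ.R := by
  have hz : Λ.t ∈ centralizer (Λ.X 0 1 : Set G) := fun x hx =>
    (mul_inv_eq_iff_eq_mul.1 (Λ.fixX hx)).symm
  have h := Block.Princ.zstar (z := (⟨_, hz⟩ : centralizer (Λ.X 0 1 : Set G))) ⟨by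
    rw [orderOf_mk]; exact Λ.orderOf_z (by decide), fun c hc =>
    Subtype.ext (Λ.iso _ (c * ⟨_, hz⟩ * c⁻¹).2 (congrArg Subtype.val hc.eq).symm
      (isConj_iff.2 ⟨c, rfl⟩))⟩ ⟨g, hg⟩
  exact ⟨_, h, rfl⟩

theorem mem_R (hy : y ∈ centralizer (Λ.X 0 1 : Set G)) (ho : Odd (orderOf y))
    (h : Λ.t * y * Λ.t⁻¹ = y⁻¹) : y ∈ Λ.R := by
  have h1 := zstar hy
  rw [h, ← _root_.mul_inv_rev, inv_mem_iff] at h1
  exact mem_of_mul_self_mem ho h1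

/-- The elements of `R` fixed by `a` and inverted by `t`. -/
def J (Λ : LS4 G F) (a y : G) : Prop := y ∈ Λ.R ∧ a * y * a⁻¹ = y ∧ Λ.t * y * Λ.t⁻¹ = y⁻¹

omit [Finite G] in
theorem mem_T_of_fix {a : G} (ha : a ∈ Λ.T) (hi : ∀ x ∈ Λ.X 0 1, a * x * a⁻¹ = x⁻¹) (hr : r ∈ Λ.R)
    (h1 : Λ.t * r * Λ.t⁻¹ = r) (h2 : a * r * a⁻¹ = r) : r ∈ Λ.T := by
  obtain ⟨τ, hτ, x, hx, rfl⟩ := exists_mul_of_mem_sup (Λ.T_N (i := 0) (j := 1) (by decide))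
    (by rw [sup_comm]; exact Λ.core r hr (mul_inv_eq_iff_eq_mul.1 h1).symm)
  rw [← conj_mul, Λ.comm a ha τ hτ, mul_inv_cancel_right, mul_right_inj] at h2
  rwa [eq_one_of_fix_inv (Λ.oddX hx) h2 (hi x hx), mul_one]

theorem dec_fix {a : G} (ha : a ∈ Λ.T) (hi : ∀ x ∈ Λ.X 0 1, a * x * a⁻¹ = x⁻¹) {W : Subgroup G}
    (hW : W ≤ Λ.R) (hN : Λ.t ∈ normalizer (W : Set G)) (hr : r ∈ W) (h : a * r * a⁻¹ = r) :
    ∃ τ ∈ Λ.T, τ ∈ W ∧ ∃ y ∈ W, Λ.J a y ∧ r = τ * y := by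
  obtain ⟨c, hc, y, hy, h1, h2, rfl⟩ := exists_dec (R := W ⊓ centralizer {a})
    (fun x hx => R_odd (hW hx.1)) (Λ.z_sq 0 1) (fun x => mem_normalizer_conj
      (N_inf hN (N_cent (Λ.comm _ (Λ.z_mem (by decide)) _ ha))))
    ⟨hr, mem_centralizer_singleton_iff.2 (mul_inv_eq_iff_eq_mul.1 h).symm⟩
  have k : ∀ x ∈ W ⊓ centralizer {a}, a * x * a⁻¹ = x := fun x hx =>
    mul_inv_eq_iff_eq_mul.2 (mem_centralizer_singleton_iff.1 hx.2).symm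
  exact ⟨c, mem_T_of_fix ha hi (hW hc.1) h1 (k c hc), hc.1, y, hy.1, ⟨hW hy.1, k y hy, h2⟩, rfl⟩

/-- What is known about the fixed points of `a` in `R`. -/
structure Sd (Λ : LS4 G F) (a : G) (V : Subgroup G) : Prop where
  mem : a ∈ Λ.T
  sq : a * a = 1
  inv : ∀ x ∈ Λ.X 0 1, a * x * a⁻¹ = x⁻¹
  le : V ≤ Λ.R
  pg : IsPGroup (ringChar F) V
  norm : Λ.T ≤ normalizer (V : Set G)
  iff : ∀ y, y ∈ V ↔ Λ.J a y

theorem exists_sd (hij : i ≠ j) (hik : i ≠ k) (hjk : j ≠ k) (hil : i ≠ l) (hjl : j ≠ l) (hkl : k ≠ l)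
    (hi : ∀ x ∈ Λ.X 0 1, Λ.z i j * x * (Λ.z i j)⁻¹ = x⁻¹) (ht : Λ.t = Λ.z i k) :
    ∃ V a b c d, (a = i ∧ b = j ∨ a = j ∧ b = i) ∧
      (c = k ∧ d = l ∨ c = l ∧ d = k) ∧ V ≤ Λ.X a b ⊔ Λ.X c d ∧ Λ.Sd (Λ.z i j) V := by
  have := Fact.mk Λ.prime
  have nI : Λ.T ≤ normalizer ((Λ.R ⊓ centralizer {Λ.z i j} : Subgroup G) : Set G) := fun τ hτ =>
    N_inf (Λ.T_N_R hτ) (N_cent (Λ.comm _ hτ _ (Λ.z_mem hij)))
  obtain ⟨a, b, c, d, h1, h2, h3⟩ := Λ.oddl' hij hik hjk hil hjl hkl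
    (Λ.odd_R.of_dvd_nat (card_dvd_of_le inf_le_left)) nI inf_le_right
  have hab : a ≠ b := by rcases h1 with ⟨rfl, rfl⟩ | ⟨rfl, rfl⟩; exacts [hij, hij.symm]
  have hcd : c ≠ d := by rcases h2 with ⟨rfl, rfl⟩ | ⟨rfl, rfl⟩; exacts [hkl, hkl.symm]
  have cm : Λ.Cm a b c d := by
    rcases h1 with ⟨rfl, rfl⟩ | ⟨rfl, rfl⟩ <;> rcases h2 with ⟨rfl, rfl⟩ | ⟨rfl, rfl⟩ <;>
      apply Λ.cm_orth <;> assumption
  have i1 : ∀ x ∈ Λ.X a b, Λ.t * x * Λ.t⁻¹ = x⁻¹ := fun x hx => by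
    rw [ht]
    rcases h1 with ⟨rfl, rfl⟩ | ⟨rfl, rfl⟩
    exacts [Λ.invX' hij hik hjk hx, Λ.invX hij.symm hjk hik hx]
  have i2 : ∀ x ∈ Λ.X c d, Λ.t * x * Λ.t⁻¹ = x⁻¹ := fun x hx => by
    rw [ht, ← Λ.z_symm hik]
    rcases h2 with ⟨rfl, rfl⟩ | ⟨rfl, rfl⟩
    exacts [Λ.invX' hkl hik.symm hil.symm hx, Λ.invX hkl.symm hil.symm hik.symm hx]
  have i3 : ∀ y ∈ Λ.X a b ⊔ Λ.X c d, Λ.t * y * Λ.t⁻¹ = y⁻¹ := fun y hy => by
    obtain ⟨e, he, o, ho, rfl⟩ := exists_mul_of_mem_sup cm.symm.le_N hy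
    rw [← conj_mul, i1 e he, i2 o ho, ← _root_.mul_inv_rev, cm.comm he ho]
  have nP : Λ.T ≤ normalizer ((Λ.X a b ⊔ Λ.X c d : Subgroup G) : Set G) := fun τ hτ =>
    N_sup (Λ.T_N hab hτ) (Λ.T_N hcd hτ)
  refine ⟨Λ.R ⊓ centralizer {Λ.z i j} ⊓ (Λ.X a b ⊔ Λ.X c d), a, b, c, d, h1, h2, inf_le_right,
    Λ.z_mem hij, Λ.z_sq _ _, hi, inf_le_left.trans inf_le_left,
    ((Λ.pgX a b).to_sup_of_normal_right' (Λ.pgX c d) cm.symm.le_N).to_le inf_le_right,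
    fun τ hτ => N_inf (nI hτ) (nP hτ), fun y => ⟨fun hy => ⟨hy.1.1, mul_inv_eq_iff_eq_mul.2
      (mem_centralizer_singleton_iff.1 hy.1.2).symm, i3 y hy.2⟩, fun hy => ?_⟩⟩
  have h4 : y ∈ Λ.R ⊓ centralizer {Λ.z i j} :=
    ⟨hy.1, mem_centralizer_singleton_iff.2 (mul_inv_eq_iff_eq_mul.1 hy.2.1).symm⟩
  refine ⟨h4, ?_⟩
  obtain ⟨τ, hτ, g, hg, e⟩ := exists_mul_of_mem_sup nP (by rw [sup_comm]; exact h3 h4)
  have h5 := hy.2.2
  refine mem_of_mul_self_mem (R_odd hy.1) (inv_mem_iff.1 ?_)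
  rw [_root_.mul_inv_rev]
  nth_rewrite 2 [← h5]
  rw [e, ← conj_mul, i3 g hg, Λ.comm _ (Λ.z_mem (by decide)) τ hτ, mul_inv_cancel_right,
    _root_.mul_inv_rev, mul_assoc, inv_mul_cancel_left]
  exact mul_mem (inv_mem hg) (inv_mem hg)

variable {V₁ V₂ : Subgroup G} (h₁ : Λ.Sd (Λ.z 1 2) V₁) (h₂ : Λ.Sd (Λ.z 0 2) V₂)
include h₁ h₂

theorem le_of_sd {W H : Subgroup G} (hW : W ≤ Λ.R) (n₁ : Λ.t ∈ normalizer (W : Set G))
    (n₂ : Λ.z 1 2 ∈ normalizer (W : Set G)) (h0 : ∀ r ∈ W, r ∈ Λ.X 0 1 ⊔ Λ.T → r ∈ H)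
    (k₁ : W ⊓ V₁ ≤ H) (k₂ : W ⊓ V₂ ≤ H) : W ≤ H := by
  refine le_of_three (Λ.odd_R.of_dvd_nat (card_dvd_of_le hW)) (Λ.orderOf_z (by decide))
    (Λ.orderOf_z (by decide)) (fun e => Λ.z_ne_one (i := 0) (j := 2) (by decide) ?_)
    (Λ.z_comm (by decide) (by decide)) n₁ n₂
    (fun x hx h => h0 x hx (Λ.core x (hW hx) (mul_inv_eq_iff_eq_mul.1 h).symm))
    (fun x hx h => ?_) fun x hx h => ?_
  · rw [← Λ.zmul', e, Λ.z_sq]
  · obtain ⟨τ, hτ, h3, y, hy, h4, rfl⟩ := dec_fix h₁.mem h₁.inv hW n₁ hx h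
    exact mul_mem (h0 τ h3 (mem_sup_right hτ)) (k₁ ⟨hy, (h₁.iff y).2 h4⟩)
  · rw [Λ.zmul'] at h
    obtain ⟨τ, hτ, h3, y, hy, h4, rfl⟩ := dec_fix h₂.mem h₂.inv hW n₁ hx h
    exact mul_mem (h0 τ h3 (mem_sup_right hτ)) (k₂ ⟨hy, (h₂.iff y).2 h4⟩)

omit h₁ h₂ in
theorem Sd.le_sylow {a : G} {V S : Subgroup G} (h : Λ.Sd a V) (hS : IsSylowIn (ringChar F) S Λ.R)
    (hN : a ∈ normalizer (S : Set G)) : V ≤ S := by
  have := Fact.mk Λ.prime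
  refine ((Bender.isSylowIn_inf_C1 Λ.odd_R h.sq (Λ.T_N_R h.mem) hS hN).le_of_normal h.pg
    (fun y hy => ⟨h.le hy, mem_centralizer_singleton_iff.2
      (mul_inv_eq_iff_eq_mul.1 ((h.iff y).1 hy).2.1).symm⟩) fun r hr => ?_).trans inf_le_left
  obtain ⟨τ, hτ, -, y, -, h4, rfl⟩ := dec_fix h.mem h.inv le_rfl (Λ.T_N_R (Λ.z_mem (by decide))) hr.1
    (mul_inv_eq_iff_eq_mul.2 (mem_centralizer_singleton_iff.1 hr.2).symm)
  exact mul_mem (h.norm hτ) (le_normalizer ((h.iff y).2 h4))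

/-- The group generated by the three pieces is the normal Sylow `p`-subgroup of `R`. -/
theorem sylow : IsSylowIn (ringChar F) (Λ.X 0 1 ⊔ V₁ ⊔ V₂) Λ.R ∧
    Λ.R ≤ normalizer ((Λ.X 0 1 ⊔ V₁ ⊔ V₂ : Subgroup G) : Set G) := by
  have := Fact.mk Λ.prime
  have mt : Λ.t ∈ Λ.T := Λ.z_mem (by decide)
  obtain ⟨S, hS, -, hN⟩ := Bender.exists_inv_sylow (p := ringChar F) (R := ⊥)
    (A := zpowers Λ.t ⊔ zpowers (Λ.z 1 2)) Λ.odd_R
    ((pgroup_zpowers' (k := 1) (by rw [pow_one, sq, Λ.z_sq])).to_sup_of_normal_right'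
      (pgroup_zpowers' (k := 1) (by rw [pow_one, sq, Λ.z_sq]))
      (zpowers_le.2 (cj_eq_self_iff.1 (by
        rw [cj_zpowers, Λ.comm _ mt _ h₁.mem, mul_inv_cancel_right]))))
    (sup_le (zpowers_le.2 (Λ.T_N_R mt)) (zpowers_le.2 (Λ.T_N_R h₁.mem))) bot_le IsPGroup.of_bot
    le_normalizer_of_normal
  have n₁ : Λ.t ∈ normalizer (S : Set G) := hN (mem_sup_left (mem_zpowers _))
  have n₂ : Λ.z 1 2 ∈ normalizer (S : Set G) := hN (mem_sup_right (mem_zpowers _))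
  have nU : Λ.T ≤ normalizer ((Λ.X 0 1 ⊔ V₁ ⊔ V₂ : Subgroup G) : Set G) := fun τ hτ =>
    N_sup (N_sup (Λ.T_N (by decide) hτ) (h₁.norm hτ)) (h₂.norm hτ)
  have e : S = Λ.X 0 1 ⊔ V₁ ⊔ V₂ := le_antisymm
    (le_of_sd h₁ h₂ hS.le n₁ n₂ (fun r hr h => by
      obtain ⟨m, hm⟩ := hS.isPGroup ⟨r, hr⟩
      exact mem_sup_left (mem_sup_left (Λ.mem_of_pow (Λ.pgX 0 1) (Λ.T_N (by decide)) h
        (congrArg Subtype.val hm))))
      (inf_le_right.trans (le_sup_right.trans le_sup_left)) (inf_le_right.trans le_sup_right))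
    (sup_le (sup_le (hS.le_of_normal (Λ.pgX 0 1) Λ.X_le_R fun r hr =>
      centralizer_le_normalizer _ (R_le_C hr)) (h₁.le_sylow hS n₂))
      (h₂.le_sylow hS (Λ.zmul' ▸ mul_mem n₁ n₂)))
  refine ⟨e ▸ hS, le_of_sd h₁ h₂ le_rfl (Λ.T_N_R mt) (Λ.T_N_R h₁.mem) (fun r _ h => ?_)
    (inf_le_right.trans ((le_sup_right.trans le_sup_left).trans le_normalizer))
    (inf_le_right.trans (le_sup_right.trans le_normalizer))⟩
  exact (sup_le ((le_sup_left.trans le_sup_left).trans le_normalizer) nU) h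

theorem le_U {P : Subgroup G} (hP : IsPGroup (ringChar F) P) (h : P ≤ Λ.R) :
    P ≤ Λ.X 0 1 ⊔ V₁ ⊔ V₂ := by
  have := Fact.mk Λ.prime
  obtain ⟨x, hx, h3⟩ := (sylow h₁ h₂).1.exists_cj_le hP h
  rwa [cj_le_iff_le_cj_inv, cj_eq_of_mem_normalizer (inv_mem ((sylow h₁ h₂).2 hx))] at h3

theorem N_U (hn : n ∈ normalizer (Λ.X 0 1 : Set G)) :
    n ∈ normalizer ((Λ.X 0 1 ⊔ V₁ ⊔ V₂ : Subgroup G) : Set G) :=
  have h := (sylow h₁ h₂).1.cj_of_mem_normalizer (N_R hn)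
  mem_normalizer_of_cj_le (le_U h₁ h₂ h.isPGroup h.le)

theorem mul_conj_mem (hr : r ∈ Λ.X 0 1 ⊔ V₁ ⊔ V₂) : r * (Λ.t * r * Λ.t⁻¹) ∈ Λ.X 0 1 := by
  have hS := (sylow h₁ h₂).1
  obtain ⟨c, hc, a, ha, h1, h2, rfl⟩ := exists_dec (fun _ h => R_odd (hS.le h)) (Λ.z_sq 0 1)
    (fun _ => mem_normalizer_conj (N_U h₁ h₂ (Λ.T_N (by decide) (Λ.z_mem (by decide))))) hr
  obtain ⟨m, hm⟩ := hS.isPGroup ⟨c, hc⟩
  have h3 := Λ.mem_of_pow (Λ.pgX 0 1) (Λ.T_N (by decide))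
    (Λ.core c (hS.le hc) (mul_inv_eq_iff_eq_mul.1 h1).symm) (congrArg Subtype.val hm)
  rw [← conj_mul, h1, h2, mul_assoc, ← mul_assoc a, ← R_comm (hS.le ha) h3, mul_inv_cancel_right]
  exact mul_mem h3 h3

theorem comm_mem {a b : G} (ha : a ∈ Λ.X 0 1 ⊔ V₁ ⊔ V₂) (hb : b ∈ Λ.X 0 1 ⊔ V₁ ⊔ V₂) :
    a * b * a⁻¹ * b⁻¹ ∈ Λ.X 0 1 := by
  have h1 := mul_mem (mul_mem (mul_conj_mem h₁ h₂ (mul_mem ha hb)) (inv_mem (mul_conj_mem h₁ h₂ hb)))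
    (inv_mem (mul_conj_mem h₁ h₂ ha))
  have h2 := R_comm (inv_mem ((sylow h₁ h₂).1.le hb)) (mul_conj_mem h₁ h₂ ha)
  convert h1 using 1
  rw [eq_mul_inv_iff_mul_eq, mul_assoc _ b⁻¹, ← h2]
  group

end LS4

end Cfsg.Lib.L45
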