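import Cfsg.Agent.L45.Inv
import Cfsg.Agent.L45.Cent

/-!
# Recognition of `L₄(q)`: the three-cycle on the four-group `⟨t, z⟩`
-/

set_option autoImplicit false

namespace Cfsg.Lib.L45

open Matrix Cfsg.Lib.Class Cfsg.Lib.Rank2.Lin Cfsg.Lib.Trans Subgroup
open scoped MatrixGroups commutatorElement

universe u v

variable {G : Type u} [Group G] {F : Type v} [Field F]

theorem comm_cj {x y : G} (g : G) (h : x * y = y * x) :
    g * x * g⁻¹ * (g * y * g⁻¹) = g * y * g⁻¹ * (g * x * g⁻¹) := by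
  rw [conj_mul, conj_mul, h]

theorem conj_injective' {x y g : G} (h : g * x * g⁻¹ = g * y * g⁻¹) : x = y :=
  mul_left_cancel (mul_right_cancel h)

theorem slU_one_ne : (slU 1 : SL(2, F)) ≠ 1 ∧ (slU 1 : SL(2, F)) ≠ -1 :=
  ⟨fun h => by simpa using congrArg (fun g : SL(2, F) => g 0 1) h,
    fun h => by simpa using congrArg (fun g : SL(2, F) => g 0 1) h⟩

namespace LD

variable (L : LD G F)

theorem κ_mem_C (s : SL(2, F)) : L.κ s ∈ L.C := L.P_mem_C (ok_sl s s)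

theorem κU_ne_one : L.κ (slU 1) ≠ 1 := fun h =>
  (L.κ_eq_one_iff.1 h).elim slU_one_ne.1 slU_one_ne.2

/-- An interchanging involution commutes with a nontrivial `p`-element of `C(t)`. -/
theorem exists_pelt_sw {v : G} (hv : v ∈ L.C) (h : v ∉ L.Γ) (h2 : v * v = 1) :
    ∃ x ∈ L.C, x ≠ 1 ∧ x ^ ringChar F = 1 ∧ x * v = v * x := by
  obtain ⟨A, hA, e⟩ := L.inv_sw hv h h2
  have h1 := (L.cj2 A hA).κ_mem_C (slU 1)
  have h3 := (L.cj2 A hA).σ_κ (slU 1)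
  rw [cj2_C] at h1
  rw [cj2_σ] at h3
  refine ⟨_, h1, (L.cj2 A hA).κU_ne_one, by rw [← map_pow, slU_pow_ringChar, map_one], ?_⟩
  rcases e with rfl | ⟨-, rfl⟩
  · exact h3.symm
  · rw [← mul_assoc, L.mem_C.1 h1, mul_assoc, ← h3, mul_assoc L.t]

theorem exists_L1 (nsw : ∀ v ∈ L.Γ, IsConj L.t v → v = L.t ∨ L.ZC v) (h : IsConj L.t L.z) :
    ∃ Δ : L1 G F, Δ.toLD = L := by
  obtain ⟨g, hg⟩ := isConj_iff.1 h.symm
  have h1 : g * L.t * g⁻¹ ∈ L.C := L.mem_C.2 (by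
    have := comm_cj g L.z_t
    rw [hg] at this
    exact this.symm)
  have h2 : g * L.t * g⁻¹ ≠ L.t := fun e => L.z_ne_t (conj_injective' (hg.trans e.symm))
  have h3 : g * L.t * g⁻¹ ∈ L.Γ := by
    by_contra hn
    obtain ⟨x, hx, hx1, hp, hc⟩ := L.exists_pelt_sw h1 hn (by rw [conj_mul, L.t_sq]; simp)
    have e1 := comm_cj g⁻¹ hc
    have e2 := comm_cj g⁻¹ (L.mem_C.1 hx)
    have e3 : g⁻¹ * (g * L.t * g⁻¹) * g⁻¹⁻¹ = L.t := by group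
    have e4 : g⁻¹ * L.t * g⁻¹⁻¹ = L.z := by rw [← hg]; group
    rw [e3] at e1
    rw [e4] at e2
    have := L.ZC_z.eq_one (L.mem_C.2 e1) e2 (k := 1) (by rw [pow_one, conj_pow, hp]; simp)
    exact hx1 (conj_eq_one_iff.1 this)
  obtain ⟨c, hc, e⟩ := (nsw _ h3 (isConj_iff.2 ⟨g, rfl⟩)).resolve_left h2
  have e1 : c⁻¹ * g * L.t * (c⁻¹ * g)⁻¹ = L.z := by
    calc _ = c⁻¹ * (g * L.t * g⁻¹) * c := by group
      _ = _ := by rw [← e]; group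
  have e2 : c⁻¹ * g * L.z * (c⁻¹ * g)⁻¹ = L.t := by
    calc _ = c⁻¹ * (g * L.z * g⁻¹) * c⁻¹⁻¹ := by group
      _ = _ := by rw [hg, L.mem_C'.1 (inv_mem hc)]
  refine ⟨⟨L, c⁻¹ * g * L.n1, ?_, ?_, nsw⟩, rfl⟩
  · calc _ = c⁻¹ * g * (L.n1 * L.t * L.n1⁻¹) * (c⁻¹ * g)⁻¹ := by group
      _ = _ := by rw [L.mem_C'.1 L.n1_mem_C, e1]
  · calc _ = c⁻¹ * g * (L.n1 * L.z * L.n1⁻¹) * (c⁻¹ * g)⁻¹ := by group
      _ = _ := by rw [L.n1_z, ← conj_mul, e1, e2, L.z_t]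

end LD

end Cfsg.Lib.L45
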