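import Cfsg.Agent.L45.Syl

/-!
# Recognition of `L₄(q)`: the coordinates exist
-/

set_option autoImplicit false

namespace Cfsg.Lib.L45

open Matrix Cfsg.Lib.Class Cfsg.Lib.Rank2.Lin Cfsg.Lib.Trans Subgroup
open scoped MatrixGroups commutatorElement

universe u v

variable {G : Type u} [Group G] {F : Type v} [Field F]

theorem LD.transport {H : Type*} [Group H] (L : LD H F) {t : G} (ht : orderOf t = 2)
    (e : centralizer ({t} : Set G) ≃* L.C) : Nonempty (LD G F) := by
  classical
  let f : L.C →* G := (centralizer ({t} : Set G)).subtype.comp e.symm.toMonoidHom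
  have hf : Function.Injective f := (subtype_injective _).comp e.symm.injective
  have htC : t ∈ centralizer ({t} : Set G) := mem_centralizer_singleton_iff.2 rfl
  have hc (y : L.C) : (e ⟨t, htC⟩ : H) * y = y * e ⟨t, htC⟩ := by
    obtain ⟨y, rfl⟩ := e.surjective y
    rw [← coe_mul, ← coe_mul, ← map_mul, ← map_mul]
    exact congrArg (fun a => (e a : H)) (Subtype.ext (mem_centralizer_singleton_iff.1 y.2).symm)
  have h1 : f ⟨L.t, L.t_mem_C⟩ = t := by
    rcases L.eq_t_of_comm (fun s => hc ⟨_, L.φ1_mem_C s⟩) (fun s => hc ⟨_, L.φ3_mem_C s⟩) (by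
      rw [← coe_mul, ← map_mul, show (⟨t, htC⟩ * ⟨t, htC⟩ : centralizer ({t} : Set G)) = 1 from
        Subtype.ext (by simpa [ht, sq] using pow_orderOf_eq_one t), map_one, coe_one]) with h | h
    · rw [OneMemClass.coe_eq_one, e.map_eq_one_iff, Subtype.ext_iff] at h
      simp [show t = 1 from h] at ht
    · rw [show (⟨L.t, L.t_mem_C⟩ : L.C) = e ⟨t, htC⟩ from Subtype.ext h.symm]
      exact congrArg Subtype.val (e.symm_apply_apply _)
  let P : M2 F → M2 F → G := fun A B => if h : Ok A B then f ⟨L.P A B, L.P_mem_C h⟩ else 1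
  have hP {A B : M2 F} (h : Ok A B) : P A B = f ⟨L.P A B, L.P_mem_C h⟩ := dif_pos h
  refine ⟨⟨P, f ⟨L.σ, L.σ_mem_C⟩, L.odd, fun h h' => ?_, fun h => ?_, ?_, fun h => ?_, fun x => ?_⟩⟩
  · rw [hP h, hP h', hP (h.mul h'), ← map_mul]
    exact congrArg f (Subtype.ext (L.mul h h'))
  · rw [hP h, map_eq_one_iff f hf, Subtype.ext_iff]
    exact L.eq_one h
  · rw [← map_mul, map_eq_one_iff f hf]
    exact Subtype.ext L.σ_sq
  · rw [hP h, hP h.symm, ← map_mul, ← map_mul]
    exact congrArg f (Subtype.ext (L.swap h))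
  · rw [show P (-1) 1 = t from (hP ok_t).trans h1, ← mem_centralizer_singleton_iff]
    constructor
    · intro hx
      have h2 : x = f (e ⟨x, hx⟩) := congrArg Subtype.val (e.symm_apply_apply ⟨x, hx⟩).symm
      obtain ⟨A, B, h, h3⟩ := L.mem_C_iff.1 (e ⟨x, hx⟩).2
      refine ⟨A, B, h, h3.imp (fun h3 => ?_) fun h3 => ?_⟩
      · rw [hP h, h2]; exact congrArg f (Subtype.ext h3)
      · rw [hP h, ← map_mul, h2]; exact congrArg f (Subtype.ext h3)
    · rintro ⟨A, B, h, rfl | rfl⟩
      · rw [hP h]; exact (e.symm _).2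
      · rw [hP h, ← map_mul]; exact (e.symm _).2

namespace Mod

/-- Block matrices as matrices of size four. -/
def ε : Matrix (Fin 2 ⊕ Fin 2) (Fin 2 ⊕ Fin 2) F ≃ₐ[F] Matrix (Fin 4) (Fin 4) F :=
  reindexAlgEquiv F F (finSumFinEquiv (m := 2) (n := 2))

theorem det_ε (M : Matrix (Fin 2 ⊕ Fin 2) (Fin 2 ⊕ Fin 2) F) : (ε M).det = M.det :=
  det_reindexAlgEquiv _ _ _ _

/-- The class of a block matrix of determinant one. -/
def el (M : Matrix (Fin 2 ⊕ Fin 2) (Fin 2 ⊕ Fin 2) F) (h : M.det = 1) : PSL(4, F) :=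
  QuotientGroup.mk (⟨ε M, (det_ε M).trans h⟩ : SL(4, F))

section el

variable {M N : Matrix (Fin 2 ⊕ Fin 2) (Fin 2 ⊕ Fin 2) F}

theorem el_mul (h : M.det = 1) (h' : N.det = 1) :
    el M h * el N h' = el (M * N) (by rw [det_mul, h, h', one_mul]) :=
  congrArg (QuotientGroup.mk (s := center SL(4, F))) (Subtype.ext (map_mul ε M N).symm)

theorem el_one : el (1 : Matrix _ _ F) det_one = 1 :=
  congrArg (QuotientGroup.mk (s := center SL(4, F))) (Subtype.ext (map_one ε))

theorem mk_eq_iff {g h : SL(4, F)} : (QuotientGroup.mk g : PSL(4, F)) = QuotientGroup.mk h ↔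
    ∃ c : F, (g : Matrix (Fin 4) (Fin 4) F) = c • (h : Matrix (Fin 4) (Fin 4) F) := by
  rw [QuotientGroup.eq_iff_div_mem, div_eq_mul_inv, Matrix.SpecialLinearGroup.mem_center_iff]
  refine exists_congr fun c => ⟨fun e => ?_, fun e => ⟨?_, ?_⟩⟩
  · rw [← inv_mul_cancel_right g h, mul_assoc g, ← mul_assoc g, Matrix.SpecialLinearGroup.coe_mul,
      ← e.2]
    simp [scalar_apply, ← smul_eq_diagonal_mul]
  · simpa using (congrArg det e).symm
  · rw [Matrix.SpecialLinearGroup.coe_mul, e, smul_mul_assoc, ← Matrix.SpecialLinearGroup.coe_mul,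
      mul_inv_cancel, Matrix.SpecialLinearGroup.coe_one, scalar_apply, smul_one_eq_diagonal]

theorem el_eq_iff (h : M.det = 1) (h' : N.det = 1) : el M h = el N h' ↔ ∃ c : F, M = c • N :=
  mk_eq_iff.trans (exists_congr fun c => by
    change ε M = c • ε N ↔ _
    rw [← map_smul, ε.injective.eq_iff])

theorem exists_el (x : PSL(4, F)) : ∃ A B C D h, x = el (fromBlocks A B C D) h := by
  obtain ⟨⟨g, hg⟩, rfl⟩ := QuotientGroup.mk_surjective x
  obtain ⟨g, rfl⟩ := (ε (F := F)).surjective g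
  exact ⟨_, _, _, _, by rw [fromBlocks_toBlocks g, ← det_ε, hg],
    congrArg (QuotientGroup.mk (s := center SL(4, F)))
      (Subtype.ext (congrArg ε (fromBlocks_toBlocks g).symm))⟩

end el

theorem det_bl {A B : M2 F} (h : Ok A B) : (fromBlocks A 0 0 B).det = 1 := by
  rw [det_fromBlocks_zero₂₁]; exact h

theorem det_sw : (fromBlocks 0 1 1 0 : Matrix (Fin 2 ⊕ Fin 2) (Fin 2 ⊕ Fin 2) F).det = 1 := by
  rw [show (fromBlocks 0 1 1 0 : Matrix (Fin 2 ⊕ Fin 2) (Fin 2 ⊕ Fin 2) F) =
    fromBlocks 1 1 0 1 * fromBlocks 1 0 (-1) 1 * fromBlocks (-1) 1 0 1 by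
      simp [fromBlocks_multiply], det_mul, det_mul]
  simp [det_neg2]

open Classical in
/-- The block diagonal elements of the projective group. -/
noncomputable def P (A B : M2 F) : PSL(4, F) := if h : Ok A B then el _ (det_bl h) else 1

theorem P_eq {A B : M2 F} (h : Ok A B) : P A B = el _ (det_bl h) := dif_pos h

/-- The coordinates in the projective special linear group. -/
noncomputable def ld (hF : Odd (Nat.card F)) : LD PSL(4, F) F where
  P := P
  σ := el _ det_sw
  odd := hF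
  mul h h' := by
    rw [P_eq h, P_eq h', P_eq (h.mul h'), el_mul, el_eq_iff]
    exact ⟨1, by simp [fromBlocks_multiply]⟩
  eq_one h := by
    rw [P_eq h, ← el_one, el_eq_iff]
    refine exists_congr fun c => ?_
    rw [← fromBlocks_one, fromBlocks_smul, fromBlocks_inj]
    simp
  σ_sq := by
    rw [el_mul, ← el_one, el_eq_iff]
    exact ⟨1, by simp [fromBlocks_multiply]⟩
  swap h := by
    rw [P_eq h, P_eq h.symm, el_mul, el_mul, el_eq_iff]
    exact ⟨1, by simp [fromBlocks_multiply]⟩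
  cent x := by
    have := Nat.finite_of_card_ne_zero hF.pos.ne'
    have h2 := Rank2.two_ne_zero_of_odd_card hF
    have k {c : F} (hc : c ≠ 1) {X : M2 F} (e : X = c • X) : X = 0 :=
      (smul_eq_zero_iff_right (sub_ne_zero.2 hc)).1 (by rw [sub_smul, one_smul, ← e, sub_self])
    constructor
    · obtain ⟨A, B, C, D, h, rfl⟩ := exists_el x
      rw [P_eq ok_t, el_mul, el_mul, el_eq_iff]
      simp only [fromBlocks_multiply, fromBlocks_smul, fromBlocks_inj, mul_neg, neg_mul, mul_one,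
        one_mul, mul_zero, zero_mul, add_zero, zero_add, smul_neg, neg_inj]
      rintro ⟨c, hA, hB, hC, hD⟩
      by_cases hc : c = 1
      · have hc' : -c ≠ 1 := fun e => h2 (by linear_combination -e - hc)
        obtain rfl := k hc' (hB.trans (neg_smul c B).symm)
        obtain rfl := k hc' ((neg_eq_iff_eq_neg.1 hC).trans (neg_smul c C).symm)
        have h3 : Ok A D := by rwa [det_fromBlocks_zero₂₁] at h
        exact ⟨A, D, h3, .inl (P_eq h3).symm⟩
      · obtain rfl := k hc hA
        obtain rfl := k hc hD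
        have h4 : fromBlocks 0 B C 0 = fromBlocks B 0 0 C * fromBlocks 0 1 1 0 := by
          simp [fromBlocks_multiply]
        have h3 : Ok B C := by rwa [h4, det_mul, det_sw, mul_one, det_fromBlocks_zero₂₁] at h
        exact ⟨B, C, h3, .inr (by rw [P_eq h3, el_mul, el_eq_iff]; exact ⟨1, by rw [h4, one_smul]⟩)⟩
    · rintro ⟨A, B, h, rfl | rfl⟩ <;> simp only [P_eq h, P_eq ok_t, el_mul, el_eq_iff]
      · exact ⟨1, by simp [fromBlocks_multiply]⟩
      · exact ⟨-1, by simp [fromBlocks_multiply, fromBlocks_neg]⟩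

end Mod

theorem w0 : W0.{u, v} := by
  intro G _ F _ _ hF d hd t ht e
  have h1 : (QuotientGroup.mk d : PSL(4, F)) =
      (Mod.ld (F := F) (by rwa [Nat.card_eq_fintype_card])).t := by
    refine Eq.trans (congrArg (QuotientGroup.mk (s := center SL(4, F))) (Subtype.ext (hd.trans ?_)))
      (Mod.P_eq ok_t).symm
    ext i j
    fin_cases i <;> fin_cases j <;> simp [Mod.ε, finSumFinEquiv, Fin.addCases]
  rw [h1] at e
  exact LD.transport _ ht e

end Cfsg.Lib.L45
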