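import Cfsg.Agent.L45.Inv
import Cfsg.Agent.L45.Cent
import Cfsg.Agent.L45.Syl

/-!
# Recognition of `L₄(q)`: fusion for `q ≡ 3 (mod 4)`, calculations inside the centralizer of `t`
-/

set_option autoImplicit false

namespace Cfsg.Lib.L45

open Matrix Cfsg.Lib.Class Cfsg.Lib.Rank2.Lin Cfsg.Lib.Trans Subgroup
open scoped MatrixGroups commutatorElement

universe u v

variable {G : Type u} [Group G] {F : Type v} [Field F]

namespace B3

/-- A conjugation lemma: the involutions of `H` are conjugate into the centralizer of `t`. -/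
theorem conj_cent [Finite G] {H : Subgroup G} {t n s : G} (hn : n ∈ H) (hn2 : n * n = t)
    (ht : t * t = 1) (iso : ∀ v, IsConj t v → v * t = t * v → v * n = n * v → v = t)
    (hs : s ∈ H) (hs2 : s * s = 1) : ∃ h ∈ H, h * s * h⁻¹ * t = t * (h * s * h⁻¹) := by
  have two : ∀ {x : G} {k : ℕ}, x ^ 2 ^ k = 1 → IsPGroup 2 (zpowers x) := fun {x k} hx y =>
    ⟨k, by
      obtain ⟨_, j, rfl⟩ := y
      refine Subtype.ext (show (x ^ j) ^ 2 ^ k = 1 from ?_)
      rw [← zpow_natCast, ← _root_.zpow_mul, mul_comm, _root_.zpow_mul, zpow_natCast, hx,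
        _root_.one_zpow]⟩
  have hnt : n ∈ centralizer ({t} : Set G) :=
    mem_centralizer_singleton_iff.2 (by rw [← hn2, mul_assoc])
  obtain ⟨R, hR, hnR⟩ := exists_isSylowIn_ge (p := 2) (H := H ⊓ centralizer {t})
    (two (x := n) (k := 2) (by rw [show 2 ^ 2 = 2 * 2 from rfl, pow_mul, sq n, hn2, sq, ht]))
    (zpowers_le.2 ⟨hn, hnt⟩)
  obtain ⟨S, hS, hRS⟩ := exists_isSylowIn_ge (p := 2) hR.isPGroup (hR.le.trans inf_le_left)
  have hnR' : n ∈ R := hnR (mem_zpowers n)
  have hSR : S = R := by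
    by_contra hne
    obtain ⟨m, ⟨hmS, hmN⟩, hmR⟩ := SetLike.exists_of_lt
      (lt_inf_normalizer hS.isPGroup (lt_of_le_of_ne hRS (Ne.symm hne)))
    have k : ∀ r ∈ R, m * t * m⁻¹ * r = r * (m * t * m⁻¹) := fun r hr => by
      have h1 : m⁻¹ * r * m⁻¹⁻¹ ∈ R := (mem_normalizer_iff.1 (inv_mem hmN) r).1 hr
      have h2 := mem_centralizer_singleton_iff.1 (hR.le h1).2
      calc m * t * m⁻¹ * r = m * (t * (m⁻¹ * r * m⁻¹⁻¹)) * m⁻¹ := by group
        _ = _ := by rw [← h2]; group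
    have h3 := iso _ (isConj_iff.2 ⟨m, rfl⟩) (k t (hn2 ▸ mul_mem hnR' hnR')) (k n hnR')
    refine hmR (hR.eq_inf hS.isPGroup hRS ▸ ⟨hmS, hS.le hmS, ?_⟩)
    exact mem_centralizer_singleton_iff.2 (mul_inv_eq_iff_eq_mul.1 h3)
  obtain ⟨h, hh, h1⟩ := hS.exists_cj_le (two (x := s) (k := 1) (by rw [pow_one, sq, hs2]))
    (zpowers_le.2 hs)
  exact ⟨h, hh, mem_centralizer_singleton_iff.1
    (hR.le (hSR ▸ cj_le_iff.1 h1 s (mem_zpowers s))).2⟩

section Mat

variable [Finite F] {A B : M2 F} {a b c x y : F}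

theorem four_cases (h3 : Nat.card F % 4 = 3) (h : c ^ 4 = 1) : c = 1 ∨ c = -1 := by
  have h1 : (c * c - 1) * (c * c + 1) = 0 := by linear_combination h
  rcases mul_eq_zero.1 h1 with h2 | h2
  · exact mul_self_eq_one_iff.1 (by linear_combination h2)
  · exact (not_sq_neg_one h3 c (by linear_combination h2)).elim

theorem ne_neg_sq (h3 : Nat.card F % 4 = 3) (ha : a ≠ 0) : b * b ≠ -(a * a) := fun h =>
  not_sq_neg_one h3 (b / a) (by field_simp; linear_combination h)

theorem eq_of_sq (h3 : Nat.card F % 4 = 3) (h : x * x = y * y) (ha : a ≠ 0) (hs : x * y = a * a) :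
    x = y := by
  rcases mul_self_eq_mul_self_iff.1 h with h1 | h1
  · exact h1
  · exact (ne_neg_sq h3 (b := y) ha (by rw [← hs, h1]; ring)).elim

omit [Finite F]

theorem comm_W (h : A * mW = mW * A) (h' : B * mW = mW * B) : A * B = B * A := by
  have a1 := congrFun (congrFun h 0) 0
  have a2 := congrFun (congrFun h 0) 1
  have b1 := congrFun (congrFun h' 0) 0
  have b2 := congrFun (congrFun h' 0) 1
  simp [mW, mul_apply, Fin.sum_univ_two] at a1 a2 b1 b2
  ext i j
  fin_cases i <;> fin_cases j <;> simp [mul_apply, Fin.sum_univ_two, ← a1, ← b1, a2, b2] <;> ring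

theorem anti_W (h : A * mW = -(mW * A)) : A * A = (-A.det) • (1 : M2 F) := by
  have a2 : A 0 0 = -A 1 1 := by
    simpa [mW, mul_apply, Fin.sum_univ_two, vecMul, dotProduct] using congrFun (congrFun h 0) 1
  rw [cayley, a2]
  simp

theorem W_ne (c : F) : (mW : M2 F) ≠ c • 1 := fun h => by
  simpa [mW] using congrFun (congrFun h 0) 1

theorem oneW_sq : ((1 : M2 F) + mW) * (1 + mW) = (2 : F) • mW := by
  rw [add_mul, mul_add, mul_add, mW_mW, two_smul, one_mul, one_mul, mul_one]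
  abel

theorem det_oneW : ((1 : M2 F) + mW).det = 2 := by
  simp [mW, det_fin_two]
  norm_num

theorem oneW_W : ((1 : M2 F) + mW) * mW = mW * (1 + mW) := by simp [add_mul, mul_add]

end Mat

variable [Finite F] (L : LD G F) (h3 : Nat.card F % 4 = 3)

include h3

theorem dg_eq_one {e f g h a b c : F} (ok : e * f * (g * h) = 1)
    (h2 : L.P (dg e f) (dg g h) * L.P (dg e f) (dg g h) = 1) (ha : a ≠ 0) (hb : b ≠ 0) (hc : c ≠ 0)
    (k1 : e = f ∨ e * f = a * a) (k2 : e = g ∨ e * g = b * b) (k3 : e = h ∨ e * h = c * c) :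
    L.P (dg e f) (dg g h) = 1 := by
  rw [L.mul (ok_dg ok) (ok_dg ok), dg_mul, dg_mul, L.eq_one (ok_dg (by
    linear_combination (e * f * (g * h) + 1) * ok))] at h2
  obtain ⟨d, h4, h5⟩ := h2
  rw [← dg_self, dg_inj] at h4 h5
  obtain rfl : e = f := k1.elim id (eq_of_sq h3 (h4.1.trans h4.2.symm) ha)
  obtain rfl : e = g := k2.elim id (eq_of_sq h3 (h4.1.trans h5.1.symm) hb)
  obtain rfl : e = h := k3.elim id (eq_of_sq h3 (h4.1.trans h5.2.symm) hc)
  exact (L.eq_one (ok_dg ok)).2 ⟨e, dg_self e, dg_self e⟩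

/-- The centralizer of `⟨t, z⟩` has no element of order four. -/
theorem sq_eq_one {x : G} (hx : x ∈ L.B0) (h4 : x * x * (x * x) = 1) : x * x = 1 := by
  obtain ⟨_, ⟨a, b, c, d, h, rfl⟩, hτ⟩ := L.B0_cases hx
  have ha : a ≠ 0 := left_ne_zero_of_mul (left_ne_zero_of_mul_eq_one h)
  have hb : b ≠ 0 := right_ne_zero_of_mul (left_ne_zero_of_mul_eq_one h)
  have hc : c ≠ 0 := left_ne_zero_of_mul (right_ne_zero_of_mul_eq_one h)
  have hd : d ≠ 0 := right_ne_zero_of_mul (right_ne_zero_of_mul_eq_one h)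
  have k : ∀ {w y : G}, w * w = 1 → y * w * (y * w) = y * (w * y * w⁻¹) := fun {w y} hw => by
    rw [inv_eq_of_mul_eq_one_right hw]; group
  rcases hτ with rfl | rfl | rfl | rfl
  · rw [L.mul (ok_dg h) (ok_dg h), dg_mul, dg_mul] at h4 ⊢
    exact dg_eq_one L h3 (by linear_combination (a * b * (c * d) + 1) * h) h4 (mul_ne_zero ha hb)
      (mul_ne_zero ha hc) (mul_ne_zero ha hd) (.inr (by ring)) (.inr (by ring)) (.inr (by ring))
  · rw [k L.ww_sq, L.ww_dg h, L.mul (ok_dg h) (ok_dg (by linear_combination h)), dg_mul,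
      dg_mul] at h4 ⊢
    exact dg_eq_one L h3 (by linear_combination (a * b * (c * d) + 1) * h) h4 one_ne_zero
      one_ne_zero one_ne_zero (.inl (by ring)) (.inr (by linear_combination h))
      (.inr (by linear_combination h))
  · rw [k L.σ_sq, L.σ_dg h, L.mul (ok_dg h) (ok_dg (by linear_combination h)), dg_mul,
      dg_mul] at h4 ⊢
    exact dg_eq_one L h3 (by linear_combination (a * b * (c * d) + 1) * h) h4 one_ne_zero
      one_ne_zero one_ne_zero (.inr (by linear_combination h)) (.inl (by ring))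
      (.inr (by linear_combination h))
  · have h5 : L.ww * L.σ * (L.ww * L.σ) = 1 := by
      rw [mul_assoc, ← mul_assoc L.σ, L.σ_ww, mul_assoc, L.σ_sq, mul_one, L.ww_sq]
    have h6 : L.ww * L.σ * L.P (dg a b) (dg c d) * (L.ww * L.σ)⁻¹ = L.P (dg d c) (dg b a) := by
      rw [← L.ww_dg (a := c) (b := d) (c := a) (d := b) (by linear_combination h), ← L.σ_dg h]
      group
    rw [k h5, h6, L.mul (ok_dg h) (ok_dg (by linear_combination h)), dg_mul, dg_mul] at h4 ⊢
    exact dg_eq_one L h3 (by linear_combination (a * b * (c * d) + 1) * h) h4 one_ne_zero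
      one_ne_zero one_ne_zero (.inr (by linear_combination h)) (.inr (by linear_combination h))
      (.inl (by ring))

theorem root_t {y : G} (hy : y ∈ L.C) (hb : y * L.ww = L.ww * y) (h2 : y * y = L.t) :
    ∃ A B, Ok A B ∧ y = L.P A B ∧ A * mW = mW * A ∧ B * mW = mW * B := by
  obtain ⟨A, B, h, rfl | rfl⟩ := L.mem_C_iff.1 hy
  · obtain ⟨c, hc, h4, h5⟩ := (L.comm_iff h ok_WW).1 hb
    rcases four_cases h3 hc with rfl | rfl
    · exact ⟨A, B, h, rfl, by simpa using h4, by simpa using h5⟩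
    · rw [L.mul h h, LD.t, L.P_eq_iff (h.mul h) ok_t, anti_W (by simpa using h4),
        anti_W (by simpa using h5)] at h2
      obtain ⟨e, h6, h7⟩ := h2
      have h8 : -A.det = -e := smul_one_inj (by simpa using h6)
      have h9 := smul_one_inj h7
      rw [Ok] at h
      exact (not_sq_neg_one h3 e (by linear_combination -h - B.det * h8 - e * h9)).elim
  · rw [L.sw_mul_sw h h, LD.t, L.P_eq_iff (h.mul h.symm) ok_t] at h2
    obtain ⟨e, h6, h7⟩ := h2
    have h8 : A * (B * A) = A * B * A := (mul_assoc _ _ _).symm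
    rw [h6, h7] at h8
    have h9 : (2 * e) • A = 0 := by
      rw [mul_smul, two_smul]
      simpa [eq_neg_iff_add_eq_zero] using h8
    have h10 : e = 0 := by
      rcases smul_eq_zero.1 h9 with h10 | h10
      · exact (mul_eq_zero.1 h10).resolve_left L.two_ne
      · exact (h.ne₁ (by simp [h10])).elim
    have h11 := congrArg det h7
    rw [det_mul, h.symm, h10] at h11
    simp at h11

/-- Square roots of `t` centralizing `ww` commute. -/
theorem root_comm {x y : G} (hx : x ∈ L.C) (hxb : x * L.ww = L.ww * x) (hx2 : x * x = L.t)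
    (hy : y ∈ L.C) (hyb : y * L.ww = L.ww * y) (hy2 : y * y = L.t) : x * y = y * x := by
  obtain ⟨A, B, h, rfl, h1, h2⟩ := root_t L h3 hx hxb hx2
  obtain ⟨A', B', h', rfl, h1', h2'⟩ := root_t L h3 hy hyb hy2
  rw [L.mul h h', L.mul h' h, comm_W h1 h1', comm_W h2 h2']

omit h3 [Finite F] in
/-- Two square roots of `ww` that do not commute. -/
theorem exists_roots : ∃ x ∈ L.C, ∃ y ∈ L.C, x * x = L.ww ∧ y * y = L.ww ∧ x * y ≠ y * x := by
  have h2 := L.two_ne
  have ok : Ok ((1 : M2 F) + mW) ((2 : F)⁻¹ • (1 + mW)) := by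
    rw [Ok, det_smul2, det_oneW]; field_simp
  refine ⟨_, L.mem_C_iff.2 ⟨_, _, ok, .inr rfl⟩, _, L.mem_C_iff.2 ⟨_, _, ok_1W, .inr rfl⟩, ?_, ?_,
    fun h => ?_⟩
  · rw [L.sw_mul_sw ok ok, mul_smul_comm, smul_mul_assoc, oneW_sq, smul_smul, inv_mul_cancel₀ h2,
      one_smul, LD.ww]
  · rw [L.sw_mul_sw ok_1W ok_1W, one_mul, mul_one, LD.ww]
  · rw [L.sw_mul_sw ok ok_1W, L.sw_mul_sw ok_1W ok, L.P_eq_iff (ok.mul ok_W1)
      (ok_1W.mul ok.symm)] at h
    obtain ⟨c, h4, -⟩ := h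
    refine W_ne (c * 2⁻¹) (mul_left_cancel_m ok.ne₁ ?_)
    rw [h4, one_mul, smul_smul, mul_smul_comm, mul_one]

/-- An element of order four centralizing `σ` and `ww`. -/
theorem exists_four : ∃ y ∈ L.C, y * L.σ = L.σ * y ∧ y * L.ww = L.ww * y ∧ y * y ≠ 1 ∧
    y * y * (y * y) = 1 := by
  obtain ⟨a, e, he, ha⟩ : ∃ a e : F, e * e = 1 ∧ a * a * 2 = e := by
    classical
    have := Fintype.ofFinite F
    have hm : ¬ IsSquare (-1 : F) := fun ⟨i, hi⟩ => not_sq_neg_one h3 i hi.symm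
    by_cases h : IsSquare (2 : F)
    · obtain ⟨r, hr⟩ := h
      have hr0 : r ≠ 0 := fun e => L.two_ne (by rw [hr, e, mul_zero])
      exact ⟨r⁻¹, 1, mul_one 1, by rw [hr]; field_simp⟩
    · have h1 : quadraticChar F (-1 * 2) = 1 := by
        rw [map_mul, quadraticChar_neg_one_iff_not_isSquare.2 hm,
          quadraticChar_neg_one_iff_not_isSquare.2 h]; rfl
      obtain ⟨r, hr⟩ := (quadraticChar_one_iff_isSquare (by simpa using L.two_ne)).1 h1
      have hr0 : r ≠ 0 := fun e => L.two_ne (by linear_combination -hr - r * e)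
      exact ⟨r⁻¹, -1, by ring, by field_simp; linear_combination -hr⟩
  have hd : (a • ((1 : M2 F) + mW)).det = e := by rw [det_smul2, det_oneW, ha]
  have ok : Ok (a • ((1 : M2 F) + mW)) (a • (1 + mW)) := by rw [Ok, hd, he]
  have hs : a • ((1 : M2 F) + mW) * a • (1 + mW) = e • mW := by
    rw [smul_mul_smul_comm, oneW_sq, smul_smul, ha]
  have h4 : e ^ 4 = 1 := by linear_combination (e * e + 1) * he
  have h5 : L.P (a • (1 + mW)) (a • (1 + mW)) * L.P (a • (1 + mW)) (a • (1 + mW)) = L.ww := by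
    rw [L.mul ok ok, hs, L.P_smul ok_WW h4, LD.ww]
  refine ⟨_, L.P_mem_C ok, (L.swap ok).symm, by rw [← h5, mul_assoc], ?_, by rw [h5, L.ww_sq]⟩
  rw [h5]
  intro h
  obtain ⟨c, h6, -⟩ := (L.eq_one ok_WW).1 h
  exact W_ne c h6

end B3

end Cfsg.Lib.L45
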