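import Cfsg.Agent.L45.W4cA

/-!
# Recognition of `L₄(3)`: a root element outside the centralizer of `t`
-/

set_option autoImplicit false

namespace Cfsg.Lib.L45.Q3

open Subgroup Cfsg.Lib.Trans Cfsg.Lib.Gold

theorem comm_of_iso {H : Type*} [Group H] [Finite H] {v r r' : H} (hv : IsIsolatedInvolution v)
    (hC : ∀ x, x * v = v * x → x ^ 4 = 1) (h1 : r ^ 3 = 1) (h2 : v * r * v⁻¹ = r⁻¹) (h3 : r' ^ 3 = 1)
    (h4 : v * r' * v⁻¹ = r'⁻¹) : r * r' = r' * r := by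
  have h5 : ∀ r : H, r ^ 3 = 1 → v * r * v⁻¹ = r⁻¹ → r ∈ oddCore H := fun r h1 h2 => by
    obtain ⟨o, ho, s, hs, e⟩ := mem_sup_of_normal_left.1
      ((Bender.oddCore_sup_centralizer_of_isolated hv).ge (mem_top r))
    have h3 : (r : H ⧸ oddCore H) = s := by
      rw [← e, QuotientGroup.mk_mul, (QuotientGroup.eq_one_iff o).2 ho, one_mul]
    have h4 := congrArg (QuotientGroup.mk (s := oddCore H)) h2
    rw [QuotientGroup.mk_mul, QuotientGroup.mk_mul, h3, ← QuotientGroup.mk_mul, ← QuotientGroup.mk_mul,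
      ← mem_centralizer_singleton_iff.1 hs, mul_inv_cancel_right, ← h3, QuotientGroup.mk_inv,
      eq_inv_iff_mul_eq_one] at h4
    have h6 := congrArg (QuotientGroup.mk (s := oddCore H)) h1
    rwa [QuotientGroup.mk_pow, pow_three, h4, mul_one, QuotientGroup.mk_one, QuotientGroup.eq_one_iff] at h6
  have h6 := fun x hx => StdJ4.inv_of_fpf (A := oddCore H) (t := v) (x := x)
    (by rw [← sq, ← hv.1, pow_orderOf_eq_one]) (fun x hx => Normal.conj_mem inferInstance x hx v)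
    (fun x hx e => orderOf_eq_one_iff.1 (Nat.eq_one_of_dvd_coprimes
      ((Solv.coprime_card_pPrimeCore 2 H).pow_right 2) ((oddCore H).orderOf_dvd_natCard hx)
      (orderOf_dvd_of_pow_eq_one (hC x (mul_inv_eq_iff_eq_mul.1 e).symm)))) hx
  have h7 := h6 _ (mul_mem (h5 r h1 h2) (h5 r' h3 h4))
  rw [← conj_mul, h2, h4, ← mul_inv_rev, inv_inj] at h7
  exact h7.symm

/-- The centralizer of `t` in codes, the fusion of its involutions and the element `ρ`. -/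
structure Mo (G : Type*) [Group G] where
  /-- the evaluation -/
  ev : Cd → G
  mul : ∀ x y, ev (x * y) = ev x * ev y
  inj : Function.Injective ev
  cent : ∀ g, g * ev ct = ev ct * g → ∃ c, ev c = g
  cls : ∀ x, x * x = c1 → x ≠ c1 → (IsConj (ev ct) (ev x) ↔ tc x = true)
  /-- the three-cycle -/
  ρ : G
  ρt : ρ * ev ct = ev cz * ρ
  ρz : ρ * ev cz = ev (ct * cz) * ρ
  ρw : ∃ τ ∈ LT, ρ * ev cw = ev (τ * cw * cs) * ρ
  ρs : ∃ τ ∈ LT, ρ * ev cs = ev (τ * cw) * ρ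

namespace Mo

variable {G : Type*} [Group G] {M : Mo G} {g h k n w : G} {x y x' y' u c K : Cd}

/-- `g` conjugates `x` to `y`. -/
def Act (M : Mo G) (g : G) (x y : Cd) : Prop := g * M.ev x = M.ev y * g

theorem ev_one : M.ev c1 = 1 := left_eq_mul.1 (M.mul c1 c1)

theorem Act.mul (h : M.Act g x y) (h' : M.Act g x' y') : M.Act g (x * x') (y * y') := by
  rw [Act, M.mul, M.mul, ← mul_assoc, h, mul_assoc, h', mul_assoc]

theorem Act.comp (h1 : M.Act g x y) (h2 : M.Act h y u) : M.Act (h * g) x u := by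
  rw [Act, mul_assoc, h1, ← mul_assoc, h2, mul_assoc]

theorem Act.conj (h : M.Act g x y) : g * M.ev x * g⁻¹ = M.ev y := mul_inv_eq_iff_eq_mul.2 h

theorem Act.inv (h : M.Act g x y) : M.Act g⁻¹ y x := by rw [Act, ← h.conj]; group

theorem act_ev : M.Act (M.ev c) x y ↔ c * x = y * c := by rw [Act, ← M.mul, ← M.mul, M.inj.eq_iff]

theorem Act.cg (h : M.Act g x y) (x' y' : Cd) (e : x = x' ∧ y = y' := by decide +kernel) :
    M.Act g x' y' := e.1 ▸ e.2 ▸ h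

theorem Act.uniq (h : M.Act g x y) (h' : M.Act g x' y') (e : x = x' := by decide +kernel) : y = y' :=
  M.inj (by rw [← h.conj, ← h'.conj, e])

theorem act_one : M.Act g c1 c1 := by rw [Act, ev_one, mul_one, one_mul]

theorem Act.ex' (h : M.Act g u ct) (e : M.Act n u u) : ∃ y, M.ev y = g * n * g⁻¹ :=
  M.cent _ (by rw [mul_assoc g n]; exact (h.inv.comp e).comp h)

theorem Act.ex (h : M.Act g u ct) (x : Cd) (e : x * u = u * x := by decide +kernel) : ∃ y, M.Act g x y :=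
  let ⟨y, e⟩ := h.ex' (act_ev.2 e); ⟨y, mul_inv_eq_iff_eq_mul.1 e.symm⟩

theorem Act.tc (h : M.Act g x y) (e : x * x = c1 ∧ x ≠ c1 := by decide +kernel) : tc x = tc y := by
  rw [Bool.eq_iff_iff, ← M.cls x e.1 e.2, ← M.cls y ((h.mul h).uniq act_one e.1)
    fun e' => e.2 (h.inv.uniq act_one e')]
  have := isConj_iff.2 ⟨g, h.conj⟩
  exact ⟨fun h => h.trans this, fun h => h.trans this.symm⟩

theorem Act.tr (e : M.ev K = g * k * g⁻¹) (h1 : M.Act g x x') (h2 : M.Act k x y) (h3 : M.Act g y y') :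
    K * x' = y' * K := (act_ev (M := M)).1 (by rw [e, mul_assoc]; exact (h1.inv.comp h2).comp h3)

variable (M) in
theorem exists_g : M.Act M.ρ (ct * cz) ct ∧ (∃ b ∈ [cw, ct * cw], M.Act M.ρ (ct * cs) b) ∧
    ∃ g, M.Act g ct cs ∧ M.Act g cs ct := by
  obtain ⟨τ, hτ, hw⟩ := M.ρw
  obtain ⟨υ, hυ, hs⟩ := M.ρs
  have ht : M.Act M.ρ ct cz := M.ρt
  have hz : M.Act M.ρ cz (ct * cz) := M.ρz
  change M.Act _ _ _ at hw hs
  have h1 := (ht.mul hz).cg (ct * cz) ct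
  have h2 : M.Act (M.ρ * M.ρ) (ct * cz * cw) cs → ∃ g, M.Act g ct cs ∧ M.Act g cs ct := fun h =>
    ⟨_, ((hz.comp h1).inv.comp (act_ev.2 (by decide +kernel : cm * cz = ct * cz * cw * cm))).comp h,
      (h.inv.comp (act_ev.2 (by decide +kernel : cm * (ct * cz * cw) = cz * cm))).comp (hz.comp h1)⟩
  refine ⟨h1, ?_⟩
  rcases rho_chk τ hτ υ hυ hw.tc hs.tc (hw.mul hs).tc with ⟨rfl, rfl⟩ | ⟨rfl, rfl⟩
  · exact ⟨⟨cw, by simp, (ht.mul hs).cg _ _⟩, h2 ((h1.mul hw).comp (((ht.mul hw).mul hs).cg _ _))⟩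
  · exact ⟨⟨ct * cw, by simp, (ht.mul hs).cg _ _⟩, h2 ((h1.mul hw).comp (((h1.mul hw).mul hs).cg _ _))⟩

theorem t_chk : ∀ x, x * ct = ct * x := by decide +kernel

theorem sw_ex (h1 : M.Act g ct cs) (h2 : M.Act g cs ct) (x : Cd)
    (e : x * cs = cs * x := by decide +kernel) : ∃ y, M.Act g x y ∧ y * cs = cs * y :=
  let ⟨y, h⟩ := h2.ex x e; ⟨y, h, (h.mul h1).uniq (h1.mul h) (t_chk x)⟩

/-- `k` interchanges `t` and `σ` and centralizes the diagonal. -/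
structure Kk (M : Mo G) (k : G) : Prop where
  t : M.Act k ct cs
  s : M.Act k cs ct
  x : M.Act k cx cx
  y : M.Act k cy cy
  sq : k * k = M.ev (ct * cs)

variable (M) in
theorem exists_k : ∃ k, M.Kk k := by
  obtain ⟨-, -, g, g1, g2⟩ := M.exists_g
  obtain ⟨a, a1, a2⟩ := sw_ex g1 g2 cx
  obtain ⟨c, -, b1, b2, b3⟩ := (x_chk a a2 (((a1.mul a1).mul a1).uniq act_one)).resolve_left
    fun e => absurd (a1.inv.uniq act_one e) (by decide)
  replace a1 := a1.comp (act_ev.2 b1)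
  replace g1 := g1.comp (act_ev.2 b2)
  replace g2 := g2.comp (act_ev.2 b3)
  obtain ⟨d, d1, d2⟩ := sw_ex g1 g2 cy
  obtain ⟨c', -, b1, b2, b3, b4⟩ := (y_chk d d2 (((d1.mul d1).mul d1).uniq act_one)
    ((((a1.mul d1).mul a1).mul ((a1.mul d1).mul a1)).uniq act_one)).resolve_left
      fun e => absurd ((d1.mul a1).inv.uniq (a1.mul d1).inv e) (by decide +kernel)
  replace a1 := a1.comp (act_ev.2 b2)
  replace d1 := d1.comp (act_ev.2 b1)
  replace g1 := g1.comp (act_ev.2 b3)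
  replace g2 := g2.comp (act_ev.2 b4)
  generalize M.ev c' * (M.ev c * g) = k at a1 d1 g1 g2
  obtain ⟨q, e⟩ := M.cent _ (g1.comp g2)
  have h1 : M.Act k q q := by rw [Act, e, mul_assoc]
  have h2 := k_chk q (act_ev.1 (e ▸ g2.comp g1)) (act_ev.1 (e ▸ a1.comp a1)) (act_ev.1 (e ▸ d1.comp d1))
  simp only [LV, List.mem_cons, List.not_mem_nil, or_false] at h2
  rcases h2 with rfl | rfl | rfl | rfl
  · refine ⟨k * M.ev ct, (act_ev.2 rfl).comp g1, (act_ev.2 (t_chk _).symm).comp g2,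
      (act_ev.2 (t_chk _).symm).comp a1, (act_ev.2 (t_chk _).symm).comp d1, ?_⟩
    rw [← mul_assoc, show k * M.ev ct = _ from g1, mul_assoc _ k k, ← e, ev_one, mul_one, ← M.mul, t_chk]
  · exact absurd (h1.uniq g1) (by decide)
  · exact absurd (h1.uniq g2) (by decide)
  · exact ⟨k, g1, g2, a1, d1, e.symm⟩

namespace Kk

variable (H : M.Kk k)
include H

theorem tz : M.Act k (ct * cz) (ct * cz) := by
  obtain ⟨b, h, e⟩ := sw_ex H.t H.s (ct * cz)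
  have h1 : M.Act k cz (cs * b) := (H.t.mul h).cg _ _ ⟨by decide +kernel, rfl⟩
  exact z_chk b e ((h.mul H.x).uniq ((H.x.mul H.x).mul h)) ((h.mul H.y).uniq ((H.y.mul H.y).mul h))
    h.tc h1.tc (h.mul H.s).tc ▸ h

theorem v2 : M.Act k (cz * cs) (cz * cs) := ((H.t.mul H.tz).mul H.s).cg _ _

theorem not_conj : ¬ IsConj (M.ev ct) (M.ev (cz * cs) * (k * M.ev ct)) := fun h => by
  have kw := ((H.x.mul H.y).mul H.x).cg cw cw
  have kf := ((H.t.mul kw).mul H.s).cg (ct * cw * cs) (ct * cw * cs)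
  have ca := (act_ev.2 (t_chk cn)).inv.comp H.t
  have cb := (act_ev.2 (by decide +kernel : cn * (ct * cz) = cz * cn)).inv.comp H.tz
  have cc := (act_ev.2 (by decide +kernel : cn * cw = cw * cn)).inv.comp kw
  have cd := (act_ev.2 (by decide +kernel : cn * (ct * cw * cs) = cs * cn)).inv.comp kf
  have cf := (act_ev.2 (by decide +kernel : cn * cs = ct * cw * cs * cn)).inv.comp H.s
  generalize k * (M.ev cn)⁻¹ = c at ca cb cc cd cf
  obtain ⟨K, e⟩ := cf.ex' kf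
  obtain ⟨A, hA⟩ := cf.ex (cx * cx * cy)
  obtain ⟨h1, h2, h3⟩ := e_chk K (ca.tr e H.t cd)
    (cb.tr e ((H.t.mul H.tz).cg _ _) ((cd.mul (ca.mul cb)).cg (cs * (ct * cz)) (cz * cw))) (cc.tr e kw cc)
    (M.inj (by
      rw [M.mul, e, conj_mul, H.sq, ((ca.mul cd).cg (ct * cs) (ct * cw)).conj]))
    A ((hA.mul ca).uniq (ca.mul hA)) ((hA.mul cb).uniq ((cb.mul cc).mul hA)) ((hA.mul cc).uniq (cc.mul hA))
    (hA.tr e ((H.x.mul H.x).mul H.y) hA)
  rw [← Bool.not_eq_true, ← M.cls _ h1 h2] at h3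
  refine h3 (h.trans (isConj_iff.2 ⟨c, ?_⟩))
  rw [M.mul (cz * cw * cs * K) cs, M.mul (cz * cw * cs) K, e, ← ca.conj, ← ((cb.mul cd).cg (cz * cs) (cz * cw * cs)).conj]
  group

end Kk

variable (M) in
/-- The centralizer of `x₀`, `v₂` and `v'`. -/
abbrev S1 : Subgroup G := C1 (M.ev cx) ⊓ C1 (M.ev (cz * cs)) ⊓ C1 (M.ev (ct * cs))

theorem mem_S1 : n ∈ M.S1 ↔ (M.Act n cx cx ∧ M.Act n (cz * cs) (cz * cs)) ∧ M.Act n (ct * cs) (ct * cs) := by
  simp only [mem_inf, mem_centralizer_singleton_iff, Act]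

theorem four (h : n ∈ M.S1) : n ^ 4 = 1 := by
  obtain ⟨⟨-, h1⟩, h2⟩ := mem_S1.1 h
  obtain ⟨h3, ⟨b, hb, h4⟩, -⟩ := M.exists_g
  obtain ⟨y, e⟩ := h3.ex' ((h1.mul h2).cg _ _)
  have h5 := congrArg M.ev (four_chk b hb y (h4.tr e h2 h4))
  rw [M.mul, M.mul, e, ev_one, conj_mul, conj_mul, conj_eq_one_iff] at h5
  rw [← h5, pow_succ, pow_three, mul_assoc, mul_assoc, mul_assoc]

variable (M) in
/-- The elements permuting `t` and `σ`. -/
def S : Subgroup G where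
  carrier := {n | n ∈ M.S1 ∧ ((M.Act n ct ct ∧ M.Act n cs cs) ∨ (M.Act n ct cs ∧ M.Act n cs ct))}
  one_mem' := ⟨one_mem _, .inl ⟨by simp [Act], by simp [Act]⟩⟩
  mul_mem' := fun ⟨h1, h2⟩ ⟨h3, h4⟩ => ⟨mul_mem h1 h3, by
    rcases h2 with h2 | h2 <;> rcases h4 with h4 | h4
    exacts [.inl ⟨h4.1.comp h2.1, h4.2.comp h2.2⟩, .inr ⟨h4.1.comp h2.2, h4.2.comp h2.1⟩,
      .inr ⟨h4.1.comp h2.1, h4.2.comp h2.2⟩, .inl ⟨h4.1.comp h2.2, h4.2.comp h2.1⟩]⟩
  inv_mem' := fun ⟨h1, h2⟩ => ⟨inv_mem h1, h2.imp (fun h => ⟨h.1.inv, h.2.inv⟩) fun h => ⟨h.2.inv, h.1.inv⟩⟩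

theorem mem_V (h : n ∈ M.S1) (h1 : M.Act n ct ct) : ∃ a ∈ LV, M.ev a = n := by
  obtain ⟨a, rfl⟩ := M.cent n h1
  obtain ⟨⟨h2, h3⟩, h4⟩ := mem_S1.1 h
  exact ⟨a, v_chk a (act_ev.1 h2) (act_ev.1 h3) (act_ev.1 h4), rfl⟩

namespace Kk

variable (H : M.Kk k)
include H

theorem v1 : M.Act k (ct * cs) (ct * cs) := (H.t.mul H.s).cg _ _

theorem key (hw : w ∈ M.S) (h2 : w * w = 1) (h3 : IsConj (M.ev ct) (M.ev (cz * cs) * w)) :
    ∃ a ∈ LV, M.ev a = w := by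
  rcases hw.2 with h | h
  · exact mem_V hw.1 h.1
  obtain ⟨a, ha, e⟩ := mem_V (mul_mem (inv_mem (mem_S1.2 ⟨⟨H.x, H.v2⟩, H.v1⟩)) hw.1) (h.1.comp H.t.inv)
  obtain rfl := (eq_inv_mul_iff_mul_eq.1 e).symm
  simp only [LV, List.mem_cons, List.not_mem_nil, or_false] at ha
  rcases ha with rfl | rfl | rfl | rfl
  · rw [ev_one, mul_one, H.sq, ← ev_one (M := M)] at h2
    exact absurd (M.inj h2) (by decide +kernel)
  · exact (H.not_conj h3).elim
  · refine (H.not_conj (h3.trans (isConj_iff.2 ⟨k, ?_⟩).symm)).elim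
    rw [← conj_mul, H.v2.conj, ← conj_mul, H.t.conj, mul_inv_cancel_right]
  · rw [mul_assoc, ← mul_assoc _ k, ← show _ = _ from H.v1, mul_assoc, ← mul_assoc, H.sq, ← M.mul, ← M.mul,
      ← ev_one (M := M)] at h2
    exact absurd (M.inj h2) (by decide +kernel)

variable [Finite G]

theorem S1_le : M.S1 ≤ M.S := by_contra fun h => by
  obtain ⟨n, hn, h1⟩ := SetLike.exists_of_lt (lt_inf_normalizer (p := 2) (S := M.S1)
    (fun x => ⟨2, Subtype.ext (four x.2)⟩) (lt_of_le_not_ge (show M.S ≤ M.S1 from fun _ h => And.left h) h))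
  obtain ⟨⟨h2, h3⟩, h4⟩ := mem_S1.1 hn.1
  obtain ⟨a, ha, e⟩ := H.key (mem_normalizer_conj hn.2 (x := M.ev ct) ⟨mem_S1.2 ⟨⟨act_ev.2 (t_chk _).symm,
    act_ev.2 (t_chk _).symm⟩, act_ev.2 (t_chk _).symm⟩, .inl ⟨act_ev.2 rfl, act_ev.2 (t_chk _).symm⟩⟩)
    (by rw [conj_mul, ← M.mul, show ct * ct = c1 by decide +kernel, ev_one]; simp)
    (((M.cls (cz * cs * ct) (by decide +kernel) (by decide +kernel)).2 (by decide +kernel)).trans
      (isConj_iff.2 ⟨n, by rw [M.mul, ← conj_mul, h3.conj]⟩))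
  have h5 : M.Act n ct a := mul_inv_eq_iff_eq_mul.1 e.symm
  rcases (by decide +kernel : ∀ a ∈ LV, tc ct = tc a → a = ct ∨ a = cs) a ha h5.tc with rfl | rfl
  exacts [h1 ⟨hn.1, .inl ⟨h5, (h5.mul h4).cg _ _⟩⟩, h1 ⟨hn.1, .inr ⟨h5, (h5.mul h4).cg _ _⟩⟩]

theorem comm : M.ev cr * (k * M.ev cr * k⁻¹) = k * M.ev cr * k⁻¹ * M.ev cr := by
  have hY : ∀ {n}, n ∈ C1 (M.ev cx) ⊓ C1 (M.ev (cz * cs)) ↔ M.Act n cx cx ∧ M.Act n (cz * cs) (cz * cs) := by
    simp only [mem_inf, mem_centralizer_singleton_iff, Act, implies_true]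
  have hr := hY.2 ⟨act_ev.2 (by decide +kernel : cr * cx = cx * cr), act_ev.2 (by decide +kernel)⟩
  have hk := hY.2 ⟨H.x, H.v2⟩
  have hv := hY.2 ⟨act_ev.2 (by decide +kernel : ct * cs * cx = cx * (ct * cs)), act_ev.2 (by decide +kernel)⟩
  have h1 : M.ev cr ^ 3 = 1 := by
    rw [pow_three, ← M.mul, ← M.mul, show cr * (cr * cr) = c1 by decide +kernel, ev_one]
  have h2 : M.ev (ct * cs) * M.ev cr * (M.ev (ct * cs))⁻¹ = (M.ev cr)⁻¹ := by
    rw [(act_ev.2 (by decide +kernel : ct * cs * cr = cr * cr * (ct * cs))).conj, M.mul,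
      eq_inv_iff_mul_eq_one, ← h1, pow_three']
  have h3 : M.ev (ct * cs) * M.ev (ct * cs) = 1 := by
    rw [← M.mul, show ct * cs * (ct * cs) = c1 by decide +kernel, ev_one]
  refine congrArg Subtype.val (comm_of_iso (H := ↥(C1 (M.ev cx) ⊓ C1 (M.ev (cz * cs)))) (v := ⟨_, hv⟩)
    (r := ⟨_, hr⟩) (r' := ⟨_, mul_mem (mul_mem hk hr) (inv_mem hk)⟩)
    ⟨orderOf_eq_prime (Subtype.ext ((pow_two _).trans h3))
      fun e => absurd (M.inj ((congrArg Subtype.val e).trans ev_one.symm)) (by decide +kernel),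
      fun g e => Subtype.ext ?_⟩ (fun x e => Subtype.ext (four ⟨x.2, mem_centralizer_singleton_iff.2
        (congrArg Subtype.val e)⟩)) (Subtype.ext h1) (Subtype.ext h2) (Subtype.ext
      (show (k * M.ev cr * k⁻¹) ^ 3 = 1 by rw [conj_pow, h1]; simp)) (Subtype.ext ?_))
  · obtain ⟨a, ha, e'⟩ := H.key (H.S1_le ⟨Subgroup.mul_mem _ (mul_mem g.2 hv) (inv_mem g.2),
      mem_centralizer_singleton_iff.2 (congrArg Subtype.val e.symm)⟩) (by rw [conj_mul, h3]; simp)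
      (((M.cls (cz * cs * (ct * cs)) (by decide +kernel) (by decide +kernel)).2 (by decide +kernel)).trans
        (isConj_iff.2 ⟨g, by rw [M.mul (cz * cs) (ct * cs), ← conj_mul, (hY.1 g.2).2.conj]⟩))
    have h5 : M.Act g (ct * cs) a := mul_inv_eq_iff_eq_mul.1 e'.symm
    rcases (by decide +kernel : ∀ a ∈ LV, tc (ct * cs) = tc a → a = c1 ∨ a = ct * cs) a ha h5.tc with rfl | rfl
    · exact absurd (h5.inv.uniq act_one) (by decide +kernel)
    · exact h5.conj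
  · change M.ev (ct * cs) * (k * M.ev cr * k⁻¹) * (M.ev (ct * cs))⁻¹ = (k * M.ev cr * k⁻¹)⁻¹
    rw [← H.v1.conj, conj_inv, conj_mul, conj_mul, h2, conj_inv]

end Kk

variable (M) in
theorem main [Finite G] : ∃ y, y ≠ 1 ∧ y ^ 3 = 1 ∧ Commute (M.ev (cx * cr)) y ∧
    M.ev cz * y * (M.ev cz)⁻¹ = y ∧ M.ev ct * y * (M.ev ct)⁻¹ = y⁻¹ ∧ M.ev cs * y * (M.ev cs)⁻¹ = y := by
  obtain ⟨k, H⟩ := M.exists_k
  have h1 : M.ev cr ^ 3 = 1 := by
    rw [pow_three, ← M.mul, ← M.mul, show cr * (cr * cr) = c1 by decide +kernel, ev_one]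
  have h2 : ∀ a b c, M.Act k a b → a * cr = c * a →
      M.ev b * (k * M.ev cr * k⁻¹) * (M.ev b)⁻¹ = k * M.ev c * k⁻¹ := fun a b c h e => by
    rw [← h.conj, conj_inv, conj_mul, conj_mul, (act_ev.2 e).conj]
  refine ⟨k * M.ev cr * k⁻¹, fun e => absurd (M.inj ((conj_eq_one_iff.1 e).trans ev_one.symm))
    (by decide +kernel), by rw [conj_pow, h1]; simp, ?_, h2 _ _ _ ((H.tz.mul H.s).cg (ct * cz * cs) cz)
    (by decide +kernel), ?_, h2 _ _ _ H.t (t_chk _).symm⟩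
  · rw [M.mul]
    exact Commute.mul_left (mul_inv_eq_iff_eq_mul.1 (h2 _ _ _ H.x (by decide +kernel))) H.comm
  · rw [h2 _ _ (cr * cr) H.s (by decide +kernel), conj_inv, M.mul, eq_inv_of_mul_eq_one_left
      (show M.ev cr * M.ev cr * M.ev cr = 1 by rw [← h1, pow_three'])]

end Mo

end Cfsg.Lib.L45.Q3
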